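import Cfsg.Agent.Lib.OddLocal.TypePBasic
import Cfsg.Agent.Lib.Coprime.SchurZassenhaus

/-!
The five types of maximal subgroups exclude each other.
-/

set_option autoImplicit false
set_option linter.style.haveILetI false

namespace CfsgLib.Peterfalvi

open Cfsg
open scoped Pointwise

variable {G : Type*} [Group G] {M W₁ U W₂ W₁' U' W₂' : Subgroup G}

theorem fittingHall_isNilpotent [Finite G] : Group.IsNilpotent (fittingHall G) := by
  have hle : fittingHall G ≤ fittingSubgroup G := sSup_le fun N hN =>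
    Fitting.le_fittingSubgroup hN.1 hN.2.1
  haveI := Fitting.fittingSubgroup_isNilpotent (G := G)
  exact Subgroup.isNilpotent_of_ker_le_center (Subgroup.inclusion hle)
    (by rw [(MonoidHom.ker_eq_bot_iff _).mpr (Subgroup.inclusion_injective hle)]; exact bot_le)

theorem fittingHallOf_isNilpotent [Finite G] (M : Subgroup G) :
    Group.IsNilpotent (fittingHallOf M) := by
  haveI := fittingHall_isNilpotent (G := M)
  exact Group.nilpotent_of_mulEquiv
    ((fittingHall M).equivMapOfInjective M.subtype M.subtype_injective)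

theorem fittingHallOf_le (M : Subgroup G) : fittingHallOf M ≤ M := Subgroup.map_subtype_le _

theorem le_normalizer_fittingHallOf (M : Subgroup G) :
    M ≤ Subgroup.normalizer (fittingHallOf M : Set G) := by
  rw [Subgroup.le_normalizer_iff]
  rintro m hm _ ⟨x, hx, rfl⟩
  exact ⟨(⟨m, hm⟩ : M) * x * (⟨m, hm⟩ : M)⁻¹, Subgroup.Normal.conj_mem inferInstance x hx _, rfl⟩

theorem le_of_typeP (hP : IsTypePWith M W₁ U W₂) :
    W₁ ≤ M ∧ U ≤ M ∧ W₂ ≤ M ∧ W₂ ≤ fittingHallOf M :=
  ⟨hP.W₁_compl.2.1, hP.U_compl.2.1.trans (Subgroup.commutator_le_self M),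
    (hP.W₂_le.trans inf_le_left).trans (fittingHallOf_le M), hP.W₂_le.trans inf_le_left⟩

theorem W₂_ne_of_typeP (hP : IsTypePWith M W₁ U W₂) : W₂ ≠ ⊥ := hP.selfNormalizing.2.1

theorem fittingHallOf_ne_bot_of_typeP (hP : IsTypePWith M W₁ U W₂) : fittingHallOf M ≠ ⊥ :=
  fun h => W₂_ne_of_typeP hP (eq_bot_iff.mpr ((le_of_typeP hP).2.2.2.trans h.le))

theorem fittingHallOf_ne_bot_of_typeI (hI : IsOfTypeI M) : fittingHallOf M ≠ ⊥ := fun h =>
  hI.1.2.2.1 (by rwa [fittingHallOf, Subgroup.map_eq_bot_iff_of_injective _ M.subtype_injective] at h)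

/-- In a group of type P every element of prime order dividing `|W₁|` centralizes some
non-identity element of `M_F`. -/
theorem exists_commute_of_prime_dvd [Finite G] (hP : IsTypePWith M W₁ U W₂) {q : ℕ} (hq : q.Prime)
    (hd : q ∣ Nat.card W₁) {u : G} (hu : u ∈ M) (hou : orderOf u = q) :
    ∃ x ∈ fittingHallOf M, x ≠ 1 ∧ u * x = x * u := by
  haveI := Fact.mk hq
  obtain ⟨hW₁M, -, -, hW₂H⟩ := le_of_typeP hP
  have hsub : Nat.card (W₁.subgroupOf M) = Nat.card W₁ :=
    Nat.card_congr (Subgroup.subgroupOfEquivOfLe hW₁M).toEquiv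
  -- a Sylow subgroup of `W₁` is a Sylow subgroup of `M`
  obtain ⟨Q⟩ : Nonempty (Sylow q (W₁.subgroupOf M)) := inferInstance
  have hQcard : Nat.card ((Q : Subgroup (W₁.subgroupOf M)).map (W₁.subgroupOf M).subtype) =
      q ^ (Nat.card M).factorization q := by
    rw [Subgroup.card_map_of_injective (W₁.subgroupOf M).subtype_injective, Q.card_eq_multiplicity,
      ← Subgroup.card_mul_index (W₁.subgroupOf M), Nat.factorization_mul Nat.card_pos.ne'
        Subgroup.index_ne_zero_of_finite]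
    rw [Finsupp.add_apply, hsub]
    rw [Nat.factorization_eq_zero_of_not_dvd (n := (W₁.subgroupOf M).index) fun h =>
      (Nat.Prime.not_coprime_iff_dvd).mpr ⟨q, hq, hd, h⟩ hP.W₁_hall, add_zero]
  let Q' : Sylow q M := Sylow.ofCard _ hQcard
  have huM : IsPGroup q (Subgroup.zpowers (⟨u, hu⟩ : M)) := by
    refine IsPGroup.of_card (n := 1) ?_
    rw [Nat.card_zpowers, Subgroup.orderOf_mk, hou, pow_one]
  obtain ⟨R, hR⟩ := huM.exists_le_sylow
  obtain ⟨m, hm⟩ := MulAction.exists_smul_eq M R Q'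
  have hw : (m : G) * u * (m : G)⁻¹ ∈ W₁ := by
    have h1 : MulAut.conj m (⟨u, hu⟩ : M) ∈ (Q' : Subgroup M) := by
      rw [← hm]
      exact Subgroup.smul_mem_pointwise_smul _ (MulAut.conj m) _ (hR (Subgroup.mem_zpowers _))
    obtain ⟨w, -, hwe⟩ := h1
    have := congrArg Subtype.val hwe
    simp only [MulAut.conj_apply, Subgroup.coe_mul, InvMemClass.coe_inv] at this
    rw [← this]
    exact w.2
  obtain ⟨⟨y, hy⟩, hy1⟩ := W₂.ne_bot_iff_exists_ne_one.mp (W₂_ne_of_typeP hP)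
  have hc := hP.selfNormalizing.2.2.2.1 _ hw y hy
  refine ⟨(m : G)⁻¹ * y * m, ?_, fun h => hy1 (Subtype.ext ?_), ?_⟩
  · have := Subgroup.le_normalizer_iff.mp (le_normalizer_fittingHallOf M) (m : G)⁻¹
      (inv_mem m.2) y (hW₂H hy)
    simpa using this
  · have : y = (m : G) * ((m : G)⁻¹ * y * m) * (m : G)⁻¹ := by group
    rw [h] at this
    simpa using this
  · calc u * ((m : G)⁻¹ * y * m) = (m : G)⁻¹ * ((m : G) * u * (m : G)⁻¹ * y) * m := by group
      _ = (m : G)⁻¹ * (y * ((m : G) * u * (m : G)⁻¹)) * m := by rw [hc]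
      _ = _ := by group

/-- A subgroup of type I is not of type P. -/
theorem not_typeP_of_typeI [Finite G] (hI : IsOfTypeI M) : ¬ IsTypePWith M W₁ U W₂ := fun hP => by
  obtain ⟨-, -, -, -, V, -, hcompl, -, V₀, hV₀, hexp, hfpf⟩ := hI.1
  obtain ⟨hW₁M, -, -, -⟩ := le_of_typeP hP
  obtain ⟨q, hq, hd⟩ := Nat.exists_prime_and_dvd
    (fun e => hP.W₁_ne (Subgroup.card_eq_one.mp e))
  haveI := Fact.mk hq
  -- `q` divides the exponent of the complement
  have hHM' : fittingHallOf M ≤ ⁅M, M⁆ :=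
    le_trans (le_sup_left.trans hP.fitting_eq.le) hP.fitting_le
  have hinf : W₁ ⊓ fittingHallOf M = ⊥ := eq_bot_iff.mpr
    ((inf_le_inf_left _ hHM').trans (by rw [inf_comm, hP.W₁_compl.2.2.1]))
  have hqV : q ∣ Nat.card V := by
    rw [← hcompl.symm.index_eq_card]
    refine hd.trans ?_
    have hdisj : W₁.subgroupOf M ⊓ fittingHall M = ⊥ := by
      rw [eq_bot_iff]
      rintro x ⟨hx1, hx2⟩
      have : (x : G) ∈ W₁ ⊓ fittingHallOf M := ⟨hx1, ⟨x, hx2, rfl⟩⟩
      rw [hinf, Subgroup.mem_bot] at this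
      exact Subtype.ext this
    rw [← Nat.card_congr (Subgroup.subgroupOfEquivOfLe hW₁M).toEquiv]
    have h := Subgroup.relIndex_dvd_index_of_normal (fittingHall M) (W₁.subgroupOf M)
    rwa [← Subgroup.inf_relIndex_right, inf_comm, hdisj, Subgroup.relIndex_bot_left] at h
  have hqV₀ : q ∣ Nat.card V₀ := by
    have : q ∣ Monoid.exponent V := by
      obtain ⟨v, hv⟩ := exists_prime_orderOf_dvd_card' q hqV
      exact hv ▸ Monoid.order_dvd_exponent v
    exact (hexp ▸ this).trans Group.exponent_dvd_nat_card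
  obtain ⟨u, hu⟩ := exists_prime_orderOf_dvd_card' q hqV₀
  have hu1 : (u : M) ≠ 1 := fun h => by
    have : u = 1 := Subtype.ext h
    rw [this, orderOf_one] at hu
    exact hq.ne_one hu.symm
  obtain ⟨_, ⟨x, hx, rfl⟩, hx1, hcomm⟩ := exists_commute_of_prime_dvd hP hq hd (u := ((u : M) : G))
    (u : M).2 (by rw [Subgroup.orderOf_coe, Subgroup.orderOf_coe, hu])
  exact hx1 (by rw [hfpf u u.2 hu1 x hx (Subtype.ext hcomm)]; rfl)

theorem not_typeI_of_typeP [Finite G] (hP : IsTypePWith M W₁ U W₂) : ¬ IsOfTypeI M :=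
  fun hI => not_typeP_of_typeI hI hP

theorem not_typeIII_or_IV_of_typeI [Finite G] (hI : IsOfTypeI M) :
    ¬ (IsOfTypeIII M ∨ IsOfTypeIV M) := by
  rintro (⟨_, _, _, hP, -⟩ | ⟨_, _, _, hP, -⟩) <;> exact not_typeP_of_typeI hI hP

theorem typeCore_of_typeI [Finite G] (hI : IsOfTypeI M) : typeCore M = fittingHallOf M := by
  rw [typeCore, if_neg (not_typeIII_or_IV_of_typeI hI)]

theorem sup_eq_of_isComplIn {A B : Subgroup G} (h : IsComplIn A B M) : A ⊔ B = M :=
  le_antisymm (sup_le h.1 h.2.1) fun m hm => by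
    obtain ⟨a, ha, b, hb, rfl⟩ := h.2.2.2 m hm
    exact mul_mem (Subgroup.mem_sup_left ha) (Subgroup.mem_sup_right hb)

/-- The nilpotent complements `U` of two sets of type-P data are conjugate in `M`. -/
theorem exists_conj_U [Finite G] (hP : IsTypePWith M W₁ U W₂) (hP' : IsTypePWith M W₁' U' W₂') :
    ∃ m ∈ M, MulAut.conj m • U = U' := by
  haveI := fittingHallOf_isNilpotent M
  obtain ⟨m, hm, he⟩ := Coprime.exists_conj_of_coprime (N := fittingHallOf M) (H := U) (K := U')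
    ((le_of_typeP hP).2.1.trans (le_normalizer_fittingHallOf M))
    (OddLocal.card_coprime_of_typeP hP) (OddLocal.card_coprime_of_typeP hP')
    (by rw [sup_eq_of_isComplIn hP.U_compl, sup_eq_of_isComplIn hP'.U_compl])
    (Or.inl inferInstance)
  exact ⟨m, fittingHallOf_le M hm, he⟩

theorem normalizer_le_iff_of_typeP [Finite G] (hP : IsTypePWith M W₁ U W₂)
    (hP' : IsTypePWith M W₁' U' W₂') :
    Subgroup.normalizer (U : Set G) ≤ M ↔ Subgroup.normalizer (U' : Set G) ≤ M := by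
  suffices h : ∀ {X₁ X Y₁ X' Y Y₂ : Subgroup G}, IsTypePWith M X₁ X Y₁ → IsTypePWith M X' Y Y₂ →
      Subgroup.normalizer (Y : Set G) ≤ M → Subgroup.normalizer (X : Set G) ≤ M from
    ⟨h hP' hP, h hP hP'⟩
  intro X₁ X Y₁ X' Y Y₂ hX hY hle g hg
  obtain ⟨m, hm, rfl⟩ := exists_conj_U hX hY
  have : m * g * m⁻¹ ∈ Subgroup.normalizer ((MulAut.conj m • X : Subgroup G) : Set G) := by
    rw [Subgroup.mem_normalizer_iff]
    intro x
    rw [Coprime.mem_conj_smul_iff, Coprime.mem_conj_smul_iff,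
      show m⁻¹ * (m * g * m⁻¹ * x * (m * g * m⁻¹)⁻¹) * m = g * (m⁻¹ * x * m) * g⁻¹ by group]
    exact Subgroup.mem_normalizer_iff.mp hg _
  have h2 := mul_mem (mul_mem (inv_mem hm) (hle this)) hm
  rwa [show m⁻¹ * (m * g * m⁻¹) * m = g by group] at h2

/-- Type II excludes types III and IV. -/
theorem not_typeIII_or_IV_of_typeII [Finite G] (h : IsOfTypeII M) :
    ¬ (IsOfTypeIII M ∨ IsOfTypeIV M) := by
  obtain ⟨_, _, _, hP, -, -, -, -, hn, -⟩ := h
  rintro (⟨_, _, _, hP', -, -, -, -, hn'⟩ | ⟨_, _, _, hP', -, -, -, -, hn'⟩) <;>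
    exact hn ((normalizer_le_iff_of_typeP hP hP').mpr hn')

theorem typeCore_of_typeII [Finite G] (h : IsOfTypeII M) : typeCore M = fittingHallOf M := by
  rw [typeCore, if_neg (not_typeIII_or_IV_of_typeII h)]

theorem derived_eq_of_U_eq_bot (hP : IsTypePWith M W₁ U W₂) (hU : U = ⊥) :
    ⁅M, M⁆ = fittingHallOf M := by
  rw [← sup_eq_of_isComplIn hP.U_compl, hU, sup_bot_eq]

theorem typeCore_of_typeV [Finite G] (h : IsOfTypeV M) : typeCore M = fittingHallOf M := by
  obtain ⟨_, _, _, hP, hU, -⟩ := h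
  rw [typeCore]
  split_ifs with hh
  · exact derived_eq_of_U_eq_bot hP hU
  · rfl

end CfsgLib.Peterfalvi
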