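import Cfsg.Agent.Lib.Peterfalvi.TypeExclusive
import Cfsg.Agent.Lib.OddLocal.MinSimple
import Cfsg.Agent.S1497
import Cfsg.Prelude.Def_OddOrderChar

/-!
The sets `A₁(M) ⊆ A(M) ⊆ A₀(M)` and the Dade hypothesis they satisfy.
-/

set_option autoImplicit false
set_option linter.style.haveILetI false
set_option linter.unusedSectionVars false

namespace CfsgLib.Peterfalvi

open Cfsg
open scoped Pointwise

variable {G : Type*} [Group G] {M : Subgroup G}

theorem typeCore_le (M : Subgroup G) : typeCore M ≤ M := by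
  rw [typeCore]
  split_ifs
  · exact Subgroup.commutator_le_self M
  · exact fittingHallOf_le M

theorem le_normalizer_derived (M : Subgroup G) : M ≤ Subgroup.normalizer ((⁅M, M⁆ : Subgroup G) : Set G) := by
  intro m hm
  rw [Subgroup.mem_normalizer_iff_map_conj_eq, Subgroup.map_commutator]
  have hM := Subgroup.mem_normalizer_iff_map_conj_eq.mp (Subgroup.le_normalizer hm)
  rw [hM]

theorem le_normalizer_typeCore (M : Subgroup G) : M ≤ Subgroup.normalizer (typeCore M : Set G) := by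
  rw [typeCore]
  split_ifs
  · exact le_normalizer_derived M
  · exact le_normalizer_fittingHallOf M

theorem typeCore_le_derived_of_typeP [Finite G] {W₁ U W₂ : Subgroup G}
    (hP : IsTypePWith M W₁ U W₂) : typeCore M ≤ ⁅M, M⁆ := by
  rw [typeCore]
  split_ifs
  · exact le_rfl
  · exact (le_sup_left.trans hP.fitting_eq.le).trans hP.fitting_le

/-- Every maximal subgroup is of type I or of type P (the shape of BG, Theorem I). -/
def TypeCases (M : Subgroup G) : Prop := IsOfTypeI M ∨ IsOfTypeP M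

theorem fittingHallOf_ne_bot (hc : TypeCases M) : fittingHallOf M ≠ ⊥ := by
  rcases hc with h | ⟨_, _, _, h⟩
  · exact fittingHallOf_ne_bot_of_typeI h
  · exact fittingHallOf_ne_bot_of_typeP h

theorem fittingHallOf_le_typeCore [Finite G] (hc : TypeCases M) :
    fittingHallOf M ≤ typeCore M := by
  rcases hc with h | ⟨_, _, _, h⟩
  · exact (typeCore_of_typeI h).ge
  · rw [typeCore]
    split_ifs
    · exact (le_sup_left.trans h.fitting_eq.le).trans h.fitting_le
    · exact le_rfl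

theorem typeA1_nonempty [Finite G] (hc : TypeCases M) : (typeA1 M).Nonempty := by
  obtain ⟨⟨x, hx⟩, hx1⟩ :=
    (Subgroup.ne_bot_iff_exists_ne_one).mp (fittingHallOf_ne_bot hc)
  exact ⟨x, fittingHallOf_le_typeCore hc hx, fun h => hx1 (Subtype.ext h)⟩

theorem typeA1_subset_typeA [Finite G] (hc : TypeCases M) : typeA1 M ⊆ typeA M := by
  rintro x ⟨hx, hx1⟩
  have hx1' : x ≠ 1 := hx1
  by_cases hI : IsOfTypeI M
  · rw [typeA, if_pos hI]
    rw [typeCore_of_typeI hI] at hx
    exact ⟨fittingHallOf_le M hx, hx1', x, hx, hx1', rfl⟩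
  · obtain ⟨_, _, _, hP⟩ := hc.resolve_left hI
    rw [typeA, if_neg hI]
    exact ⟨typeCore_le_derived_of_typeP hP hx, hx1', x, hx, hx1', rfl⟩

theorem typeA_subset (M : Subgroup G) : typeA M ⊆ (M : Set G) := by
  intro x hx
  rw [typeA] at hx
  split_ifs at hx
  · exact hx.1
  · exact Subgroup.commutator_le_self M hx.1

theorem typeA_subset_typeA0 (M : Subgroup G) : typeA M ⊆ typeA0 M := Set.subset_union_left

theorem one_notMem_typeA (M : Subgroup G) : (1 : G) ∉ typeA M := by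
  intro h
  rw [typeA] at h
  split_ifs at h <;> exact h.2.1 rfl

theorem typeA0_subset (M : Subgroup G) : typeA0 M ⊆ (M : Set G) := by
  rintro x (hx | ⟨-, W₁, U, W₂, hP, m, hm, w, hw, -, -, rfl⟩)
  · exact typeA_subset M hx
  · obtain ⟨h1, -, h2, -⟩ := le_of_typeP hP
    exact mul_mem (mul_mem hm (sup_le h1 h2 hw)) (inv_mem hm)

theorem one_notMem_typeA0 (M : Subgroup G) : (1 : G) ∉ typeA0 M := by
  rintro (h | ⟨-, W₁, U, W₂, -, m, -, w, -, hw, -, h⟩)
  · exact one_notMem_typeA M h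
  · exact hw (by rw [conj_eq_one_iff.mp h.symm]; exact one_mem _)

theorem conj_ne_one {m x : G} (h : x ≠ 1) : m * x * m⁻¹ ≠ 1 := fun e => h (conj_eq_one_iff.mp e)

theorem conj_mem_typeA1 {m x : G} (hm : m ∈ M) (hx : x ∈ typeA1 M) : m * x * m⁻¹ ∈ typeA1 M :=
  ⟨Subgroup.le_normalizer_iff.mp (le_normalizer_typeCore M) m hm x hx.1, conj_ne_one hx.2⟩

theorem conj_mem_typeA {m x : G} (hm : m ∈ M) (hx : x ∈ typeA M) : m * x * m⁻¹ ∈ typeA M := by
  rw [typeA] at hx ⊢
  split_ifs at hx ⊢ with hI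
  · obtain ⟨hxM, hx1, y, hy, hy1, hxy⟩ := hx
    exact ⟨mul_mem (mul_mem hm hxM) (inv_mem hm), conj_ne_one hx1, m * y * m⁻¹,
      Subgroup.le_normalizer_iff.mp (le_normalizer_fittingHallOf M) m hm y hy, conj_ne_one hy1,
      by simp only [conj_mul, hxy]⟩
  · obtain ⟨hxM, hx1, y, hy, hy1, hxy⟩ := hx
    exact ⟨Subgroup.le_normalizer_iff.mp (le_normalizer_derived M) m hm x hxM, conj_ne_one hx1,
      m * y * m⁻¹, Subgroup.le_normalizer_iff.mp (le_normalizer_typeCore M) m hm y hy,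
      conj_ne_one hy1, by simp only [conj_mul, hxy]⟩

theorem conj_mem_typeA0 {m x : G} (hm : m ∈ M) (hx : x ∈ typeA0 M) : m * x * m⁻¹ ∈ typeA0 M := by
  rcases hx with hx | ⟨hI, W₁, U, W₂, hP, n, hn, w, hw, hw1, hw2, rfl⟩
  · exact Or.inl (conj_mem_typeA hm hx)
  · exact Or.inr ⟨hI, W₁, U, W₂, hP, m * n, mul_mem hm hn, w, hw, hw1, hw2, by group⟩

section Normalizer

variable [Finite G] (hG : IsMinSimpleOddOrder G) (hM : IsCoatom M)
include hG hM

theorem normalizer_eq {A : Set G} (hsub : A ⊆ (M : Set G)) (h1 : (1 : G) ∉ A) (hne : A.Nonempty)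
    (hconj : ∀ m ∈ M, ∀ a ∈ A, m * a * m⁻¹ ∈ A) : Subgroup.normalizer A = M := by
  have hle : M ≤ Subgroup.normalizer A := Subgroup.le_set_normalizer_iff.mpr hconj
  rcases eq_or_lt_of_le hle with h | h
  · exact h.symm
  exfalso
  have htop := hM.2 _ h
  have hN : (Subgroup.closure A).Normal := Subgroup.normalizer_eq_top_iff.mp
    (eq_top_iff.mpr (htop.ge.trans (Subgroup.normalizer_le_normalizer_closure A)))
  haveI := hG.2.1
  obtain ⟨a, ha⟩ := hne
  rcases hN.eq_bot_or_eq_top with h2 | h2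
  · exact h1 (((Subgroup.closure_eq_bot_iff).mp h2 ha : a = 1) ▸ ha)
  · exact hM.1 (eq_top_iff.mpr (h2.ge.trans ((Subgroup.closure_le M).mpr hsub)))

theorem normalizer_typeA1 (hc : TypeCases M) : Subgroup.normalizer (typeA1 M) = M :=
  normalizer_eq hG hM (fun _ hx => typeCore_le M hx.1) (fun h => h.2 rfl) (typeA1_nonempty hc)
    fun _ hm _ hx => conj_mem_typeA1 hm hx

theorem normalizer_typeA (hc : TypeCases M) : Subgroup.normalizer (typeA M) = M :=
  normalizer_eq hG hM (typeA_subset M) (one_notMem_typeA M)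
    ((typeA1_nonempty hc).mono (typeA1_subset_typeA hc)) fun _ hm _ hx => conj_mem_typeA hm hx

theorem normalizer_typeA0 (hc : TypeCases M) : Subgroup.normalizer (typeA0 M) = M :=
  normalizer_eq hG hM (typeA0_subset M) (one_notMem_typeA0 M)
    (((typeA1_nonempty hc).mono (typeA1_subset_typeA hc)).mono (typeA_subset_typeA0 M))
    fun _ hm _ hx => conj_mem_typeA0 hm hx

end Normalizer

/-- What the tame embedding theorem says about a set `X` of elements of `M`. -/
structure Tame (M : Subgroup G) (X : Set G) : Prop where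
  fusion : ∀ x ∈ X, ∀ g : G, g * x * g⁻¹ ∈ X → ∃ m ∈ M, m * x * m⁻¹ = g * x * g⁻¹
  escape : ∀ x ∈ X, ¬ Subgroup.centralizer ({x} : Set G) ≤ M → x ∈ typeA1 M ∧
    ∃! L : Subgroup G, IsCoatom L ∧ Subgroup.centralizer ({x} : Set G) ≤ L
  compl : ∀ x ∈ X, ¬ Subgroup.centralizer ({x} : Set G) ≤ M → ∀ L : Subgroup G, IsCoatom L →
    Subgroup.centralizer ({x} : Set G) ≤ L →
    IsComplIn (fittingHallOf L ⊓ Subgroup.centralizer ({x} : Set G))
      (M ⊓ Subgroup.centralizer ({x} : Set G)) (Subgroup.centralizer ({x} : Set G))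
  coprime : ∀ x ∈ X, ¬ Subgroup.centralizer ({x} : Set G) ≤ M → ∀ L : Subgroup G, IsCoatom L →
    Subgroup.centralizer ({x} : Set G) ≤ L → ∀ y ∈ X,
    (Nat.card (fittingHallOf L)).Coprime (Nat.card ↥(M ⊓ Subgroup.centralizer ({y} : Set G)))

theorem supportR_of_le {x : G} (h : Subgroup.centralizer ({x} : Set G) ≤ M) :
    supportR M x = ⊥ := by
  rw [supportR, dif_neg fun h' => h'.1 h]

theorem supportR_of_unique {x : G} {L : Subgroup G} (hn : ¬ Subgroup.centralizer ({x} : Set G) ≤ M)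
    (hL : IsCoatom L ∧ Subgroup.centralizer ({x} : Set G) ≤ L)
    (hu : ∀ N : Subgroup G, IsCoatom N → Subgroup.centralizer ({x} : Set G) ≤ N → N = L) :
    supportR M x = fittingHallOf L ⊓ Subgroup.centralizer ({x} : Set G) := by
  have h : ¬ Subgroup.centralizer ({x} : Set G) ≤ M ∧
      ∃! N : Subgroup G, IsCoatom N ∧ Subgroup.centralizer ({x} : Set G) ≤ N :=
    ⟨hn, L, hL, fun N hN => hu N hN.1 hN.2⟩
  rw [supportR, dif_pos h, hu _ (Classical.choose_spec h.2.exists).1
    (Classical.choose_spec h.2.exists).2]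

theorem dadeHypothesis_of_tame [Finite G] {X A : Set G} (hT : Tame M X) (hAX : A ⊆ X)
    (hsub : A ⊆ (M : Set G)) (h1 : (1 : G) ∉ A) (hconj : ∀ m ∈ M, ∀ a ∈ A, m * a * m⁻¹ ∈ A) :
    DadeHypothesis A M (supportR M) := by
  have key : ∀ a ∈ A, (Subgroup.centralizer ({a} : Set G) ≤ M ∧ supportR M a = ⊥) ∨
      ∃ L : Subgroup G, IsCoatom L ∧ Subgroup.centralizer ({a} : Set G) ≤ L ∧
        supportR M a = fittingHallOf L ⊓ Subgroup.centralizer ({a} : Set G) ∧
        ¬ Subgroup.centralizer ({a} : Set G) ≤ M := by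
    intro a ha
    by_cases h : Subgroup.centralizer ({a} : Set G) ≤ M
    · exact Or.inl ⟨h, supportR_of_le h⟩
    · obtain ⟨-, L, hL, hu⟩ := hT.escape a (hAX ha) h
      exact Or.inr ⟨L, hL.1, hL.2,
        supportR_of_unique h hL fun N hN hN' => hu N ⟨hN, hN'⟩, h⟩
  refine
    { one_not_mem := h1
      subset := hsub
      conj_mem := hconj
      fusion := fun a ha g hg => hT.fusion a (hAX ha) g (hAX hg)
      le_centralizer := fun a ha => ?_
      conj_mem_H := fun a ha c hc u hu => ?_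
      inf_eq_bot := fun a ha => ?_
      sup_eq := fun a ha => ?_
      coprime := fun a ha b hb => ?_ }
  · rcases key a ha with ⟨-, h⟩ | ⟨L, -, -, h, -⟩ <;> rw [h]
    · exact bot_le
    · exact inf_le_right
  · rcases key a ha with ⟨-, h⟩ | ⟨L, -, hCL, h, -⟩ <;> rw [h] at hu ⊢
    · rw [Subgroup.mem_bot] at hu ⊢
      rw [hu, mul_one, mul_inv_cancel]
    · exact ⟨Subgroup.le_normalizer_iff.mp (le_normalizer_fittingHallOf L) c (hCL hc) u hu.1,
        Subgroup.mul_mem _ (Subgroup.mul_mem _ hc hu.2) (Subgroup.inv_mem _ hc)⟩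
  · rcases key a ha with ⟨-, h⟩ | ⟨L, hL, hCL, h, hn⟩ <;> rw [h]
    · exact bot_inf_eq _
    · exact (hT.compl a (hAX ha) hn L hL hCL).2.2.1
  · rcases key a ha with ⟨hle, h⟩ | ⟨L, hL, hCL, h, hn⟩ <;> rw [h]
    · rw [bot_sup_eq, inf_eq_right.mpr hle]
    · exact sup_eq_of_isComplIn (hT.compl a (hAX ha) hn L hL hCL)
  · rcases key a ha with ⟨-, h⟩ | ⟨L, hL, hCL, h, hn⟩ <;> rw [h]
    · rw [Subgroup.card_bot]; exact Nat.coprime_one_left _
    · exact (hT.coprime a (hAX ha) hn L hL hCL b (hAX hb)).coprime_dvd_left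
        (Subgroup.card_dvd_of_le inf_le_left)

/-- For `M` of type II no centralizer of an element of `A₁(M)` leaves `M`. -/
theorem centralizer_le_of_typeII [Finite G] (hG : IsMinSimpleOddOrder G) (hM : IsCoatom M)
    (hII : IsOfTypeII M) {x : G} (hx : x ∈ typeA1 M) :
    Subgroup.centralizer ({x} : Set G) ≤ M := by
  have hHe := typeCore_of_typeII hII
  obtain ⟨W₁, U, W₂, hP, -, -, hTI, -, -, -, -⟩ := hII
  have hxF : x ∈ fittingOf M := (le_sup_left.trans hP.fitting_eq.le) (hHe ▸ hx.1)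
  have hFM : fittingOf M ≤ M := Subgroup.map_subtype_le _
  have hF1 : fittingOf M ≠ ⊥ := fun h => hx.2 (Subgroup.mem_bot.mp (h ▸ hxF))
  have hN : M ≤ Subgroup.normalizer (fittingOf M : Set G) := by
    rw [Subgroup.le_normalizer_iff]
    rintro m hm _ ⟨y, hy, rfl⟩
    exact ⟨(⟨m, hm⟩ : M) * y * (⟨m, hm⟩ : M)⁻¹,
      Subgroup.Normal.conj_mem (Fitting.fittingSubgroup_normal (G := M)) y hy _, rfl⟩
  have hNe : Subgroup.normalizer (fittingOf M : Set G) = M := by
    rcases eq_or_lt_of_le hN with h | h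
    · exact h.symm
    · exact absurd (hM.2 _ h) (OddLocal.normalizer_ne_top hG hF1
        fun e => hM.1 (eq_top_iff.mpr (e.ge.trans hFM)))
  intro c hc
  by_contra hcM
  refine hx.2 (hTI c (hNe.symm ▸ hcM) x hxF ?_)
  rwa [Subgroup.mem_centralizer_singleton_iff.mp hc, mul_inv_cancel_right]

theorem ti_of_typeII [Finite G] (hG : IsMinSimpleOddOrder G) (hM : IsCoatom M)
    (hII : IsOfTypeII M) {X A : Set G} (hT : Tame M X) (hAX : A ⊆ X) (hA : A.Nonempty)
    (hsub : A ⊆ (M : Set G)) (h1 : (1 : G) ∉ A) (hconj : ∀ m ∈ M, ∀ a ∈ A, m * a * m⁻¹ ∈ A) :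
    IsTISubset A ∧ Subgroup.normalizer A = M := by
  refine (Cfsg.Agent.S1497.result A hA h1 M).mpr ?_
  have hD := dadeHypothesis_of_tame hT hAX hsub h1 hconj
  have hb : ∀ a ∈ A, supportR M a = ⊥ := fun a ha => supportR_of_le <| by
    by_contra h
    exact h (centralizer_le_of_typeII hG hM hII (hT.escape a (hAX ha) h).1)
  exact
    { one_not_mem := h1
      subset := hsub
      conj_mem := hconj
      fusion := hD.fusion
      le_centralizer := fun _ _ => bot_le
      conj_mem_H := fun a ha c hc u hu => hb a ha ▸ hD.conj_mem_H a ha c hc u (by rwa [hb a ha])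
      inf_eq_bot := fun a _ => bot_inf_eq _
      sup_eq := fun a ha => hb a ha ▸ hD.sup_eq a ha
      coprime := fun a _ b _ => by rw [Subgroup.card_bot]; exact Nat.coprime_one_left _ }

end CfsgLib.Peterfalvi
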