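import Cfsg.Agent.Lib.Peterfalvi.FrobeniusDade
import Cfsg.Agent.Lib.Peterfalvi.TypeSets

/-!
Coherence for a maximal subgroup of type I which is a Frobenius group.
-/

set_option autoImplicit false
set_option linter.unusedSectionVars false
set_option linter.style.haveILetI false

namespace CfsgLib.Peterfalvi

open Cfsg CfsgLib.Char

variable {G : Type*} [Group G] [Fintype G] {L : Subgroup G}

theorem mem_fittingHallOf_iff (x : L) : (x : G) ∈ fittingHallOf L ↔ x ∈ fittingHall L :=
  ⟨fun ⟨_, hy, e⟩ => (L.subtype_injective e) ▸ hy, fun h => ⟨x, h, rfl⟩⟩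

theorem typeA_eq_of_frobenius (hI : IsOfTypeI L)
    (hfrob : ∀ x ∈ fittingHallOf L, x ≠ 1 →
      L ⊓ Subgroup.centralizer ({x} : Set G) ≤ fittingHallOf L) (x : L) :
    (x : G) ∈ typeA L ↔ x ∈ fittingHall L ∧ x ≠ 1 := by
  rw [typeA, if_pos hI]
  constructor
  · rintro ⟨hxL, hx1, y, hy, hy1, hxy⟩
    exact ⟨(mem_fittingHallOf_iff x).mp
      (hfrob y hy hy1 ⟨hxL, Subgroup.mem_centralizer_singleton_iff.mpr hxy⟩),
      fun e => hx1 (by rw [e]; rfl)⟩
  · rintro ⟨hx, hx1⟩
    exact ⟨x.2, fun e => hx1 (Subtype.ext e), x, (mem_fittingHallOf_iff x).mpr hx,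
      fun e => hx1 (Subtype.ext e), rfl⟩

theorem typeI_frobenius_coherent (hG : IsMinSimpleOddOrder G) [Fintype L] (hL : IsCoatom L)
    (hI : IsOfTypeI L)
    (hfrob : ∀ x ∈ fittingHallOf L, x ≠ 1 →
      L ⊓ Subgroup.centralizer ({x} : Set G) ≤ fittingHallOf L)
    (hT : Tame L (typeA L)) :
    (∀ χ ∈ inducedIrrAbove (fittingHall L) ⊥, IsIrrCharacter L χ) ∧
      IsCoherent (inducedIrrAbove (fittingHall L) ⊥) {1}ᶜ
        (dadeIsometry (typeA L) L (supportR L)) := by
  have hK1 : fittingHall L ≠ ⊥ := hI.1.2.2.1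
  have hKtop : fittingHall L < ⊤ := lt_top_iff_ne_top.mpr hI.1.2.2.2.1
  have hC : ∀ k ∈ fittingHall L, k ≠ 1 → ∀ x : L, x * k = k * x → x ∈ fittingHall L := by
    intro k hk hk1 x hx
    rw [← mem_fittingHallOf_iff]
    exact hfrob k ((mem_fittingHallOf_iff k).mpr hk) (fun e => hk1 (Subtype.ext e))
      ⟨x.2, Subgroup.mem_centralizer_singleton_iff.mpr (congrArg Subtype.val hx)⟩
  refine ⟨fun χ hχ => SibleyTI.irr_mem L (fittingHall L) hC hχ, ?_⟩
  have hD : DadeHypothesis (typeA L) L (supportR L) :=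
    dadeHypothesis_of_tame hT subset_rfl (typeA_subset L) (one_notMem_typeA L)
      fun _ hm _ ha => conj_mem_typeA hm ha
  refine frobenius_dade_coherent (fittingHall L) hC hD (typeA_eq_of_frobenius hI hfrob) hI.1.2.1
    fittingHall_isNilpotent hK1 hKtop ?_
  rcases hI.2 with hTI | ⟨hab, -, -⟩ | ⟨hexp, -⟩
  · refine Or.inl ⟨hTI, ?_, fun a ha => supportR_of_le fun c hc => ?_⟩
    · have hle := le_normalizer_fittingHallOf L
      rcases eq_or_lt_of_le hle with h | h
      · exact h.symm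
      · exact absurd (hL.2 _ h) (OddLocal.normalizer_ne_top hG
          (fittingHallOf_ne_bot_of_typeI hI)
          fun e => hL.1 (eq_top_iff.mpr (e.ge.trans (fittingHallOf_le L))))
    · have haL := typeA_subset L ha
      obtain ⟨haK, ha1⟩ := (typeA_eq_of_frobenius hI hfrob ⟨a, haL⟩).mp ha
      by_contra hcL
      have hN : Subgroup.normalizer (fittingHallOf L : Set G) = L := by
        rcases eq_or_lt_of_le (le_normalizer_fittingHallOf L) with h | h
        · exact h.symm
        · exact absurd (hL.2 _ h) (OddLocal.normalizer_ne_top hG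
            (fittingHallOf_ne_bot_of_typeI hI)
            fun e => hL.1 (eq_top_iff.mpr (e.ge.trans (fittingHallOf_le L))))
      exact ha1 (Subtype.ext (hTI c (hN.symm ▸ hcL) a ((mem_fittingHallOf_iff ⟨a, haL⟩).mpr haK)
        (by rw [Subgroup.mem_centralizer_singleton_iff.mp hc, mul_inv_cancel_right]
            exact (mem_fittingHallOf_iff ⟨a, haL⟩).mpr haK)))
  · refine Or.inr (Or.inl fun a b => ?_)
    have := hab.is_comm.comm (⟨(a : L), (mem_fittingHallOf_iff _).mpr a.2⟩ : fittingHallOf L)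
      ⟨(b : L), (mem_fittingHallOf_iff _).mpr b.2⟩
    exact Subtype.ext (Subtype.ext (congrArg Subtype.val this :))
  · refine Or.inr (Or.inr fun p hp hd => hexp p hp ?_)
    rwa [fittingHallOf, Subgroup.card_map_of_injective L.subtype_injective]

end CfsgLib.Peterfalvi
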