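import Cfsg.Agent.Lib.Peterfalvi.WeakTypeI
import Cfsg.Agent.Lib.Peterfalvi.TypeOneCoherent

/-!
The set `A(M)` of a maximal subgroup with `κ(M)` empty, without asking `M` to be literally of
type I: its tame embedding, and coherence when `M` is a Frobenius group.
-/

set_option autoImplicit false
set_option linter.style.haveILetI false
set_option linter.unusedSectionVars false

open scoped Pointwise

namespace CfsgLib.Peterfalvi

open Cfsg CfsgLib.Char

variable {G : Type*} [Group G] {M : Subgroup G}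

/-- The non-identity elements of `M` centralizing a non-identity element of `M_F`. -/
def setA (M : Subgroup G) : Set G :=
  {a | a ∈ M ∧ a ≠ 1 ∧ ∃ x ∈ fittingHallOf M, x ≠ 1 ∧ a * x = x * a}

theorem typeA_eq_setA (hI : IsOfTypeI M) : typeA M = setA M := by
  rw [typeA, if_pos hI]; rfl

theorem setA_subset (M : Subgroup G) : setA M ⊆ (M : Set G) := fun _ hx => hx.1

theorem one_notMem_setA (M : Subgroup G) : (1 : G) ∉ setA M := fun h => h.2.1 rfl

theorem conj_mem_setA {m x : G} (hm : m ∈ M) (hx : x ∈ setA M) : m * x * m⁻¹ ∈ setA M := by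
  obtain ⟨hxM, hx1, y, hy, hy1, hxy⟩ := hx
  exact ⟨mul_mem (mul_mem hm hxM) (inv_mem hm), conj_ne_one hx1, m * y * m⁻¹,
    Subgroup.le_normalizer_iff.mp (le_normalizer_fittingHallOf M) m hm y hy, conj_ne_one hy1,
    by simp only [conj_mul, hxy]⟩

variable [Finite G]

theorem typeA1_eq_diff (hG : IsMinSimpleOddOrder G) (hM : IsCoatom M) :
    typeA1 M = (sigmaCore M : Set G) \ {1} := by
  rw [typeA1, typeCore_eq_sigmaCore hG hM]

theorem typeA1_subset_setA (hG : IsMinSimpleOddOrder G) (hM : IsCoatom M) (hκ : kappa M = ∅) :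
    typeA1 M ⊆ setA M := by
  rintro x ⟨hx, hx1⟩
  have hx1' : x ≠ 1 := hx1
  rw [typeCore_eq_sigmaCore hG hM, ← fittingHallOf_eq_of_kappa hG hM hκ] at hx
  exact ⟨fittingHallOf_le M hx, hx1', x, hx, hx1', rfl⟩

/-- BG 16, Theorem II for `A(M)`, `κ(M)` empty. -/
theorem tame_setA (hG : IsMinSimpleOddOrder G) (hM : IsCoatom M) (hκ : kappa M = ∅) :
    Tame M (setA M) := by
  obtain ⟨K, U, hKU⟩ := OddLocal.exists_sigmaDecomposition hG hM
  have hsub : setA M ⊆ OddLocal.tameSet M K U := by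
    rintro a ⟨haM, ha1, y, hy, hy1, hay⟩
    exact Or.inl ⟨⟨⟨haM, y, OddLocal.fittingHallOf_le_sigmaCore hG hM hy, hy1, hay⟩,
      OddLocal.mem_UM_of_primes hG hM hKU haM fun l _ _ hl => by
        rw [hκ] at hl; exact hl⟩, ha1⟩
  have key : ∀ x ∈ setA M, ¬ Subgroup.centralizer ({x} : Set G) ≤ M → ∃ N : Subgroup G,
      OddLocal.Support M N x := fun x hx h => (OddLocal.tameSet_escape hG hM hKU (hsub hx) h).2.2
  refine ⟨fun x hx g hg => OddLocal.tameSet_fusion hG hM hKU (hsub hx) (hsub hg), fun x hx h => ?_,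
    fun x hx h L hL hle => ?_, fun x hx h L hL hle y hy => ?_⟩
  · obtain ⟨hxσ, hx1, N, hN⟩ := OddLocal.tameSet_escape hG hM hKU (hsub hx) h
    exact ⟨⟨(typeCore_eq_sigmaCore hG hM).symm ▸ hxσ, hx1⟩, N, ⟨hN.hN, hN.hle⟩,
      fun L hL => hN.uniq L hL.1 hL.2⟩
  · obtain ⟨N, hN⟩ := key x hx h
    obtain rfl := hN.uniq L hL hle
    rw [hN.fittingHall_eq]
    obtain ⟨h1, h2, h3, h4⟩ := hN.centralizer_compl
    refine ⟨h2, h1, by rwa [inf_comm], fun w hw => ?_⟩
    obtain ⟨a, ha, b, hb, he⟩ := h4 w⁻¹ (inv_mem hw)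
    exact ⟨b⁻¹, inv_mem hb, a⁻¹, inv_mem ha, by rw [← mul_inv_rev, ← he, inv_inv]⟩
  · obtain ⟨N, hN⟩ := key x hx h
    obtain rfl := hN.uniq L hL hle
    rw [hN.fittingHall_eq]
    exact OddLocal.tameSet_coprime hG hM hKU hN (hsub hy)

theorem setA_eq_of_frobenius {L : Subgroup G} [Fintype G]
    (hfrob : ∀ x ∈ fittingHallOf L, x ≠ 1 →
      L ⊓ Subgroup.centralizer ({x} : Set G) ≤ fittingHallOf L) (x : L) :
    (x : G) ∈ setA L ↔ x ∈ fittingHall L ∧ x ≠ 1 := by
  constructor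
  · rintro ⟨hxL, hx1, y, hy, hy1, hxy⟩
    exact ⟨(mem_fittingHallOf_iff x).mp
      (hfrob y hy hy1 ⟨hxL, Subgroup.mem_centralizer_singleton_iff.mpr hxy⟩),
      fun e => hx1 (by rw [e]; rfl)⟩
  · rintro ⟨hx, hx1⟩
    exact ⟨x.2, fun e => hx1 (Subtype.ext e), x, (mem_fittingHallOf_iff x).mpr hx,
      fun e => hx1 (Subtype.ext e), rfl⟩

/-- Coherence for a Frobenius maximal subgroup with `κ` empty. -/
theorem kappaEmpty_frobenius_coherent [Fintype G] {L : Subgroup G} [Fintype L]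
    (hG : IsMinSimpleOddOrder G) (hL : IsCoatom L) (hκ : kappa L = ∅)
    (hfrob : ∀ x ∈ fittingHallOf L, x ≠ 1 →
      L ⊓ Subgroup.centralizer ({x} : Set G) ≤ fittingHallOf L) :
    (∀ χ ∈ inducedIrrAbove (fittingHall L) ⊥, IsIrrCharacter L χ) ∧
      IsCoherent (inducedIrrAbove (fittingHall L) ⊥) {1}ᶜ
        (dadeIsometry (setA L) L (supportR L)) := by
  have hI := typeI_of_weak_of_frobenius (weakTypeI_of_kappa hG hL hκ) hfrob
  have hA := typeA_eq_setA hI
  have h := typeI_frobenius_coherent hG hL hI hfrob (hA ▸ tame_setA hG hL hκ)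
  rwa [hA] at h

end CfsgLib.Peterfalvi
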