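import Cfsg.Agent.Lib.Peterfalvi.TypeSets
import Cfsg.Agent.Lib.Peterfalvi.SetA
import Cfsg.Agent.Lib.OddLocal.FittingBasics
import Cfsg.Agent.Lib.OddLocal.SigmaCosets
import Cfsg.Agent.Lib.OddLocal.SigmaNonempty
import Cfsg.Agent.S1360

/-!
The situation in which `κ(M)` is empty for every maximal subgroup `M`, that is (BG 16), every
maximal subgroup is of type I, up to the precise shape of the definition.
-/

set_option autoImplicit false
set_option linter.style.haveILetI false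
set_option linter.unusedSectionVars false

namespace CfsgLib.Peterfalvi

open Cfsg
open CfsgLib.OddLocal
open scoped Pointwise

variable {G : Type*} [Group G] [Finite G] {M E : Subgroup G} {r : ℕ}

/-- `κ(M)` is empty for every maximal subgroup `M`. -/
structure AllI (G : Type*) [Group G] [Finite G] : Prop where
  hG : IsMinSimpleOddOrder G
  kappa : ∀ M : Subgroup G, IsCoatom M → Cfsg.kappa M = ∅

/-- An element of order `r` outside `M_σ` centralizes a non-identity element of `M_σ`. -/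
def Bad (M : Subgroup G) (r : ℕ) : Prop :=
  r.Prime ∧ ∃ x ∈ M, orderOf x = r ∧ x ∉ sigmaCore M ∧ ∃ y ∈ sigmaCore M, y ≠ 1 ∧ Commute x y

/-- An element of `M` outside `M_σ` has a power of prime order outside `M_σ`, of order outside
`σ(M)`. -/
theorem exists_pow_not_core (hG : IsMinSimpleOddOrder G) (hM : IsCoatom M) {z : G} (hz : z ∈ M)
    (hzK : z ∉ sigmaCore M) :
    ∃ r, r.Prime ∧ r ∉ sigma M ∧ r ∣ orderOf z ∧ orderOf (z ^ (orderOf z / r)) = r ∧
      z ^ (orderOf z / r) ∉ sigmaCore M := by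
  obtain ⟨r, hr, hd, hrσ⟩ : ∃ r, r.Prime ∧ r ∣ orderOf z ∧ r ∉ sigma M := by
    by_contra hc
    push Not at hc
    refine hzK (Subgroup.map_mono (f := M.subtype) (le_of_coprime_index
      (K := Subgroup.zpowers (⟨z, hz⟩ : M)) (Nat.coprime_of_dvd fun q hq h1 h2 => ?_))
      ⟨⟨z, hz⟩, Subgroup.mem_zpowers _, rfl⟩)
    rw [Nat.card_zpowers, ← Subgroup.orderOf_coe] at h1
    exact not_dvd_index_sigma hG hM hq (hc q hq h1) h2
  refine ⟨r, hr, hrσ, hd, pow_quot_order hr hd, fun h => hrσ ?_⟩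
  exact sigma_of_orderOf h hr (dvd_of_eq (pow_quot_order hr hd).symm)

/-- A maximal subgroup with no bad prime is a Frobenius group. -/
theorem frobenius_of_not_bad (hG : IsMinSimpleOddOrder G) (hM : IsCoatom M)
    (h : ∀ r, ¬ Bad M r) : ∀ y ∈ sigmaCore M, y ≠ 1 →
      M ⊓ Subgroup.centralizer ({y} : Set G) ≤ sigmaCore M := by
  intro y hy hy1 z hz
  by_contra hzK
  obtain ⟨r, hr, -, -, ho, hn⟩ := exists_pow_not_core hG hM hz.1 hzK
  refine h r ⟨hr, _, pow_mem hz.1 _, ho, hn, y, hy, hy1, Commute.pow_left ?_ _⟩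
  exact Subgroup.mem_centralizer_singleton_iff.mp hz.2

namespace AllI

variable (h : AllI G)
include h

/-- What replaces type I. -/
theorem weakTypeI (M : Subgroup G) (hM : IsCoatom M) : IsWeakTypeI M :=
  weakTypeI_of_kappa h.hG hM (h.kappa M hM)

theorem core (M : Subgroup G) (hM : IsCoatom M) : fittingHallOf M = sigmaCore M :=
  fittingHallOf_eq_of_kappa h.hG hM (h.kappa M hM)

theorem tame (M : Subgroup G) (hM : IsCoatom M) : Tame M (setA M) :=
  tame_setA h.hG hM (h.kappa M hM)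

theorem sigmaCore_nilpotent (hM : IsCoatom M) : Group.IsNilpotent (sigmaCore M) := by
  rw [← h.core M hM]
  exact fittingHallOf_isNilpotent M

/-- An element of prime order outside `σ(M)` with a fixed point on `M_σ`. -/
theorem uniq_of_fixed (hM : IsCoatom M) {x y : G} (hx : x ∈ M) (hxo : orderOf x = r) (hr : r.Prime)
    (hσ : r ∉ sigma M) (hy : y ∈ sigmaCore M) (hy1 : y ≠ 1) (hxy : Commute x y) :
    r ∈ tau2 M ∧ Subgroup.centralizer ({x} : Set G) ≤ M ∧
      ∀ L : Subgroup G, IsCoatom L → Subgroup.centralizer ({x} : Set G) ≤ L → L = M := by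
  obtain ⟨h2, hC, hu⟩ := tau2_of_fixed h.hG hM hx hy hy1 hxy hr (dvd_of_eq hxo.symm) hσ
    (by rw [h.kappa M hM]; exact Set.notMem_empty r)
  rw [hxo, Nat.div_self hr.pos, pow_one] at hu
  exact ⟨h2, hC, hu⟩

theorem bad_tau2 (hM : IsCoatom M) (hb : Bad M r) : r ∉ sigma M ∧ r ∈ tau2 M := by
  obtain ⟨hr, x, hx, hxo, hxK, y, hy, hy1, hxy⟩ := hb
  have hσ : r ∉ sigma M := fun hs => hxK <| (le_sigmaCore_of_isPGroup h.hG hM hr hs
    (Subgroup.zpowers_le.mpr hx) (isPGroup_zpowers (k := 1) (by rw [pow_one, ← hxo, pow_orderOf_eq_one])))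
    (Subgroup.mem_zpowers x)
  exact ⟨hσ, (h.uniq_of_fixed hM hx hxo hr hσ hy hy1 hxy).1⟩

theorem sigmaDecomposition (hM : IsCoatom M) (hE : IsComplIn E (sigmaCore M) M) :
    IsSigmaDecomposition M ⊥ E where
  cyclic := Bot.isCyclic
  hall := ⟨bot_le, fun q hq hd => by
      rw [Subgroup.card_bot] at hd; exact absurd (Nat.dvd_one.mp hd) hq.ne_one,
    fun q _ hk => by rw [h.kappa M hM] at hk; exact absurd hk (Set.notMem_empty q)⟩
  compl := by rwa [bot_sup_eq]
  normal := bot_le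

/-- A subgroup of a complement of the same exponent, with no fixed points on `M_σ`. -/
theorem exists_free (hM : IsCoatom M) (hE : IsComplIn E (sigmaCore M) M) :
    ∃ U₀ : Subgroup G, U₀ ≤ E ∧ Monoid.exponent U₀ = Monoid.exponent E ∧
      ∀ u ∈ U₀, u ≠ 1 → sigmaCore M ⊓ Subgroup.centralizer ({u} : Set G) = ⊥ := by
  obtain ⟨U₀, hle, hexp, hfree⟩ :=
    Cfsg.Agent.S1360.result h.hG M hM ⊥ E (h.sigmaDecomposition hM hE)
  refine ⟨U₀, hle, hexp, fun u hu hu1 => (Subgroup.eq_bot_iff_forall _).mpr fun y hy => ?_⟩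
  by_contra hy1
  exact hu1 (hfree u hu ⟨hE.1 (hle hu), y, hy.1, hy1,
    (Subgroup.mem_centralizer_singleton_iff.mp hy.2).symm⟩)

end AllI

end CfsgLib.Peterfalvi
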