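import Cfsg.Agent.Lib.Peterfalvi.NonFrobenius
import Cfsg.Agent.S1379
import Cfsg.Agent.S1526

/-!
Not all maximal subgroups are of type I.
-/

set_option autoImplicit false
set_option linter.style.haveILetI false
set_option linter.unusedSectionVars false

namespace CfsgLib.Peterfalvi

open Cfsg
open scoped Pointwise

variable {G : Type*} [Group G] [Fintype G] {M : Subgroup G}

namespace AllI

variable (h : AllI G)
include h

/-- No centralizer of a non-identity element of `M_σ` leaves `M`. -/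
theorem centralizer_le (hM : IsCoatom M) {a : G} (ha : a ∈ sigmaCore M) (ha1 : a ≠ 1) :
    Subgroup.centralizer ({a} : Set G) ≤ M := by
  by_contra hle
  obtain ⟨N, hN⟩ := OddLocal.exists_support h.hG hM ha ha1 hle
  obtain ⟨⟨y, hy⟩, hy1⟩ := Subgroup.ne_bot_iff_exists_ne_one.mp hN.fixed
  refine ha1 (Subgroup.mem_bot.mp (hN.inf_eq ▸
    ⟨h.frobenius hN.hN y hy.1 (fun e => hy1 (Subtype.ext e))
      ⟨hN.hxN, Subgroup.mem_centralizer_singleton_iff.mpr ?_⟩, OddLocal.piCoreOf_le _ M ha⟩))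
  exact (Subgroup.mem_centralizer_singleton_iff.mp hy.2).symm

theorem ti (hM : IsCoatom M) : IsTISubset (sigmaCore M : Set G) := by
  intro g hg a ha hga
  by_contra ha1
  refine hg ?_
  rw [h.normalizer_core hM]
  have haA : ∀ {b : G}, b ∈ sigmaCore M → b ≠ 1 → b ∈ setA M := fun hb hb1 =>
    h.mem_setA hM (OddLocal.piCoreOf_le _ M hb) hb1 hb hb1 rfl
  obtain ⟨m, hm, hme⟩ := (h.tame M hM).fusion a (haA ha ha1) g (haA hga (conj_ne_one ha1))
  have hc : m⁻¹ * g ∈ Subgroup.centralizer ({a} : Set G) := by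
    rw [Subgroup.mem_centralizer_singleton_iff]
    calc m⁻¹ * g * a = m⁻¹ * (g * a * g⁻¹) * g := by group
      _ = m⁻¹ * (m * a * m⁻¹) * g := by rw [hme]
      _ = _ := by group
  have := M.mul_mem hm (h.centralizer_le hM ha ha1 hc)
  rwa [mul_inv_cancel_left] at this

theorem contradiction : False := by
  classical
  have hG := h.hG
  let r : Setoid {M : Subgroup G // IsCoatom M} :=
    { r := fun M N => ∃ g : G, N.1 = MulAut.conj g • M.1
      iseqv :=
        { refl := fun M => ⟨1, by rw [map_one, one_smul]⟩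
          symm := fun ⟨g, hg⟩ => ⟨g⁻¹, by rw [hg, ← mul_smul, ← map_mul, inv_mul_cancel, map_one, one_smul]⟩
          trans := fun ⟨g, hg⟩ ⟨k, hk⟩ => ⟨k * g, by rw [hk, hg, map_mul, mul_smul]⟩ } }
  letI : Fintype (Quotient r) := Fintype.ofFinite _
  let L : Quotient r → Subgroup G := fun i => i.out.1
  have hL : ∀ i, IsCoatom (L i) := fun i => i.out.2
  have hrep : ∀ M : Subgroup G, IsCoatom M → ∃ i, ∃ g : G, L i = MulAut.conj g • M := fun M hM =>
    ⟨Quotient.mk r ⟨M, hM⟩, Setoid.symm (Quotient.mk_out (s := r) ⟨M, hM⟩)⟩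
  have hinj : ∀ i j, i ≠ j → ∀ g : G, L j ≠ MulAut.conj g • L i := fun i j hij g e => hij <| by
    rw [← Quotient.out_eq i, ← Quotient.out_eq j]
    exact Quotient.sound ⟨g, e⟩
  have hlt : ∀ i, sigmaCore (L i) < L i := by
    refine fun i => lt_of_le_of_ne (OddLocal.piCoreOf_le _ _) fun e => ?_
    refine (h.weakTypeI _ (hL i)).1.2.2.2.1 (eq_top_iff.mpr fun m _ => ?_)
    rw [h.mem_kernel_iff (hL i), e]
    exact m.2
  refine Cfsg.Agent.S1526.result hG.1 ?_ L (fun i => sigmaCore (L i)) hlt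
    (fun i => h.core_ne_bot (hL i)) ?_ ?_ ?_ (fun i => ⟨h.ti (hL i), h.normalizer_core (hL i)⟩) ?_
  · -- at least two classes
    by_contra hcard
    push Not at hcard
    haveI : Subsingleton (Quotient r) := Fintype.card_le_one_iff_subsingleton.mp (by omega)
    have hone : 1 < Nat.card G := by
      haveI := hG.2.1
      exact Finite.one_lt_card
    obtain ⟨q, hq, hqG⟩ := Nat.exists_prime_and_dvd hone.ne'
    obtain ⟨M, hM, -⟩ := (Cfsg.Agent.S1378.result hG).1 q hq hqG
    have hall : ∀ q, q.Prime → q ∣ Nat.card G → q ∈ sigma M := by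
      intro q hq hqG
      obtain ⟨N, hN, hqN⟩ := (Cfsg.Agent.S1378.result hG).1 q hq hqG
      obtain ⟨i, g, hg⟩ := hrep M hM
      obtain ⟨j, k, hk⟩ := hrep N hN
      rw [Subsingleton.elim j i, hg] at hk
      have hNM : N = MulAut.conj (k⁻¹ * g) • M := by
        rw [map_mul, mul_smul, hk, ← mul_smul, ← map_mul, inv_mul_cancel, map_one, one_smul]
      exact OddLocal.sigma_conj_iff.mp (hNM ▸ hqN)
    refine hM.1 (Subgroup.eq_top_of_card_eq _ (Nat.dvd_antisymm M.card_subgroup_dvd_card ?_))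
    rw [← Nat.factorization_le_iff_dvd Nat.card_pos.ne' Nat.card_pos.ne']
    intro t
    by_cases ht : t.Prime
    swap
    · simp [Nat.factorization_eq_zero_of_not_prime _ ht]
    by_cases htG : t ∣ Nat.card G
    swap
    · rw [Nat.factorization_eq_zero_of_not_dvd htG]; exact Nat.zero_le _
    haveI := Fact.mk ht
    obtain ⟨P⟩ : Nonempty (Sylow t M) := inferInstance
    obtain ⟨S, hS⟩ := OddLocal.exists_sylow_map_eq (hall t ht htG) P
    refine (ht.pow_dvd_iff_le_factorization Nat.card_pos.ne').mp ?_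
    rw [← S.card_eq_multiplicity]
    exact Subgroup.card_dvd_of_le (hS.le.trans (Subgroup.map_subtype_le _))
  · exact fun i y hy a ha => Subgroup.le_normalizer_iff.mp (le_normalizer_sigmaCore _) y hy a ha
  · intro i a ha ha1
    exact h.frobenius (hL i) a ha ha1
  · intro i j hij
    refine Nat.coprime_of_dvd fun t ht h1 h2 => ?_
    obtain ⟨g, hg⟩ := OddLocal.sigma_disjoint hG (hL i) (hL j)
      (OddLocal.isPi_piCoreOf _ _ t ht h1) (OddLocal.isPi_piCoreOf _ _ t ht h2)
    exact hinj i j hij g hg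
  · intro g hg
    obtain ⟨M, hM, a, ha, v, hv, y, hy⟩ :=
      (Cfsg.Agent.S1379.result hG).2.1 (fun M hM => h.kappa M hM) g hg
    rw [supportR_of_le (h.centralizer_le hM ha.1 ha.2), Subgroup.mem_bot] at hv
    subst hv
    obtain ⟨i, c, hc⟩ := hrep M hM
    refine ⟨i, c * y⁻¹, ?_⟩
    rw [hc, OddLocal.sigmaCore_conj hG hM, Coprime.mem_conj_smul_iff, hy]
    simpa [mul_assoc] using ha.1

end AllI

end CfsgLib.Peterfalvi
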