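import Mathlib.RingTheory.RootsOfUnity.Complex
import Cfsg.Agent.Lib.Char.MeanValueVirtual
import Cfsg.Agent.Lib.Char.ExtendChar
import Cfsg.Agent.Lib.Char.Artin
import Cfsg.Agent.Lib.Char.Central

/-!
Congruences of character values modulo `1 - ω` for a primitive `p`-th root of unity `ω`.
-/

set_option autoImplicit false
set_option linter.unusedSectionVars false

namespace CfsgLib.Peterfalvi

open Cfsg CfsgLib.Char
open scoped CfsgLib.Char

/-- `z` is `(ω - 1)` times an algebraic integer, for `ω = exp (2 π i / p)`. -/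
def DvdRoot (p : ℕ) (z : ℂ) : Prop :=
  ∃ w : ℂ, IsIntegral ℤ w ∧ z = (Complex.exp (2 * Real.pi * Complex.I / p) - 1) * w

theorem dvdRoot_zero (p : ℕ) : DvdRoot p 0 := ⟨0, isIntegral_zero, by ring⟩

theorem DvdRoot.add {p : ℕ} {a b : ℂ} (ha : DvdRoot p a) (hb : DvdRoot p b) : DvdRoot p (a + b) := by
  obtain ⟨u, hu, rfl⟩ := ha
  obtain ⟨v, hv, rfl⟩ := hb
  exact ⟨u + v, hu.add hv, by ring⟩

theorem DvdRoot.neg {p : ℕ} {a : ℂ} (ha : DvdRoot p a) : DvdRoot p (-a) := by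
  obtain ⟨u, hu, rfl⟩ := ha
  exact ⟨-u, hu.neg, by ring⟩

theorem DvdRoot.sub {p : ℕ} {a b : ℂ} (ha : DvdRoot p a) (hb : DvdRoot p b) : DvdRoot p (a - b) := by
  rw [sub_eq_add_neg]; exact ha.add hb.neg

theorem DvdRoot.mul_left {p : ℕ} {a c : ℂ} (hc : IsIntegral ℤ c) (ha : DvdRoot p a) :
    DvdRoot p (c * a) := by
  obtain ⟨u, hu, rfl⟩ := ha
  exact ⟨c * u, hc.mul hu, by ring⟩

theorem DvdRoot.sum {p : ℕ} {ι : Type*} (s : Finset ι) (f : ι → ℂ)
    (h : ∀ i ∈ s, DvdRoot p (f i)) : DvdRoot p (∑ i ∈ s, f i) :=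
  Finset.sum_induction f (DvdRoot p) (fun _ _ ha hb => ha.add hb) (dvdRoot_zero p) h

theorem dvdRoot_pow_sub_one {p : ℕ} (hp : p ≠ 0) (i : ℕ) :
    DvdRoot p (Complex.exp (2 * Real.pi * Complex.I / p) ^ i - 1) := by
  set ω := Complex.exp (2 * Real.pi * Complex.I / p)
  have hω : IsIntegral ℤ ω :=
    (Complex.isPrimitiveRoot_exp p hp).isIntegral (Nat.pos_of_ne_zero hp)
  exact ⟨∑ j ∈ Finset.range i, ω ^ j, IsIntegral.sum _ fun j _ => hω.pow j, (mul_geom_sum ω i).symm⟩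

variable {p : ℕ} [hp : Fact p.Prime]

/-- A multiple of `p` is a multiple of `ω - 1`. -/
theorem dvdRoot_prime : DvdRoot p (p : ℂ) := by
  set ω := Complex.exp (2 * Real.pi * Complex.I / p)
  have hω : IsPrimitiveRoot ω p := Complex.isPrimitiveRoot_exp p hp.out.ne_zero
  have h : DvdRoot p ((∑ j ∈ Finset.range p, ω ^ j) - p) := by
    rw [show ((∑ j ∈ Finset.range p, ω ^ j) - p : ℂ) = ∑ j ∈ Finset.range p, (ω ^ j - 1) by simp]
    exact DvdRoot.sum _ _ fun j _ => dvdRoot_pow_sub_one hp.out.ne_zero j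
  rw [hω.geom_sum_eq_zero hp.out.one_lt, zero_sub] at h
  simpa using h.neg

theorem dvdRoot_of_dvd {n : ℤ} (h : (p : ℤ) ∣ n) : DvdRoot p (n : ℂ) := by
  obtain ⟨k, rfl⟩ := h
  rw [Int.cast_mul, Int.cast_natCast, mul_comm]
  exact dvdRoot_prime.mul_left isIntegral_algebraMap

/-- A rational integer divisible by `ω - 1` is divisible by `p`. -/
theorem dvd_of_dvdRoot (hodd : p ≠ 2) {n : ℤ} (h : DvdRoot p (n : ℂ)) : (p : ℤ) ∣ n := by
  obtain ⟨w, hw, he⟩ := h
  set ω := Complex.exp (2 * Real.pi * Complex.I / p) with hωdef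
  have hω : IsPrimitiveRoot ω p := Complex.isPrimitiveRoot_exp p hp.out.ne_zero
  have hωi : IsIntegral ℤ ω := hω.isIntegral hp.out.pos
  obtain ⟨r, hr⟩ : ∃ r : ℂ, IsIntegral ℤ r ∧ (ω - 1) ^ p = p * r := by
    let u : ↥(integralClosure ℤ ℂ) := ⟨ω, hωi⟩
    obtain ⟨r, hr⟩ := exists_add_pow_prime_eq hp.out u (-1)
    refine ⟨((u * -1 * r : ↥(integralClosure ℤ ℂ)) : ℂ), (u * -1 * r).2, ?_⟩
    have h2 := congrArg (fun z : ↥(integralClosure ℤ ℂ) => (z : ℂ)) hr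
    simp only [Subalgebra.coe_pow, Subalgebra.coe_add, Subalgebra.coe_mul, Subalgebra.coe_neg,
      Subalgebra.coe_one] at h2
    rw [show (u : ℂ) = ω from rfl, hω.pow_eq_one,
      (hp.out.odd_of_ne_two hodd).neg_one_pow] at h2
    rw [sub_eq_add_neg, h2]
    simp only [Subalgebra.coe_mul, Subalgebra.coe_neg, Subalgebra.coe_one]
    rw [show (u : ℂ) = ω from rfl,
      show (((p : ↥(integralClosure ℤ ℂ))) : ℂ) = (p : ℂ) from map_natCast (integralClosure ℤ ℂ).val p]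
    ring
  have hnp : ((n ^ p : ℤ) : ℂ) = p * (r * w ^ p) := by
    rw [Int.cast_pow, he, mul_pow, hr.2]; ring
  have hq : IsIntegral ℤ (((n ^ p : ℤ) / p : ℚ) : ℂ) := by
    have : (((n ^ p : ℤ) / p : ℚ) : ℂ) = r * w ^ p := by
      rw [Rat.cast_div, Rat.cast_intCast, Rat.cast_natCast, hnp,
        mul_div_cancel_left₀ _ (Nat.cast_ne_zero.mpr hp.out.ne_zero)]
    rw [this]
    exact hr.1.mul (hw.pow p)
  obtain ⟨m, hm⟩ := exists_int_of_isIntegral_rat hq
  have hd : (p : ℤ) ∣ n ^ p := ⟨m, by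
    rw [div_eq_iff (Nat.cast_ne_zero.mpr hp.out.ne_zero)] at hm
    exact_mod_cast (by rw [hm]; ring : ((n ^ p : ℤ) : ℚ) = (p : ℚ) * (m : ℚ))⟩
  exact (Nat.prime_iff_prime_int.mp hp.out).dvd_of_dvd_pow hd

variable {G : Type*} [Group G] [Finite G]

/-- Virtual character values at commuting `a * b` and `b`, `a ^ p = 1`, agree modulo `ω - 1`. -/
theorem dvdRoot_value {f : G → ℂ} (hf : IsGeneralizedCharacter G f) {a b : G} (ha : a ^ p = 1)
    (hab : a * b = b * a) : DvdRoot p (f (a * b) - f b) := by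
  classical
  let K : Subgroup G := Subgroup.closure {a, b}
  have hcomm : ∀ x y : K, x * y = y * x := by
    haveI : IsMulCommutative K := Subgroup.isMulCommutative_closure <| by
      rintro x (rfl | rfl) y (rfl | rfl)
      · rfl
      · exact hab
      · exact hab.symm
      · rfl
    exact fun x y => mul_comm' x y
  have haK : a ∈ K := Subgroup.subset_closure (Set.mem_insert a _)
  have hbK : b ∈ K := Subgroup.subset_closure (Set.mem_insert_of_mem a rfl)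
  letI : Fintype K := Fintype.ofFinite K
  obtain ⟨c, hc⟩ := isGeneralized_iff.mp (isGeneralized_restrict K hf)
  have h : f (a * b) - f b = ∑ ψ : IrrCharacter K, (c ψ : ℂ) *
      ((ψ : K → ℂ) (⟨a, haK⟩ * ⟨b, hbK⟩) - (ψ : K → ℂ) ⟨b, hbK⟩) := by
    have h1 := congrFun hc (⟨a, haK⟩ * ⟨b, hbK⟩)
    have h2 := congrFun hc ⟨b, hbK⟩
    simp only [Finset.sum_apply, Pi.smul_apply, smul_eq_mul] at h1 h2
    simp only [mul_sub, Finset.sum_sub_distrib, ← h1, ← h2]
    rfl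
  rw [h]
  refine DvdRoot.sum _ _ fun ψ _ => DvdRoot.mul_left isIntegral_algebraMap ?_
  have hψ : IsCharacter K (ψ : K → ℂ) := isCharacter_of_isIrr ψ.2
  have h1 : (ψ : K → ℂ) 1 = 1 := degree_one_of_comm hcomm ψ
  obtain ⟨g, hg⟩ := exists_det_hom hψ
  rw [detChar_linear hψ h1] at hg
  rw [hg]
  simp only [map_mul, Units.val_mul]
  rw [← sub_one_mul, mul_comm]
  refine DvdRoot.mul_left ?_ ?_
  · have := isIntegral_value hψ ⟨b, hbK⟩
    rwa [hg] at this
  · have hroot : ((g ⟨a, haK⟩ : ℂˣ) : ℂ) ^ p = 1 := by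
      rw [← Units.val_pow_eq_pow_val, ← map_pow,
        show (⟨a, haK⟩ : K) ^ p = 1 from Subtype.ext ha, map_one, Units.val_one]
    haveI : NeZero p := ⟨hp.out.ne_zero⟩
    obtain ⟨i, -, hi⟩ := (Complex.isPrimitiveRoot_exp p hp.out.ne_zero).eq_pow_of_pow_eq_one hroot
    rw [← hi]
    exact dvdRoot_pow_sub_one hp.out.ne_zero i

end CfsgLib.Peterfalvi
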