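import Cfsg.Agent.Lib.Char.DadeVirtual
import Cfsg.Agent.Lib.Char.Coherence
import Cfsg.Agent.S1518

/-!
The irreducible characters attached by the Dade map to `χ - χ̄`, and the characters orthogonal to
them.
-/

set_option autoImplicit false
set_option linter.unusedSectionVars false

namespace CfsgLib.Peterfalvi

open Cfsg CfsgLib.Char
open scoped ComplexConjugate CfsgLib.Char

universe u

variable {G : Type u} [Group G] [Fintype G] {A : Set G} {L : Subgroup G} [Fintype L]
  {R : G → Subgroup G}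

/-- `χ` is irreducible, differs from its conjugate and vanishes outside `A ∪ {1}`. -/
def AChar (A : Set G) (L : Subgroup G) (χ : L → ℂ) : Prop :=
  IsIrrCharacter L χ ∧ conjFun χ ≠ χ ∧ ∀ x : L, x ≠ 1 → (x : G) ∉ A → χ x = 0

/-- `μ` is an irreducible character with `(χ - χ̄)^τ = μ - μ̄`. -/
def DadeMu (A : Set G) (L : Subgroup G) (R : G → Subgroup G) (χ : L → ℂ) (μ : G → ℂ) : Prop :=
  IsIrrCharacter G μ ∧ conjFun μ ≠ μ ∧ dadeIsometry A L R (χ - conjFun χ) = μ - conjFun μ

theorem sub_conj_props {χ : L → ℂ} (h : AChar A L χ) :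
    IsGeneralizedCharacter L (χ - conjFun χ) ∧ IsClassFunction L (χ - conjFun χ) ∧
      ∀ x : L, (x : G) ∉ A → (χ - conjFun χ) x = 0 := by
  have hg : IsGeneralizedCharacter L (χ - conjFun χ) := isGeneralized_sub
    (isGeneralized_of_isIrr h.1) (isGeneralized_of_isIrr (isIrrCharacter_conj h.1))
  refine ⟨hg, isClassFunction_of_isGeneralized hg, fun x hx => ?_⟩
  by_cases hx1 : x = 1
  · subst hx1
    rw [Pi.sub_apply, Coherence.conjFun_one (isCharacter_of_isIrr h.1), sub_self]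
  · rw [Pi.sub_apply, conjFun, h.2.2 x hx1 hx, map_zero, sub_self]

theorem classInner_sub_conj_self {χ : L → ℂ} (h : AChar A L χ) :
    classInner (χ - conjFun χ) (χ - conjFun χ) = 2 := by
  have hc : IsIrrCharacter L (conjFun χ) := isIrrCharacter_conj h.1
  rw [classInner_sub_left, classInner_sub_right, classInner_sub_right, classInner_irr_self h.1,
    classInner_irr_self hc, classInner_irr_ne h.1 hc fun e => h.2.1 e.symm,
    classInner_irr_ne hc h.1 h.2.1]
  norm_num

theorem exists_dadeMu (hD : DadeHypothesis A L R) {χ : L → ℂ} (h : AChar A L χ) :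
    ∃ μ, DadeMu A L R χ μ := by
  obtain ⟨μ, hμ, he⟩ := Cfsg.Agent.S1518.result A L R hD χ h.1 h.2.2
  refine ⟨μ, hμ, fun e => ?_, he⟩
  have h1 := dade_isometry hD (sub_conj_props h).2.1 (sub_conj_props h).2.2 (sub_conj_props h).2.1
  rw [he, e, sub_self, classInner_sub_conj_self h] at h1
  simp [classInner] at h1

/-- The coefficient relation of a Dade image at `μ` and `μ̄`. -/
theorem coeff_sub (hD : DadeHypothesis A L R) {χ : L → ℂ} (h : AChar A L χ) {μ : G → ℂ}
    (hμ : DadeMu A L R χ μ) {α : L → ℂ} (hα : IsClassFunction L α)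
    (hαA : ∀ x : L, (x : G) ∉ A → α x = 0) :
    classInner (dadeIsometry A L R α) μ - classInner (dadeIsometry A L R α) (conjFun μ) =
      classInner α (χ - conjFun χ) := by
  rw [← classInner_sub_right, ← hμ.2.2, dade_isometry hD hα hαA (sub_conj_props h).2.1]

/-- Characters not equal or conjugate have disjoint pairs `μ, μ̄`. -/
theorem dadeMu_disjoint (hD : DadeHypothesis A L R) {χ χ' : L → ℂ} (h : AChar A L χ)
    (h' : AChar A L χ') (hne : χ' ≠ χ) (hne' : χ' ≠ conjFun χ) {μ μ' : G → ℂ}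
    (hμ : DadeMu A L R χ μ) (hμ' : DadeMu A L R χ' μ') : μ' ≠ μ ∧ μ' ≠ conjFun μ := by
  have h0 : classInner (χ - conjFun χ) (χ' - conjFun χ') = 0 := by
    have hc : IsIrrCharacter L (conjFun χ) := isIrrCharacter_conj h.1
    have hc' : IsIrrCharacter L (conjFun χ') := isIrrCharacter_conj h'.1
    have e1 : conjFun χ ≠ χ' := fun e => hne' e.symm
    have e2 : χ ≠ conjFun χ' := fun e => hne' (by rw [e, Coherence.conjFun_conjFun])
    have e3 : conjFun χ ≠ conjFun χ' := fun e => hne (by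
      rw [← Coherence.conjFun_conjFun χ', ← e, Coherence.conjFun_conjFun])
    rw [classInner_sub_left, classInner_sub_right, classInner_sub_right,
      classInner_irr_ne h.1 h'.1 (Ne.symm hne), classInner_irr_ne h.1 hc' e2,
      classInner_irr_ne hc h'.1 e1, classInner_irr_ne hc hc' e3]
    norm_num
  have h1 := coeff_sub hD h' hμ' (sub_conj_props h).2.1 (sub_conj_props h).2.2
  rw [h0, hμ.2.2] at h1
  have hm : IsIrrCharacter G (conjFun μ) := isIrrCharacter_conj hμ.1
  have hn1 : classInner μ (conjFun μ) = 0 := classInner_irr_ne hμ.1 hm fun e => hμ.2.1 e.symm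
  have hn2 : classInner (conjFun μ) μ = 0 := classInner_irr_ne hm hμ.1 hμ.2.1
  constructor
  · rintro rfl
    rw [classInner_sub_left, classInner_sub_left, classInner_irr_self hμ.1, hn1, hn2,
      classInner_irr_self hm] at h1
    norm_num at h1
  · rintro rfl
    rw [Coherence.conjFun_conjFun, classInner_sub_left, classInner_sub_left,
      classInner_irr_self hμ.1, hn1, hn2, classInner_irr_self hm] at h1
    norm_num at h1

/-- If the differences `⟨α, χ - χ̄⟩` exhaust the norm of `α`, then `α^τ` only involves the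
characters `μ_χ, μ̄_χ`. -/
theorem orth_of_exhaust (hD : DadeHypothesis A L R) {ι : Type*} (s : Finset ι) (χ : ι → L → ℂ)
    (μ : ι → G → ℂ) (hA : ∀ i ∈ s, AChar A L (χ i)) (hμ : ∀ i ∈ s, DadeMu A L R (χ i) (μ i))
    (hdis : ∀ i ∈ s, ∀ j ∈ s, i ≠ j → χ j ≠ χ i ∧ χ j ≠ conjFun (χ i)) {α : L → ℂ}
    (hα : IsGeneralizedCharacter L α) (hαA : ∀ x : L, (x : G) ∉ A → α x = 0)
    (d : ι → ℤ) (hd : ∀ i ∈ s, classInner α (χ i - conjFun (χ i)) = d i)
    (hnorm : (classInner α α).re ≤ ∑ i ∈ s, |(d i : ℝ)|) {ν : G → ℂ} (hν : IsIrrCharacter G ν)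
    (hνs : ∀ i ∈ s, ν ≠ μ i ∧ ν ≠ conjFun (μ i)) :
    classInner (dadeIsometry A L R α) ν = 0 := by
  classical
  have hαc := isClassFunction_of_isGeneralized hα
  obtain ⟨c, hc⟩ := isGeneralized_iff.mp (isGeneralized_dade hD hα hαA)
  have hcoef : ∀ ψ : IrrCharacter G, classInner (dadeIsometry A L R α) (ψ : G → ℂ) = c ψ := by
    intro ψ
    rw [hc, classInner_sum_left, Finset.sum_eq_single ψ]
    · rw [classInner_smul_left, classInner_irr_self ψ.2, mul_one]
    · intro φ _ hne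
      rw [classInner_smul_left, classInner_irr_ne φ.2 ψ.2 (fun e => hne (Subtype.ext e)), mul_zero]
    · exact fun h => absurd (Finset.mem_univ ψ) h
  have hsum : ((∑ ψ : IrrCharacter G, c ψ ^ 2 : ℤ) : ℝ) = (classInner α α).re := by
    rw [← dade_isometry hD hαc hαA hαc, hc, sum_sq_coeff, Complex.intCast_re]
  -- the characters `μ_i`, `μ̄_i`, taken as points
  let f : ι × Bool → (G → ℂ) := fun x => if x.2 then μ x.1 else conjFun (μ x.1)
  have hfirr : ∀ x ∈ s ×ˢ (Finset.univ : Finset Bool), IsIrrCharacter G (f x) := by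
    intro x hx
    have hi := hμ x.1 (Finset.mem_product.mp hx).1
    simp only [f]
    split_ifs
    · exact hi.1
    · exact isIrrCharacter_conj hi.1
  let g : {x // x ∈ s ×ˢ (Finset.univ : Finset Bool)} → IrrCharacter G :=
    fun x => ⟨f x.1, hfirr x.1 x.2⟩
  have hginj : Function.Injective g := by
    rintro ⟨⟨i, b⟩, hi⟩ ⟨⟨j, b'⟩, hj⟩ e
    have e' : f (i, b) = f (j, b') := congrArg Subtype.val e
    have hi' := (Finset.mem_product.mp hi).1
    have hj' := (Finset.mem_product.mp hj).1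
    by_cases hij : i = j
    · subst hij
      cases b <;> cases b' <;> simp only [f] at e' <;> first | rfl | skip
      · exact absurd e' (hμ i hi').2.1
      · exact absurd e'.symm (hμ i hi').2.1
    · exfalso
      obtain ⟨h1, h2⟩ := dadeMu_disjoint hD (hA i hi') (hA j hj') (hdis i hi' j hj' hij).1
        (hdis i hi' j hj' hij).2 (hμ i hi') (hμ j hj')
      cases b <;> cases b' <;> simp only [f, Bool.false_eq_true, ↓reduceIte] at e'
      · exact h1 (by rw [← Coherence.conjFun_conjFun (μ j), ← e', Coherence.conjFun_conjFun])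
      · exact h2 e'.symm
      · exact h2 (by rw [← Coherence.conjFun_conjFun (μ j), ← e'])
      · exact h1 e'.symm
  have hνg : (⟨ν, hν⟩ : IrrCharacter G) ∉ Finset.univ.image g := by
    intro h
    obtain ⟨⟨⟨i, b⟩, hi⟩, -, e⟩ := Finset.mem_image.mp h
    have e' : f (i, b) = ν := congrArg Subtype.val e
    have := hνs i (Finset.mem_product.mp hi).1
    cases b <;> simp only [f, Bool.false_eq_true, ↓reduceIte] at e'
    · exact this.2 e'.symm
    · exact this.1 e'.symm
  set S := Finset.univ.image g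
  have hle : (∑ i ∈ s, |(d i : ℝ)|) ≤ ((∑ ψ ∈ S, c ψ ^ 2 : ℤ) : ℝ) := by
    rw [Finset.sum_image fun x _ y _ e => hginj e, ← Finset.attach_eq_univ]
    push_cast
    have e : (∑ x ∈ (s ×ˢ (Finset.univ : Finset Bool)).attach, (c (g x) : ℝ) ^ 2) =
        ∑ x ∈ s ×ˢ (Finset.univ : Finset Bool),
          (if h : x ∈ s ×ˢ (Finset.univ : Finset Bool) then (c (g ⟨x, h⟩) : ℝ) ^ 2 else 0) := by
      rw [← Finset.sum_attach (s ×ˢ (Finset.univ : Finset Bool))]
      exact Finset.sum_congr rfl fun x _ => by rw [dif_pos x.2]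
    rw [e, Finset.sum_product]
    refine Finset.sum_le_sum fun i hi => ?_
    have hT : (i, true) ∈ s ×ˢ (Finset.univ : Finset Bool) := Finset.mem_product.mpr ⟨hi, Finset.mem_univ _⟩
    have hF : (i, false) ∈ s ×ˢ (Finset.univ : Finset Bool) := Finset.mem_product.mpr ⟨hi, Finset.mem_univ _⟩
    have hrel := coeff_sub hD (hA i hi) (hμ i hi) hαc hαA
    rw [hd i hi] at hrel
    have e1 := hcoef (g ⟨(i, true), hT⟩)
    have e2 := hcoef (g ⟨(i, false), hF⟩)
    simp only [g, f, Bool.false_eq_true, ↓reduceIte] at e1 e2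
    rw [e1, e2] at hrel
    have hz : c (g ⟨(i, true), hT⟩) - c (g ⟨(i, false), hF⟩) = d i := by exact_mod_cast hrel
    rw [Fintype.sum_bool, dif_pos hT, dif_pos hF]
    have key : ∀ a b : ℤ, |a - b| ≤ a ^ 2 + b ^ 2 := fun a b => by
      have h1 := Int.natAbs_le_self_sq a
      have h2 := Int.natAbs_le_self_sq b
      rw [Int.natCast_natAbs] at h1 h2
      exact (abs_sub a b).trans (add_le_add h1 h2)
    exact_mod_cast hz ▸ key _ _
  have hsplit : (∑ ψ : IrrCharacter G, c ψ ^ 2) = (∑ ψ ∈ S, c ψ ^ 2) + ∑ ψ ∈ Sᶜ, c ψ ^ 2 :=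
    (Finset.sum_add_sum_compl S _).symm
  have hzero : ∑ ψ ∈ Sᶜ, c ψ ^ 2 ≤ 0 := by
    have h1 : ((∑ ψ : IrrCharacter G, c ψ ^ 2 : ℤ) : ℝ) ≤ ((∑ ψ ∈ S, c ψ ^ 2 : ℤ) : ℝ) :=
      hsum.trans_le (hnorm.trans hle)
    have h2 := (Int.cast_le (R := ℝ)).mp h1
    omega
  rw [hcoef ⟨ν, hν⟩]
  have h3 : c ⟨ν, hν⟩ ^ 2 ≤ ∑ ψ ∈ Sᶜ, c ψ ^ 2 :=
    Finset.single_le_sum (fun ψ _ => sq_nonneg (c ψ)) (Finset.mem_compl.mpr hνg)
  have h4 : c ⟨ν, hν⟩ = 0 := by
    nlinarith [sq_nonneg (c ⟨ν, hν⟩)]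
  rw [h4, Int.cast_zero]

/-- A character `ν` with `⟨ν - ν̄, α^τ⟩ = 0` is none of the `μ_χ`, `μ̄_χ` with `⟨α, χ - χ̄⟩ ≠ 0`. -/
theorem ne_dadeMu (hD : DadeHypothesis A L R) {χ : L → ℂ} (h : AChar A L χ) {μ : G → ℂ}
    (hμ : DadeMu A L R χ μ) {α : L → ℂ} (hα : IsClassFunction L α)
    (hαA : ∀ x : L, (x : G) ∉ A → α x = 0) (hne : classInner α (χ - conjFun χ) ≠ 0)
    {ν : G → ℂ} (h0 : classInner (dadeIsometry A L R α) (ν - conjFun ν) = 0) :
    ν ≠ μ ∧ ν ≠ conjFun μ := by
  have h1 := coeff_sub hD h hμ hα hαA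
  constructor
  · rintro rfl
    rw [classInner_sub_right, h1] at h0
    exact hne h0
  · rintro rfl
    rw [Coherence.conjFun_conjFun, classInner_sub_right] at h0
    exact hne (by rw [← h1]; linear_combination -h0)

end CfsgLib.Peterfalvi
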