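import Cfsg.Agent.Lib.Peterfalvi.AllTypeOne

/-!
A minimal simple group of odd order has a maximal subgroup with `κ(M)` not empty (Peterfalvi 12.17
with 8.8: not every maximal subgroup is of type I).
-/

set_option autoImplicit false
set_option linter.style.haveILetI false

namespace CfsgLib.Peterfalvi

open Cfsg

variable {G : Type*} [Group G] [Finite G]

/-- Some maximal subgroup has a non-empty `κ`. -/
theorem exists_kappa_nonempty (hG : IsMinSimpleOddOrder G) :
    ∃ M : Subgroup G, IsCoatom M ∧ (kappa M).Nonempty := by
  haveI : Fintype G := Fintype.ofFinite G
  by_contra h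
  push Not at h
  exact (AllI.mk hG fun M hM => h M hM).contradiction

end CfsgLib.Peterfalvi
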