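import Cfsg.Agent.Lib.Char.SibleyTIFN
import Cfsg.Agent.Lib.Char.FeitFrobenius
import Cfsg.Agent.Lib.Char.DadeVirtual
import Cfsg.Agent.Lib.Char.CoherenceSmallFactor
import Cfsg.Agent.Lib.CNOdd.Solvable
import Cfsg.Agent.Lib.Peterfalvi.TypeExclusive

/-!
Coherence relative to the Dade map for a Frobenius group whose kernel carries the Dade set.
-/

set_option autoImplicit false
set_option linter.unusedSectionVars false
set_option linter.style.haveILetI false

namespace CfsgLib.Peterfalvi

open Cfsg CfsgLib.Char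
open scoped ComplexConjugate CfsgLib.Char

universe u

variable {G : Type u} [Group G] [Fintype G] {A : Set G} {L : Subgroup G} [Fintype L]
  {R : G → Subgroup G}

/-- The Dade map is additive on all functions. -/
theorem dade_add (α β : L → ℂ) :
    dadeIsometry A L R (α + β) = dadeIsometry A L R α + dadeIsometry A L R β := by
  funext g
  simp only [dadeIsometry, Pi.add_apply]
  split_ifs <;> simp

theorem dade_zsmul (n : ℤ) (α : L → ℂ) :
    dadeIsometry A L R (n • α) = n • dadeIsometry A L R α := by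
  funext g
  simp only [dadeIsometry, Pi.smul_apply]
  split_ifs <;> simp

/-- When no `R a` is nontrivial the Dade map is induction. -/
theorem dade_eq_indFun (hD : DadeHypothesis A L R) (hR : ∀ a ∈ A, R a = ⊥) {α : L → ℂ}
    (hα : IsClassFunction L α) (hαA : ∀ x : L, (x : G) ∉ A → α x = 0) :
    dadeIsometry A L R α = indFun L α := by
  classical
  have hα1 : α 1 = 0 := hαA 1 (by simpa using hD.one_not_mem)
  have hTI : ∀ g : G, g ∉ L → ∀ t ∈ A, g * t * g⁻¹ ∈ A → t = 1 := by
    intro g hg t ht hgt
    obtain ⟨x, hx, hxe⟩ := hD.fusion t ht g hgt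
    have hc : x⁻¹ * g ∈ Subgroup.centralizer ({t} : Set G) := by
      rw [Subgroup.mem_centralizer_singleton_iff]
      calc x⁻¹ * g * t = x⁻¹ * (g * t * g⁻¹) * g := by group
        _ = x⁻¹ * (x * t * x⁻¹) * g := by rw [hxe]
        _ = _ := by group
    rw [← hD.sup_eq t ht, hR t ht, bot_sup_eq] at hc
    exact absurd (by simpa using L.mul_mem hx hc.1) hg
  funext g
  by_cases h : ∃ a : L, (a : G) ∈ A ∧ ∃ x : G, ∃ u ∈ R (a : G), x * g * x⁻¹ = (a : G) * u
  · obtain ⟨a, ha, x, u, hu, hx⟩ := h
    rw [dade_value hD hα ha hu hx]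
    rw [hR _ ha, Subgroup.mem_bot] at hu
    rw [hu, mul_one] at hx
    rw [← isClassFunction_indFun L α g x, hx,
      indFun_eq_of_ti L A hTI α hα hαA a ha fun e => hD.one_not_mem (by simpa [e] using ha)]
  · rw [dade_value_zero h, indFun]
    rw [Finset.sum_eq_zero, mul_zero]
    intro x _
    by_cases hy : x⁻¹ * g * x ∈ L
    · rw [extendByZero_mem L α hy]
      refine hαA _ fun hyA => h ⟨⟨_, hy⟩, hyA, x⁻¹, 1, one_mem _, ?_⟩
      simp
    · exact extendByZero_notMem L α hy

variable (K : Subgroup L) [hK : K.Normal] (hC : ∀ k ∈ K, k ≠ 1 → ∀ x : L, x * k = k * x → x ∈ K)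

/-- In a Frobenius group of odd order with abelian kernel-centre the complement is a Z-group. -/
theorem index_eq_exponent_quotient (hK1 : K ≠ ⊥) (hnil : Group.IsNilpotent K)
    (hodd : Odd (Nat.card L)) (hC : ∀ k ∈ K, k ≠ 1 → ∀ x : L, x * k = k * x → x ∈ K) :
    Monoid.exponent (L ⧸ K) = K.index := by
  have hcop : (Nat.card K).Coprime K.index := by
    refine Nat.coprime_of_dvd fun r hr h1 h2 => ?_
    haveI := Fact.mk hr
    exact SibleyTIFN.not_dvd_index K hC h1 h2
  obtain ⟨U, hU⟩ := Subgroup.exists_right_complement'_of_coprime hcop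
  let V : Subgroup L := (Subgroup.center K).map K.subtype
  haveI : IsMulCommutative V := by
    refine ⟨⟨?_⟩⟩
    rintro ⟨_, a, ha, rfl⟩ ⟨_, b, hb, rfl⟩
    have h : a * b = b * a := Subgroup.mem_center_iff.mp hb a
    exact Subtype.ext (show (K.subtype a) * K.subtype b = K.subtype b * K.subtype a by
      rw [← map_mul, h, map_mul])
  have hV : V ≠ ⊥ := by
    intro h
    haveI : Nontrivial K := (Subgroup.nontrivial_iff_ne_bot K).mpr hK1
    haveI := hnil
    exact Group.IsNilpotent.center_ne_bot (G := K) ((Subgroup.map_eq_bot_iff_of_injective _ K.subtype_injective).mp h)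
  haveI : V.Normal := ConjAct.normal_of_characteristic_of_normal
  have hUV : U ≤ Subgroup.normalizer (V : Set L) := by
    rw [Subgroup.normalizer_eq_top]; exact le_top
  have hfpf : ∀ e ∈ U, e ≠ 1 → V ⊓ Subgroup.centralizer {e} = ⊥ := by
    intro e he he1
    rw [eq_bot_iff]
    rintro v ⟨⟨k, -, rfl⟩, hv⟩
    rw [Subgroup.mem_bot]
    by_contra hne
    refine he1 ?_
    have heK : e ∈ K := hC _ k.2 hne e (Subgroup.mem_centralizer_singleton_iff.mp hv).symm
    exact Subgroup.mem_bot.mp (hU.disjoint.eq_bot ▸ Subgroup.mem_inf.mpr ⟨heK, he⟩)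
  haveI : IsZGroup U := by
    refine ⟨fun q hq T => ?_⟩
    haveI := Fact.mk hq
    by_cases hq2 : q = 2
    · subst hq2
      have h1 : (T : Subgroup U) = ⊥ := by
        obtain ⟨n, hn⟩ := IsPGroup.iff_card.1 T.2
        rcases Nat.eq_zero_or_pos n with rfl | hn0
        · exact Subgroup.eq_bot_of_card_eq _ (by rw [hn, pow_zero])
        · exact absurd (even_iff_two_dvd.2 ((dvd_pow_self 2 hn0.ne').trans
            ((dvd_of_eq hn.symm).trans ((Subgroup.card_subgroup_dvd_card _).trans
              (Subgroup.card_subgroup_dvd_card U)))))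
            (Nat.not_even_iff_odd.2 hodd)
      haveI : Subsingleton (T : Subgroup U) := by rw [h1]; infer_instance
      infer_instance
    haveI := (FrobCompl.sylow_structure hV hUV hfpf (T.2.map _) (Subgroup.map_subtype_le _)).1 hq2
    exact isCyclic_of_surjective ((T : Subgroup U).equivMapOfInjective _
      U.subtype_injective).symm.toMonoidHom (MulEquiv.surjective _)
  have e : U ≃* L ⧸ K := hU.symm.QuotientMulEquiv.symm
  rw [← Monoid.exponent_eq_of_mulEquiv e, IsZGroup.exponent_eq_card, ← hU.symm.index_eq_card]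

include hC

/-- The coherence of the induced family relative to the Dade map. -/
theorem frobenius_dade_coherent (hD : DadeHypothesis A L R)
    (hA : ∀ x : L, (x : G) ∈ A ↔ x ∈ K ∧ x ≠ 1) (hodd : Odd (Nat.card L))
    (hnil : Group.IsNilpotent K) (hK1 : K ≠ ⊥) (hKL : K < ⊤)
    (hcase : (IsTISubset ((K.map L.subtype : Subgroup G) : Set G) ∧
        Subgroup.normalizer ((K.map L.subtype : Subgroup G) : Set G) = L ∧ (∀ a ∈ A, R a = ⊥)) ∨
      (∀ a b : K, a * b = b * a) ∨
      (∀ p : ℕ, p.Prime → p ∣ Nat.card K → Monoid.exponent (L ⧸ K) ∣ p - 1)) :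
    IsCoherent (inducedIrrAbove K ⊥) {1}ᶜ (dadeIsometry A L R) := by
  classical
  have hvan : ∀ α ∈ zspanOn (inducedIrrAbove K ⊥) {1}ᶜ,
      IsGeneralizedCharacter L α ∧ IsClassFunction L α ∧ ∀ x : L, (x : G) ∉ A → α x = 0 := by
    intro α hα
    obtain ⟨hz, h1⟩ := Coherence.mem_zspanOn_iff.mp hα
    obtain ⟨hg, h2⟩ := SibleyTI.zspan_props L K hC hz
    refine ⟨hg, isClassFunction_of_isGeneralized hg, fun x hx => ?_⟩
    by_cases hx1 : x = 1
    · exact hx1 ▸ h1
    · exact h2 x fun h => hx ((hA x).mpr ⟨h, hx1⟩)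
  have hiso : IsLinearIsometryOn (zspanOn (inducedIrrAbove K ⊥) {1}ᶜ) (dadeIsometry A L R) :=
    ⟨fun α _ β _ => dade_add α β, fun α _ n => dade_zsmul n α,
      fun α hα β hβ => dade_isometry hD (hvan α hα).2.1 (hvan α hα).2.2 (hvan β hβ).2.1,
      fun α hα => isGeneralized_dade hD (hvan α hα).1 (hvan α hα).2.2⟩
  have heven : Nat.card K ≠ K.index + 1 := by
    intro h
    rw [← Subgroup.card_mul_index K, Nat.odd_mul] at hodd
    have h2 := hodd.1
    rw [h, Nat.odd_add_one] at h2
    exact h2 hodd.2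
  have feit : (∀ p : ℕ, p.Prime → IsPGroup p K → (commutator K).index ≠ Nat.card K →
      4 * K.index ^ 2 + 1 < (commutator K).index) →
      IsCoherent (inducedIrrAbove K ⊥) {1}ᶜ (dadeIsometry A L R) := by
    intro hex
    letI : Fintype K := Fintype.ofFinite K
    rw [← SibleyTIFN.nonconstant_eq K hC] at hiso ⊢
    exact FeitFrobenius.coherent K hC hK1 hKL.ne heven _ hiso
      (fun α _ => dade_apply_one hD α) hex
  rcases hcase with ⟨hTI, hN, hR⟩ | hab | hexp
  · obtain ⟨hne, τ₁, h1, h2⟩ := SibleyTI.coherent L K hC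
      (fun g hg t ht hgt => hTI g (hN.symm ▸ hg) t ht hgt) hodd hnil hK1 hKL hTI hN
    refine ⟨hne, τ₁, h1, fun α hα => ?_⟩
    rw [h2 α hα, dade_eq_indFun hD hR (hvan α hα).2.1 (hvan α hα).2.2]
  · refine feit fun p _ _ hne => absurd ?_ hne
    haveI : IsMulCommutative K := ⟨⟨hab⟩⟩
    rw [commutator_eq_bot, Subgroup.index_bot]
  · refine feit fun p hp hpK hne => ?_
    haveI := Fact.mk hp
    haveI := hnil
    obtain ⟨n, hn⟩ := IsPGroup.iff_card.1 hpK
    have hn0 : n ≠ 0 := fun h => hK1 (Subgroup.eq_bot_of_card_eq _ (by rw [hn, h, pow_zero]))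
    have hdvd : K.index ∣ p - 1 := by
      rw [← index_eq_exponent_quotient K hK1 hnil hodd hC]
      exact hexp p hp (hn ▸ dvd_pow_self p hn0)
    have hp2 : p ≠ 2 := by
      rintro rfl
      rw [← Subgroup.card_mul_index K, Nat.odd_mul, hn] at hodd
      exact Nat.not_odd_iff_even.mpr (Nat.even_pow.mpr ⟨even_two, hn0⟩) hodd.1
    -- the commutator quotient of a nonabelian `p`-group has order at least `p ^ 2`
    have hp2dvd : p ^ 2 ∣ (commutator K).index := by
      obtain ⟨m, hmn, hm⟩ := (Nat.dvd_prime_pow hp).1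
        (hn ▸ Subgroup.index_dvd_card (commutator K))
      rcases Nat.lt_or_ge m 2 with h | h
      · exfalso
        have hcy : IsCyclic (K ⧸ commutator K) := by
          interval_cases m
          · haveI : Subsingleton (K ⧸ commutator K) :=
              (Nat.card_eq_one_iff_unique.mp (hm.trans (pow_zero p))).1
            infer_instance
          · exact isCyclic_of_prime_card (p := p) (hm.trans (pow_one p))
        -- a nilpotent group with cyclic derived quotient is commutative
        have hcomm : IsCyclic K := by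
          obtain ⟨q, hq⟩ := hcy.exists_generator
          obtain ⟨k, rfl⟩ := QuotientGroup.mk'_surjective (commutator K) q
          refine isCyclic_iff_exists_zpowers_eq_top.mpr ⟨k, frattini_nongenerating (eq_top_iff.mpr fun y _ => ?_)⟩
          obtain ⟨i, hi⟩ := hq (QuotientGroup.mk' (commutator K) y)
          refine (mul_inv_cancel_left (k ^ i) y) ▸ mul_mem (Subgroup.mem_sup_left ⟨i, rfl⟩)
            (Subgroup.mem_sup_right (Descent.commutator_le_frattini_of_nilpotent K ?_))
          rw [← QuotientGroup.eq]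
          simpa using hi
        haveI := hcomm
        letI := IsCyclic.commGroup (α := K)
        exact hne (by rw [commutator_eq_bot, Subgroup.index_bot])
      · rw [hm]; exact pow_dvd_pow p h
    have hpo : Odd p := hp.odd_of_ne_two hp2
    have heo : Odd K.index := by
      rw [← Subgroup.card_mul_index K, Nat.odd_mul] at hodd
      exact hodd.2
    obtain ⟨k, hk⟩ := hdvd
    have hk2 : 2 ≤ k := by
      rcases Nat.even_or_odd k with ⟨j, rfl⟩ | hko
      · rcases Nat.eq_zero_or_pos j with rfl | hj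
        · have := hp.two_le; omega
        · omega
      · have : Odd (p - 1) := hk ▸ heo.mul hko
        obtain ⟨a, ha⟩ := this
        obtain ⟨b, hb⟩ := hpo
        omega
    have h2e : 2 * K.index + 1 ≤ p := by
      have : K.index * 2 ≤ K.index * k := Nat.mul_le_mul_left _ hk2
      have := hp.one_le
      omega
    calc 4 * K.index ^ 2 + 1 < (2 * K.index + 1) ^ 2 := by
          have := heo.pos
          nlinarith
      _ ≤ p ^ 2 := Nat.pow_le_pow_left h2e 2
      _ ≤ (commutator K).index := Nat.le_of_dvd (Nat.pos_of_ne_zero Subgroup.index_ne_zero_of_finite) hp2dvd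

end CfsgLib.Peterfalvi
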