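import Cfsg.Agent.Lib.Peterfalvi.TypeOneNu

/-!
A maximal subgroup of type I is a Frobenius group when all maximal subgroups are of type I.
-/

set_option autoImplicit false
set_option linter.style.haveILetI false
set_option linter.unusedSectionVars false

namespace CfsgLib.Peterfalvi

open Cfsg CfsgLib.Char
open scoped ComplexConjugate CfsgLib.Char Pointwise

variable {G : Type*} [Group G] [Fintype G] {L M : Subgroup G}

/-- Modulo `1 - ω`, a sum over a set with an action of a group of order `p` is the sum over the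
fixed points. -/
theorem dvdRoot_sum_fixed {α : Type*} [Fintype α] [DecidableEq α] {p : ℕ} [Fact p.Prime]
    (σ : Equiv.Perm α) (hσ : σ ^ p = 1) (F : α → ℂ) (hF : ∀ a, F (σ a) = F a)
    (hint : ∀ a, IsIntegral ℤ (F a)) :
    DvdRoot p (∑ a, F a - ∑ a ∈ Finset.univ.filter (fun a => σ a = a), F a) := by
  have hp : p.Prime := Fact.out
  suffices ∀ s : Finset α, (∀ a, a ∈ s ↔ σ a ∈ s) →
      DvdRoot p (∑ a ∈ s, F a - ∑ a ∈ s.filter (fun a => σ a = a), F a) from
    this Finset.univ fun a => by simp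
  intro s
  induction s using Finset.strongInduction with
  | _ s ih =>
  intro hinv
  by_cases hall : ∀ a ∈ s, σ a = a
  · rw [Finset.filter_true_of_mem hall, sub_self]
    exact dvdRoot_zero p
  push Not at hall
  obtain ⟨a, ha, hne⟩ := hall
  let O := (Finset.range p).image fun i => (σ ^ i) a
  have hinj : Set.InjOn (fun i : ℕ => (σ ^ i) a) (Finset.range p : Set ℕ) := by
    have key : ∀ i j, i < j → j < p → (σ ^ i) a ≠ (σ ^ j) a := by
      intro i j hij hj e
      have h1 : (σ ^ (j - i)) a = a := by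
        apply (σ ^ i).injective
        rw [← Equiv.Perm.mul_apply, ← pow_add, Nat.add_sub_of_le hij.le]
        exact e.symm
      have h2 : Function.IsPeriodicPt σ (j - i) a := by
        show σ^[j - i] a = a
        rw [← Equiv.Perm.coe_pow]; exact h1
      have h3 : Function.IsPeriodicPt σ p a := by
        show σ^[p] a = a
        rw [← Equiv.Perm.coe_pow, hσ]; rfl
      have h4 := h2.gcd h3
      rw [Nat.Coprime.gcd_eq_one (Nat.coprime_of_lt_prime (n := j - i) (by omega) (by omega) hp).symm] at h4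
      exact hne h4
    intro i hi j hj e
    simp only [Finset.coe_range, Set.mem_Iio] at hi hj
    rcases lt_trichotomy i j with h | h | h
    · exact absurd e (key i j h hj)
    · exact h
    · exact absurd e.symm (key j i h hi)
  have hpow : ∀ i : ℕ, ∀ b ∈ s, (σ ^ i) b ∈ s := by
    intro i
    induction i with
    | zero => simp
    | succ i ihi => intro b hb; rw [pow_succ', Equiv.Perm.mul_apply]; exact (hinv _).mp (ihi b hb)
  have hOs : O ⊆ s := fun b hb => by
    obtain ⟨i, -, rfl⟩ := Finset.mem_image.mp hb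
    exact hpow i a ha
  have hOinv : ∀ b, b ∈ O ↔ σ b ∈ O := by
    have hone : ∀ b ∈ O, σ b ∈ O := by
      intro b hb
      obtain ⟨i, hi, rfl⟩ := Finset.mem_image.mp hb
      refine Finset.mem_image.mpr ⟨(i + 1) % p, Finset.mem_range.mpr (Nat.mod_lt _ hp.pos), ?_⟩
      rw [← pow_eq_pow_mod _ hσ, pow_succ', Equiv.Perm.mul_apply]
    have hmany : ∀ (n : ℕ) (b : α), b ∈ O → (σ ^ n) b ∈ O := by
      intro n
      induction n with
      | zero => simp
      | succ n ihn => intro b hb; rw [pow_succ', Equiv.Perm.mul_apply]; exact hone _ (ihn b hb)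
    refine fun b => ⟨hone b, fun hb => ?_⟩
    have := hmany (p - 1) _ hb
    rwa [← Equiv.Perm.mul_apply, ← pow_succ, Nat.sub_add_cancel hp.one_le, hσ] at this
  have hFpow : ∀ i : ℕ, F ((σ ^ i) a) = F a := by
    intro i
    induction i with
    | zero => simp
    | succ i ihi => rw [pow_succ', Equiv.Perm.mul_apply, hF, ihi]
  have hrec := ih (s \ O) (Finset.sdiff_ssubset hOs ⟨a, Finset.mem_image.mpr
    ⟨0, Finset.mem_range.mpr hp.pos, by simp⟩⟩) fun b => by
      simp only [Finset.mem_sdiff, ← hinv b, ← hOinv b]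
  have hnofix : ∀ b ∈ O, σ b ≠ b := by
    intro b hb e
    obtain ⟨i, -, rfl⟩ := Finset.mem_image.mp hb
    apply hne
    apply (σ ^ i).injective
    rw [← Equiv.Perm.mul_apply, ← pow_succ, pow_succ', Equiv.Perm.mul_apply]
    exact e
  have hfil : s.filter (fun b => σ b = b) = (s \ O).filter (fun b => σ b = b) := by
    ext b
    simp only [Finset.mem_filter, Finset.mem_sdiff]
    exact ⟨fun h => ⟨⟨h.1, fun hb => hnofix b hb h.2⟩, h.2⟩, fun h => ⟨h.1.1, h.2⟩⟩
  rw [← Finset.sum_sdiff hOs, hfil, add_sub_right_comm]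
  refine hrec.add ?_
  rw [Finset.sum_image hinj, Finset.sum_congr rfl fun i _ => hFpow i, Finset.sum_const,
    Finset.card_range, nsmul_eq_mul, mul_comm]
  exact dvdRoot_prime.mul_left (hint a)

namespace AllI

variable (h : AllI G)
include h

/-- The arithmetic contradiction for a witness pair. -/
theorem witness_false {p : ℕ} {x : G} (W : Witness G L M p x) : False := by
  classical
  letI : Fintype M := Fintype.ofFinite M
  letI : Fintype L := Fintype.ofFinite L
  haveI := Fact.mk W.hp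
  set e := (sigmaCore M).relIndex M with hedef
  set k := Nat.card (sigmaCore M) with hkdef
  have hbig : (e + 1) ^ 2 < k := by
    have h1 := W.bound
    have h2 := W.sq
    have h3 := W.three
    nlinarith
  obtain ⟨ν, s, hν, hs, hmod, hnorm⟩ := h.exists_nu W.hM W.hp W.xK W.hxo W.frob hbig
  have hne : ∀ g : G, L ≠ MulAut.conj g • M := by
    obtain ⟨y, hy, hyD, hxy⟩ := W.fixed
    refine h.not_conj_frobenius W.hM W.frob (W.xCL (Subgroup.mem_centralizer_singleton_iff.mpr rfl))
      (fun hx => W.pL (OddLocal.sigma_of_orderOf hx W.hp (dvd_of_eq W.hxo.symm))) hy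
      (fun e' => hyD (e' ▸ Subgroup.one_mem _)) hxy.eq
  obtain ⟨U, U₁, hsL⟩ := h.exists_setup W.hL
  set H := fittingHall L with hHdef
  letI : Fintype H := Fintype.ofFinite H
  have hdL := h.dade W.hL
  have havgA : ∀ a : L, (a : G) ∈ setA L → ν (a : G) = (Nat.card (supportR L (a : G)) : ℂ)⁻¹ *
      ∑ᶠ u ∈ (supportR L (a : G) : Set G), ν ((a : G) * u) :=
    fun a ha => h.avg_support W.hM W.frob hν W.hL ha
  -- the sums over the cosets of the derived group
  set N := commutator H with hNdef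
  letI : Fintype N := Fintype.ofFinite N
  set f : H → ℂ := fun y => ν ((y : L) : G) with hfdef
  have hab : ∀ a b : H ⧸ N, a * b = b * a := fun a b => mul_comm (G := Abelianization H) a b
  have hHmem : ∀ y : H, ((y : L) : G) ∈ sigmaCore L := fun y => (h.mem_kernel_iff W.hL _).mp y.2
  have hinner : ∀ θ θ' : H →* ℂˣ, (∀ n ∈ N, θ n = 1) → (∀ n ∈ N, θ' n = 1) → θ ≠ 1 → θ' ≠ 1 →
      classInner f (fun y => ((θ y : ℂˣ) : ℂ)) = classInner f (fun y => ((θ' y : ℂˣ) : ℂ)) := by
    intro θ θ' _ _ hθ hθ'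
    have hne1 : ∀ {θ : H →* ℂˣ}, θ ≠ 1 → (fun y => ((θ y : ℂˣ) : ℂ)) ≠ fun _ => 1 :=
      fun hθ e' => hθ (MonoidHom.ext fun y => Units.ext (congrFun e' y))
    set α := indFun H (fun y => ((θ y : ℂˣ) : ℂ)) - indFun H (fun y => ((θ' y : ℂˣ) : ℂ)) with hαdef
    have hαc : IsClassFunction L α := isClassFunction_of_isGeneralized (isGeneralized_sub
      (isGeneralized_indFun H (isGeneralized_of_isIrr (isIrrCharacter_monoidHom θ)))
      (isGeneralized_indFun H (isGeneralized_of_isIrr (isIrrCharacter_monoidHom θ'))))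
    have hαA : ∀ y : L, (y : G) ∉ setA L → α y = 0 := by
      intro y hy
      by_cases hyH : y ∈ H
      · rcases eq_or_ne y 1 with rfl | hy1
        · rw [hαdef, Pi.sub_apply, indFun_one, indFun_one]; simp
        · exact absurd (hsL.mem_of_kernel hyH hy1) hy
      · rw [hαdef, Pi.sub_apply, indFun_notMem_of_normal H _ hyH, indFun_notMem_of_normal H _ hyH,
          sub_zero]
    have h0 := hsL.orth_induced (isIrrCharacter_monoidHom θ) (isIrrCharacter_monoidHom θ')
      (hne1 hθ) (hne1 hθ') (by simp) (h.orthKernel W.hM hν W.hL hne)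
    have hres : IsClassFunction L fun y : L => ν (y : G) :=
      isClassFunction_restrict L hν.classFunction
    rw [dade_adjoint hdL hαc hαA hν.classFunction havgA, hαdef, classInner_sub_left, sub_eq_zero,
      frobenius_reciprocity H _ hres, frobenius_reciprocity H _ hres] at h0
    rw [← classInner_conj_symm, h0, classInner_conj_symm]
  obtain ⟨y₀, hy₀, hy₀D, hxy₀⟩ := W.fixed
  have hy₀L : y₀ ∈ L := OddLocal.piCoreOf_le _ L hy₀
  set Y : H := ⟨⟨y₀, hy₀L⟩, (h.mem_kernel_iff W.hL _).mpr hy₀⟩ with hYdef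
  have hmapH : (H.map L.subtype : Subgroup G) = sigmaCore L := h.core L W.hL
  have hmapN : (N.map H.subtype).map L.subtype = ⁅sigmaCore L, sigmaCore L⁆ := by
    rw [hNdef, Subgroup.map_subtype_commutator, Subgroup.map_commutator, hmapH]
  have hYN : Y ∉ N := fun hY => hy₀D (hmapN ▸ ⟨_, ⟨Y, hY, rfl⟩, rfl⟩)
  set c₀ : ℂ := (Nat.card N : ℂ)⁻¹ * ∑ n : N, f (Y * n) with hc₀def
  have hNne : (Nat.card N : ℂ) ≠ 0 := Nat.cast_ne_zero.mpr Nat.card_pos.ne'
  have hsum : ∀ a : H, a ∉ N → ∑ n : N, f (a * n) = (Nat.card N : ℂ) * c₀ := fun a ha => by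
    rw [hc₀def, mul_inv_cancel_left₀ hNne, coset_sum_eq hab hinner ha hYN]
  obtain ⟨θ, hθN, hθY⟩ := exists_linear N hab hYN
  have hfg : IsGeneralizedCharacter H f :=
    isGeneralized_restrict H (isGeneralized_comp L.subtype (isGeneralized_of_isIrr hν.irr))
  obtain ⟨c, hc⟩ := exists_int_const hfg θ hθN (fun e' => hθY (by rw [e']; rfl)) hsum
  -- the congruence
  have hxL : x ∈ L := W.xCL (Subgroup.mem_centralizer_singleton_iff.mpr rfl)
  have hxσ : x ∉ sigmaCore L := fun hx => W.pL (OddLocal.sigma_of_orderOf hx W.hp (dvd_of_eq W.hxo.symm))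
  have hx1 : x ≠ 1 := fun e' => W.hp.ne_one (by rw [← W.hxo, e', orderOf_one])
  set D := ⁅sigmaCore L, sigmaCore L⁆ with hDdef
  have hDH : D ≤ sigmaCore L := Subgroup.commutator_le_self _
  have hND : Nat.card N = Nat.card D := by
    rw [← hmapN, Subgroup.card_map_of_injective L.subtype_injective,
      Subgroup.card_map_of_injective H.subtype_injective]
  have hpN : ¬ p ∣ Nat.card D := fun hd => W.pL (OddLocal.isPi_piCoreOf _ L p W.hp
    (hd.trans (Subgroup.card_dvd_of_le hDH)))
  have hxD : x ∈ Subgroup.normalizer (D : Set G) :=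
    Coprime.le_normalizer_commutator (le_normalizer_sigmaCore L) (le_normalizer_sigmaCore L) hxL
  letI : Fintype D := Fintype.ofFinite D
  have hxp : x ^ p = 1 := by rw [← W.hxo, pow_orderOf_eq_one]
  let σ : Equiv.Perm D := (Subgroup.normalizerMonoidHom D ⟨x, hxD⟩).toEquiv
  have hσp : σ ^ p = 1 := by
    have h1 : (Subgroup.normalizerMonoidHom D ⟨x, hxD⟩) ^ p = 1 := by
      rw [← map_pow, show (⟨x, hxD⟩ : Subgroup.normalizer (D : Set G)) ^ p = 1 from Subtype.ext hxp,
        map_one]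
    have h2 := congrArg (fun φ : MulAut D => MulAut.toPerm D φ) h1
    simp only [map_pow, map_one] at h2
    exact h2
  have hσval : ∀ d : D, ((σ d : D) : G) = x * d * x⁻¹ := fun d => rfl
  set F : D → ℂ := fun d => ν (y₀ * d) with hFdef
  have hFinv : ∀ d, F (σ d) = F d := fun d => by
    show ν (y₀ * ((σ d : D) : G)) = ν (y₀ * d)
    rw [hσval, show y₀ * (x * (d : G) * x⁻¹) = x * (y₀ * d) * x⁻¹ by
      rw [show x * (y₀ * (d : G)) = (x * y₀) * d from (mul_assoc _ _ _).symm, hxy₀.eq]; group]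
    exact hν.classFunction _ _
  have hsumF : ∑ d : D, F d = (Nat.card D : ℂ) * (c : ℂ) := by
    rw [← hND, ← hc, ← hsum Y hYN]
    refine (Fintype.sum_equiv
      ((N.equivMapOfInjective H.subtype H.subtype_injective).trans
        (((N.map H.subtype).equivMapOfInjective L.subtype L.subtype_injective).trans
          (MulEquiv.subgroupCongr hmapN))).toEquiv _ _ fun n => ?_).symm
    rfl
  have hfix := dvdRoot_sum_fixed σ hσp F hFinv fun d => isIntegral_irr hν.irr _
  have hfixed : ∀ d ∈ Finset.univ.filter (fun d : D => σ d = d),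
      DvdRoot p (F d - ((s * e : ℤ) : ℂ)) := by
    intro d hd
    have hd' : x * (d : G) * x⁻¹ = d := congrArg Subtype.val (Finset.mem_filter.mp hd).2
    have hxd : Commute x (y₀ * d) := hxy₀.mul_right (mul_inv_eq_iff_eq_mul.mp hd')
    have hv : y₀ * (d : G) ∈ sigmaCore L := mul_mem hy₀ (hDH d.2)
    have hy₀1 : y₀ ≠ 1 := fun e' => hy₀D (e' ▸ Subgroup.one_mem _)
    have hxA : x ∈ setA L := h.mem_setA W.hL hxL hx1 hy₀ hy₀1 hxy₀.eq
    have hvxA : y₀ * (d : G) * x ∈ setA L := by
      refine h.mem_setA W.hL (mul_mem (OddLocal.piCoreOf_le _ L hv) hxL) ?_ hv ?_ ?_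
      · intro e'
        exact hxσ (by rw [eq_inv_of_mul_eq_one_right e']; exact inv_mem hv)
      · intro e'
        exact hy₀D (by rw [eq_inv_of_mul_eq_one_left e']; exact inv_mem d.2)
      · rw [mul_assoc, hxd.eq]
    have h1 := h.value_coset W.hM hν W.hL hne hxA hxσ hv hvxA
    have h2 := dvdRoot_value (isGeneralized_of_isIrr hν.irr) hxp hxd.eq
    rw [hxd.eq, h1] at h2
    have h3 := hmod.sub h2
    rwa [show ν x - ((s * e : ℤ) : ℂ) - (ν x - ν (y₀ * d)) = F d - ((s * e : ℤ) : ℂ) by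
      simp only [hFdef]; ring] at h3
  have hdvd : DvdRoot p (((Nat.card D : ℤ) * c -
      ((Finset.univ.filter (fun d : D => σ d = d)).card : ℤ) * (s * e) : ℤ) : ℂ) := by
    have h1 := hfix.add (DvdRoot.sum _ _ hfixed)
    rw [Finset.sum_sub_distrib, Finset.sum_const, nsmul_eq_mul, hsumF] at h1
    push_cast at h1 ⊢
    rwa [sub_add_sub_cancel] at h1
  have hd1 := dvd_of_dvdRoot W.hp2 hdvd
  have hcardfix : (p : ℤ) ∣ (Nat.card D : ℤ) - ((Finset.univ.filter (fun d : D => σ d = d)).card : ℤ) := by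
    have h1 := card_fixed_modEq W.hp hxp hxD
    have h2 : Nat.card ↥(D ⊓ Subgroup.centralizer ({x} : Set G)) =
        (Finset.univ.filter (fun d : D => σ d = d)).card := by
      rw [← Nat.subtype_card _ (fun d => by simp : ∀ d, d ∈ Finset.univ.filter (fun d : D => σ d = d) ↔
        σ d = d)]
      refine Nat.card_congr
        { toFun := fun d => ⟨⟨(d : G), d.2.1⟩, Subtype.ext ?_⟩
          invFun := fun d => ⟨((d.1 : D) : G), (d.1 : D).2, ?_⟩
          left_inv := fun d => rfl
          right_inv := fun d => rfl }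
      · rw [hσval]
        exact mul_inv_eq_iff_eq_mul.mpr (Subgroup.mem_centralizer_singleton_iff.mp d.2.2).symm
      · exact Subgroup.mem_centralizer_singleton_iff.mpr
          (mul_inv_eq_iff_eq_mul.mp (congrArg Subtype.val d.2)).symm
    rw [h2] at h1
    exact Nat.modEq_iff_dvd.mp h1.symm
  have hpd : (p : ℤ) ∣ c - s * e := by
    have h1 : (p : ℤ) ∣ (Nat.card D : ℤ) * (c - s * e) := by
      have h2 := dvd_sub hd1 (hcardfix.mul_right (s * e))
      rwa [show (Nat.card D : ℤ) * (c - s * e) = (Nat.card D : ℤ) * c -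
        ((Finset.univ.filter (fun d : D => σ d = d)).card : ℤ) * (s * e) -
        ((Nat.card D : ℤ) - ((Finset.univ.filter (fun d : D => σ d = d)).card : ℤ)) * (s * e) by ring]
    refine ((Nat.prime_iff_prime_int.mp W.hp).dvd_mul.mp h1).resolve_left fun hd => hpN ?_
    exact_mod_cast hd
  have hcbig : (e : ℤ) - 1 ≤ |c| := by
    obtain ⟨m, hm⟩ := hpd
    have hb : 2 * (e : ℤ) ≤ p + 1 := by exact_mod_cast W.bound
    have he3 : (3 : ℤ) ≤ e := by exact_mod_cast W.three
    have hse : |s * (e : ℤ)| = e := by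
      rcases hs with rfl | rfl <;> simp
    rcases eq_or_ne m 0 with rfl | hm0
    · rw [mul_zero, sub_eq_zero] at hm
      rw [hm, hse]; omega
    · have h1 : (p : ℤ) ≤ |c - s * e| := by
        rw [hm, abs_mul, Nat.abs_cast]
        exact le_mul_of_one_le_right (by positivity) (Int.one_le_abs hm0)
      have h2 := abs_sub c (s * (e : ℤ))
      omega
  -- the norm over `A₁(L)`
  set A1 : Set G := (sigmaCore L : Set G) \ {1}
  have hN1 := Cfsg.Agent.S1525.result A1 L (supportR L) (h.dade_core W.hL) ν hν.classFunction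
    (fun y : L => ν (y : G)) fun a ha => havgA a (by
      have h1 : (a : G) ∈ typeA1 L := by rw [h.typeA1_eq W.hL]; exact ha
      exact typeA1_subset_setA h.hG W.hL (h.kappa L W.hL) h1)
  have hset : {g : G | ∃ a ∈ A1, ∃ u ∈ supportR L a, ∃ y : G, y * g * y⁻¹ = a * u} =
      tildeOf L A1 := by
    ext g
    constructor
    · rintro ⟨a, ha, u, hu, y, hy⟩
      exact ⟨a, ha, u, hu, y⁻¹, by rw [← hy]; group⟩
    · rintro ⟨a, ha, u, hu, y, hy⟩
      exact ⟨a, ha, u, hu, y⁻¹, by rw [hy]; group⟩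
  rw [hset] at hN1
  have htwo := norm_two_sets (OddLocal.tilde_disjoint h.hG W.hM W.hL hne) ν
  rw [classInner_irr_re hν.irr] at htwo
  -- lower bound on the sum over `L_σ`
  set O := Finset.univ.filter fun y : H => y ∉ N with hOdef
  have hOsum : ∑ y ∈ O, f y = (O.card : ℂ) * c := by
    have h1 : ∀ n : N, ∑ y ∈ O, f (y * n) = ∑ y ∈ O, f y := fun n => by
      refine Finset.sum_equiv (Equiv.mulRight (n : H)) (fun y => ?_) fun y _ => rfl
      simp only [hOdef, Finset.mem_filter, Finset.mem_univ, true_and, Equiv.coe_mulRight]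
      rw [N.mul_mem_cancel_right n.2]
    have h2 : ∑ n : N, ∑ y ∈ O, f (y * n) = (Nat.card N : ℂ) * ((O.card : ℂ) * c) := by
      rw [Finset.sum_comm, Finset.sum_congr rfl fun y hy => hsum y (Finset.mem_filter.mp hy).2,
        Finset.sum_const, nsmul_eq_mul, hc]
      ring
    rw [Finset.sum_congr rfl fun n _ => h1 n, Finset.sum_const, Finset.card_univ, nsmul_eq_mul,
      ← Nat.card_eq_fintype_card] at h2
    exact mul_left_cancel₀ hNne h2
  have hlow : (O.card : ℝ) * (c : ℝ) ^ 2 ≤ ∑ y ∈ O, ‖f y‖ ^ 2 := by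
    have h1 : 0 ≤ ∑ y ∈ O, ‖f y - (c : ℂ)‖ ^ 2 := Finset.sum_nonneg fun y _ => sq_nonneg _
    have h2 : ∀ y : H, ‖f y - (c : ℂ)‖ ^ 2 = ‖f y‖ ^ 2 - 2 * (c : ℝ) * (f y).re + (c : ℝ) ^ 2 := by
      intro y
      rw [Complex.sq_norm, Complex.sq_norm, Complex.normSq_apply, Complex.normSq_apply]
      simp only [Complex.sub_re, Complex.sub_im, Complex.intCast_re, Complex.intCast_im, sub_zero]
      ring
    have h3 : ∑ y ∈ O, (f y).re = (O.card : ℝ) * c := by
      rw [← Complex.re_sum, hOsum]; simp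
    simp only [h2, Finset.sum_add_distrib, Finset.sum_sub_distrib, ← Finset.mul_sum, h3,
      Finset.sum_const, nsmul_eq_mul] at h1
    nlinarith
  have hsub : ∑ y ∈ O, ‖f y‖ ^ 2 ≤ ∑ᶠ a ∈ {a : L | (a : G) ∈ A1}, ‖ν (a : G)‖ ^ 2 := by
    rw [finsum_mem_eq_toFinset_sum, ← Finset.sum_image (f := fun a : L => ‖ν (a : G)‖ ^ 2)
      (g := fun y : H => (y : L)) (fun a _ b _ e' => Subtype.ext e')]
    refine Finset.sum_le_sum_of_subset_of_nonneg ?_ fun a _ _ => sq_nonneg _
    intro a ha
    obtain ⟨y, hy, rfl⟩ := Finset.mem_image.mp ha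
    rw [Set.mem_toFinset]
    exact ⟨hHmem y, fun e' => (Finset.mem_filter.mp hy).2
      ((show y = 1 from Subtype.ext (Subtype.ext e')) ▸ N.one_mem)⟩
  -- the orders
  set n := N.index
  have hn5 : 5 ≤ n := by
    have h5 := W.five
    rw [Subgroup.relIndex] at h5
    have e1 := N.card_mul_index
    have e2 := (D.subgroupOf (sigmaCore L)).card_mul_index
    rw [Nat.card_congr (Subgroup.subgroupOfEquivOfLe hDH).toEquiv, ← hND] at e2
    have e3 : Nat.card H = Nat.card (sigmaCore L) := by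
      rw [← hmapH, Subgroup.card_map_of_injective L.subtype_injective]
    rw [← e3, ← e1] at e2
    rwa [Nat.eq_of_mul_eq_mul_left Nat.card_pos e2] at h5
  have hOcard : (O.card : ℝ) = (Nat.card N : ℝ) * ((n : ℝ) - 1) := by
    have h1 := Finset.card_filter_add_card_filter_not (s := (Finset.univ : Finset H)) (fun y => y ∈ N)
    rw [Finset.card_univ, ← Fintype.card_subtype, ← Nat.card_eq_fintype_card,
      ← Nat.card_eq_fintype_card, ← N.card_mul_index] at h1
    have h2 : (Nat.card N : ℝ) + O.card = Nat.card N * n := by exact_mod_cast h1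
    linarith
  have hcardL : Nat.card L ≤ Nat.card N * n * k := by
    rw [N.card_mul_index, OddLocal.card_eq_of_compl W.compl, mul_comm,
      ← h.core L W.hL, fittingHallOf, Subgroup.card_map_of_injective L.subtype_injective]
    exact Nat.mul_le_mul_left _ (Nat.le_of_dvd Nat.card_pos (Subgroup.card_dvd_of_le W.inter))
  -- the contradiction
  have hkey : (Nat.card L : ℝ)⁻¹ * ((O.card : ℝ) * (c : ℝ) ^ 2) ≤ (e : ℝ) / k := by
    have h1 := (mul_le_mul_of_nonneg_left (hlow.trans hsub)
      (inv_nonneg.mpr (Nat.cast_nonneg (α := ℝ) (Nat.card L)))).trans hN1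
    linarith
  have hL0 : (0 : ℝ) < Nat.card L := by exact_mod_cast Nat.card_pos
  have hk0 : (0 : ℝ) < k := by exact_mod_cast Nat.card_pos
  rw [inv_mul_le_iff₀ hL0, mul_div_assoc', le_div_iff₀ hk0, hOcard] at hkey
  have hcardL' : (Nat.card L : ℝ) ≤ (Nat.card N : ℝ) * n * k := by exact_mod_cast hcardL
  have hN0 : (0 : ℝ) < Nat.card N := by exact_mod_cast Nat.card_pos
  have he3 : (3 : ℝ) ≤ e := by exact_mod_cast W.three
  have hn5' : (5 : ℝ) ≤ n := by exact_mod_cast hn5
  have hc2 : ((e : ℝ) - 1) ^ 2 ≤ (c : ℝ) ^ 2 := by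
    have h1 : (e : ℝ) - 1 ≤ |(c : ℝ)| := by exact_mod_cast hcbig
    rw [← sq_abs (c : ℝ)]
    exact pow_le_pow_left₀ (by linarith) h1 2
  have h1 : (Nat.card N : ℝ) * k * (((n : ℝ) - 1) * (c : ℝ) ^ 2) ≤ (Nat.card N : ℝ) * k * ((n : ℝ) * e) := by
    have h2 := mul_le_mul_of_nonneg_right hcardL' (by linarith : (0 : ℝ) ≤ e)
    nlinarith
  have h2 := le_of_mul_le_mul_left h1 (mul_pos hN0 hk0)
  have h3 : ((n : ℝ) - 1) * ((e : ℝ) - 1) ^ 2 ≤ (n : ℝ) * e :=
    (mul_le_mul_of_nonneg_left hc2 (by linarith)).trans h2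
  nlinarith [mul_nonneg (by linarith : (0 : ℝ) ≤ (n : ℝ) - 5) (by nlinarith : (0 : ℝ) ≤ ((e : ℝ) - 1) ^ 2 - e)]

/-- Every maximal subgroup is a Frobenius group with kernel `M_σ`. -/
theorem frobenius (hM : IsCoatom M) :
    ∀ y ∈ sigmaCore M, y ≠ 1 → M ⊓ Subgroup.centralizer ({y} : Set G) ≤ sigmaCore M :=
  frobenius_of_not_bad h.hG hM fun r hr => by
    obtain ⟨L', M', p, x, W⟩ := h.exists_witness ⟨M, r, hM, hr⟩
    exact h.witness_false W

end AllI

end CfsgLib.Peterfalvi
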