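import Cfsg.Agent.Lib.Char.Gallagher
import Cfsg.Agent.Lib.Char.Table
import Cfsg.Agent.Lib.Char.Kernel
import Cfsg.Agent.Lib.Char.Artin
import Cfsg.Agent.Lib.Char.Induced
import Cfsg.Agent.Lib.Char.Coherence
import Cfsg.Agent.Lib.Char.ExtendChar

/-!
Class functions orthogonal to many characters are constant on large sets.
-/

set_option autoImplicit false
set_option linter.unusedSectionVars false

namespace CfsgLib.Peterfalvi

open Cfsg CfsgLib.Char
open scoped ComplexConjugate CfsgLib.Char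

variable {L : Type*} [Group L] [Fintype L]

/-- `χ` is not trivial on `N`. -/
def NontrivOn (N : Subgroup L) (χ : L → ℂ) : Prop := ∃ n ∈ N, χ n ≠ χ 1

/-- A character which is trivial on `N` is constant on the cosets of `N`. -/
theorem coset_eq_of_not_nontriv {N : Subgroup L} {χ : L → ℂ} (hχ : IsCharacter L χ)
    (h : ¬ NontrivOn N χ) {n : L} (hn : n ∈ N) (g : L) : χ (n * g) = χ g := by
  obtain ⟨K, -, hK, hmul⟩ := exists_kernel hχ
  exact hmul n ((hK n).mpr (not_not.mp fun e => h ⟨n, hn, e⟩)) g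

/-- A class function whose inner products with the characters non-trivial on `N` are proportional
to the degrees is constant on `N` minus the identity. -/
theorem const_of_orth {N : Subgroup L} {D : L → ℂ} (hD : IsClassFunction L D)
    (h : ∀ χ ψ : L → ℂ, IsIrrCharacter L χ → IsIrrCharacter L ψ → NontrivOn N χ → NontrivOn N ψ →
      ψ 1 * classInner D χ = χ 1 * classInner D ψ) {a b : L} (ha : a ∈ N) (ha1 : a ≠ 1)
    (hb : b ∈ N) (hb1 : b ≠ 1) : D a = D b := by
  classical
  -- the common proportionality factor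
  obtain ⟨t, ht⟩ : ∃ t : ℂ, ∀ χ : IrrCharacter L, NontrivOn N (χ : L → ℂ) →
      classInner D (χ : L → ℂ) = t * (χ : L → ℂ) 1 := by
    by_cases hex : ∃ ψ : IrrCharacter L, NontrivOn N (ψ : L → ℂ)
    · obtain ⟨ψ, hψ⟩ := hex
      refine ⟨classInner D (ψ : L → ℂ) / (ψ : L → ℂ) 1, fun χ hχ => ?_⟩
      have h1 := h _ _ χ.2 ψ.2 hχ hψ
      rw [div_mul_eq_mul_div, eq_div_iff (irr_degree_ne_zero ψ.2)]
      linear_combination h1
    · exact ⟨0, fun χ hχ => absurd ⟨χ, hχ⟩ hex⟩
  have hreg : ∀ g : L, g ≠ 1 → D g = ∑ χ : IrrCharacter L,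
      (classInner D (χ : L → ℂ) - t * (χ : L → ℂ) 1) * (χ : L → ℂ) g := by
    intro g hg
    have h0 := sum_degree_mul_irr g
    rw [if_neg hg] at h0
    simp only [sub_mul, Finset.sum_sub_distrib, mul_assoc, ← Finset.mul_sum, h0, mul_zero, sub_zero]
    simpa [Finset.sum_apply] using congrFun (classFunction_expansion hD) g
  rw [hreg a ha1, hreg b hb1]
  refine Finset.sum_congr rfl fun χ _ => ?_
  by_cases hn : NontrivOn N (χ : L → ℂ)
  · rw [ht χ hn, sub_self, zero_mul, zero_mul]
  · rw [not_not.mp fun e => hn ⟨a, ha, e⟩, not_not.mp fun e => hn ⟨b, hb, e⟩]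

/-- A class function orthogonal to the characters non-trivial on `N` is constant on the cosets
of `N`. -/
theorem coset_eq_of_orth {N : Subgroup L} {E : L → ℂ} (hE : IsClassFunction L E)
    (h : ∀ χ : L → ℂ, IsIrrCharacter L χ → NontrivOn N χ → classInner E χ = 0) {n : L}
    (hn : n ∈ N) (g : L) : E (n * g) = E g := by
  classical
  conv_lhs => rw [classFunction_expansion hE]
  conv_rhs => rw [classFunction_expansion hE]
  simp only [Finset.sum_apply, Pi.smul_apply, smul_eq_mul]
  refine Finset.sum_congr rfl fun χ _ => ?_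
  by_cases hc : NontrivOn N (χ : L → ℂ)
  · rw [h _ χ.2 hc, zero_mul, zero_mul]
  · rw [coset_eq_of_not_nontriv (isCharacter_of_isIrr χ.2) hc hn g]

/-- An element outside a normal subgroup is moved by a character trivial on it. -/
theorem exists_irr_trivial (N : Subgroup L) [N.Normal] {u : L} (hu : u ∉ N) :
    ∃ ξ : L → ℂ, IsIrrCharacter L ξ ∧ ¬ NontrivOn N ξ ∧ ξ u ≠ ξ 1 := by
  classical
  by_contra hc
  refine hu ((QuotientGroup.eq_one_iff u).mp (eq_one_of_forall_irr fun χ => ?_))
  by_contra hne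
  refine hc ⟨fun g => (χ : L ⧸ N → ℂ) (QuotientGroup.mk' N g),
    isIrrCharacter_comp (QuotientGroup.mk'_surjective N) χ.2, ?_, hne⟩
  rintro ⟨n, hn, e⟩
  refine e ?_
  show (χ : L ⧸ N → ℂ) ((n : L) : L ⧸ N) = (χ : L ⧸ N → ℂ) ((1 : L) : L ⧸ N)
  rw [(QuotientGroup.eq_one_iff n).mpr hn, QuotientGroup.mk_one]

/-- Multiplying by a character: if `D` has the same inner product with every irreducible character
lying over the same character of `N` as `χ`, then it has `ξ 1` times that product with `χ ξ`. -/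
theorem classInner_mul_trivial {N : Subgroup L} [N.Normal] [Fintype N] {D χ ξ : L → ℂ}
    (hχ : IsIrrCharacter L χ) (hξ : IsIrrCharacter L ξ) (hξN : ¬ NontrivOn N ξ)
    (hdeg : ∀ (φ : L → ℂ) (θ : N → ℂ), IsIrrCharacter L φ → IsIrrCharacter N θ →
      classInner (fun n : N => χ n) θ ≠ 0 → classInner (fun n : N => φ n) θ ≠ 0 →
      φ 1 = χ 1 ∧ classInner φ D = classInner χ D) :
    classInner (χ * ξ) D = ξ 1 * classInner χ D := by
  classical
  have hc : IsCharacter L (χ * ξ) :=
    isCharacter_mul (isCharacter_of_isIrr hχ) (isCharacter_of_isIrr hξ)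
  obtain ⟨m, hm⟩ := exists_multiplicities hc
  -- every constituent lies over a character under `χ`
  have hover : ∀ φ : IrrCharacter L, m φ ≠ 0 → (φ : L → ℂ) 1 = χ 1 ∧
      classInner (φ : L → ℂ) D = classInner χ D := by
    intro φ hφ
    obtain ⟨θ, hθ⟩ := exists_constituent N (isCharacter_of_isIrr φ.2) (irr_degree_ne_zero φ.2)
    refine hdeg _ _ φ.2 θ.2 (fun h0 => ?_) hθ
    have h1 : (fun n : N => (χ * ξ) n) = ξ 1 • (fun n : N => χ n) := by
      funext n
      have := not_not.mp fun e => hξN ⟨n, n.2, e⟩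
      simp [this, mul_comm]
    have h2 : classInner (fun n : N => (χ * ξ) n) (θ : N → ℂ) = 0 := by
      rw [h1, classInner_smul_left, h0, mul_zero]
    rw [hm] at h2
    have h3 : (fun n : N => (∑ ψ : IrrCharacter L, (m ψ : ℂ) • (ψ : L → ℂ)) n) =
        ∑ ψ : IrrCharacter L, (m ψ : ℂ) • (fun n : N => (ψ : L → ℂ) n) := by
      funext n; simp [Finset.sum_apply]
    rw [h3, classInner_sum_left] at h2
    simp only [classInner_smul_left] at h2
    choose k hk using fun ψ : IrrCharacter L => exists_nat_classInner (G := N)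
      (isCharacter_restrict N (isCharacter_of_isIrr ψ.2)) (isCharacter_of_isIrr θ.2)
    simp only [hk] at h2
    have h4 : ∑ ψ : IrrCharacter L, m ψ * k ψ = 0 := by exact_mod_cast h2
    rcases mul_eq_zero.mp (Finset.sum_eq_zero_iff.mp h4 φ (Finset.mem_univ φ)) with e | e
    · exact hφ e
    · exact hθ (by rw [hk φ, e, Nat.cast_zero])
  have hsum : (∑ φ : IrrCharacter L, (m φ : ℂ)) = ξ 1 := by
    have h1 : (χ * ξ) 1 = ∑ φ : IrrCharacter L, (m φ : ℂ) * χ 1 := by
      rw [congrFun hm 1]
      simp only [Finset.sum_apply, Pi.smul_apply, smul_eq_mul]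
      refine Finset.sum_congr rfl fun φ _ => ?_
      rcases eq_or_ne (m φ) 0 with e | e
      · simp [e]
      · rw [(hover φ e).1]
    rw [Pi.mul_apply, ← Finset.sum_mul, mul_comm] at h1
    exact (mul_right_cancel₀ (irr_degree_ne_zero hχ) h1).symm
  rw [hm, classInner_sum_left, ← hsum, Finset.sum_mul]
  refine Finset.sum_congr rfl fun φ _ => ?_
  rw [classInner_smul_left]
  rcases eq_or_ne (m φ) 0 with e | e
  · simp [e]
  · rw [(hover φ e).2]

/-- A constant average off `N` of a virtual character is a rational integer. -/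
theorem exists_int_const {H : Type*} [Group H] [Fintype H] {N : Subgroup H} [Fintype N]
    {f : H → ℂ} (hf : IsGeneralizedCharacter H f) (θ : H →* ℂˣ) (hθN : ∀ n ∈ N, θ n = 1)
    (hθ : θ ≠ 1) {c : ℂ} (hc : ∀ h : H, h ∉ N → ∑ n : N, f (h * n) = (Nat.card N : ℂ) * c) :
    ∃ m : ℤ, c = m := by
  classical
  set lam : H → ℂ := fun h => ((θ h : ℂˣ) : ℂ) with hlam
  have hirr : IsIrrCharacter H lam := isIrrCharacter_monoidHom θ
  have hne : (fun _ : H => (1 : ℂ)) ≠ lam := fun e => hθ (MonoidHom.ext fun h =>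
    Units.ext (congrFun e h).symm)
  obtain ⟨a, ha⟩ := exists_int_classInner hf (isGeneralized_one (G := H))
  obtain ⟨b, hb⟩ := exists_int_classInner hf (isGeneralized_of_isIrr hirr)
  refine ⟨a - b, ?_⟩
  have hl1 : ∑ h : H, conj (lam h) = 0 := by
    have h1 := classInner_irr_ne (isIrrCharacter_one (G := H)) hirr hne
    rw [classInner, mul_eq_zero] at h1
    simpa using h1.resolve_left (inv_ne_zero (Nat.cast_ne_zero.mpr Nat.card_pos.ne'))
  have key : (Nat.card N : ℂ) * ∑ h : H, f h * (1 - conj (lam h)) =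
      (Nat.card N : ℂ) * ((Nat.card H : ℂ) * c) := by
    calc (Nat.card N : ℂ) * ∑ h : H, f h * (1 - conj (lam h))
        = ∑ n : N, ∑ h : H, f (h * n) * (1 - conj (lam (h * n))) := by
          rw [Nat.card_eq_fintype_card, ← Finset.card_univ, ← nsmul_eq_mul, ← Finset.sum_const]
          exact Finset.sum_congr rfl fun n _ =>
            (Equiv.sum_comp (Equiv.mulRight (n : H)) fun h => f h * (1 - conj (lam h))).symm
      _ = ∑ h : H, (∑ n : N, f (h * n)) * (1 - conj (lam h)) := by
          rw [Finset.sum_comm]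
          refine Finset.sum_congr rfl fun h _ => ?_
          rw [Finset.sum_mul]
          refine Finset.sum_congr rfl fun n _ => ?_
          simp [hlam, map_mul, hθN n n.2]
      _ = ∑ h : H, (Nat.card N : ℂ) * c * (1 - conj (lam h)) := by
          refine Finset.sum_congr rfl fun h _ => ?_
          by_cases hh : h ∈ N
          · simp [hlam, hθN h hh]
          · rw [hc h hh]
      _ = _ := by
          rw [← Finset.mul_sum, Finset.sum_sub_distrib, hl1, sub_zero, Finset.sum_const,
            Finset.card_univ, nsmul_eq_mul, mul_one, ← Nat.card_eq_fintype_card]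
          ring
  have key' := mul_left_cancel₀ (Nat.cast_ne_zero.mpr Nat.card_pos.ne') key
  rw [Int.cast_sub, ← ha, ← hb]
  simp only [classInner, map_one, mul_one, ← mul_sub, ← Finset.sum_sub_distrib]
  simp only [mul_sub, mul_one] at key'
  rw [key', inv_mul_cancel_left₀ (Nat.cast_ne_zero.mpr Nat.card_pos.ne')]

/-- Sums over the cosets of a normal subgroup with abelian quotient are constant off the subgroup
when all non-trivial linear characters of the quotient have the same inner product. -/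
theorem coset_sum_eq {H : Type*} [Group H] [Fintype H] {N : Subgroup H} [N.Normal] [Fintype N]
    (hab : ∀ a b : H ⧸ N, a * b = b * a) {f : H → ℂ}
    (h : ∀ θ θ' : H →* ℂˣ, (∀ n ∈ N, θ n = 1) → (∀ n ∈ N, θ' n = 1) → θ ≠ 1 → θ' ≠ 1 →
      classInner f (fun x => ((θ x : ℂˣ) : ℂ)) = classInner f (fun x => ((θ' x : ℂˣ) : ℂ)))
    {a b : H} (ha : a ∉ N) (hb : b ∉ N) : ∑ n : N, f (a * n) = ∑ n : N, f (b * n) := by
  classical
  let D : H ⧸ N → ℂ := fun q => ∑ n : N, f (q.out * n)
  have hD : ∀ x : H, D (x : H ⧸ N) = ∑ n : N, f (x * n) := by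
    intro x
    obtain ⟨n₀, hn₀⟩ := QuotientGroup.mk_out_eq_mul N x
    refine Fintype.sum_equiv (Equiv.mulLeft n₀) _ _ fun n => ?_
    simp only [Equiv.coe_mulLeft, Subgroup.coe_mul, hn₀, mul_assoc]
  have hDc : IsClassFunction (H ⧸ N) D := fun g k => by rw [hab k g, mul_inv_cancel_right]
  have hcard : Nat.card (H ⧸ N) * Nat.card N = Nat.card H := (Subgroup.card_eq_card_quotient_mul_card_subgroup N).symm
  -- pulling back an irreducible character of the quotient
  have hpull : ∀ χ : H ⧸ N → ℂ, IsIrrCharacter (H ⧸ N) χ → NontrivOn ⊤ χ →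
      ∃ θ : H →* ℂˣ, (∀ n ∈ N, θ n = 1) ∧ θ ≠ 1 ∧ χ 1 = 1 ∧
        classInner D χ = (Nat.card N : ℂ) * classInner f (fun x => ((θ x : ℂˣ) : ℂ)) := by
    intro χ hχ hne
    have h1 : χ 1 = 1 := degree_one_of_comm hab ⟨χ, hχ⟩
    obtain ⟨g, hg⟩ := exists_det_hom (isCharacter_of_isIrr hχ)
    rw [detChar_linear (isCharacter_of_isIrr hχ) h1] at hg
    refine ⟨g.comp (QuotientGroup.mk' N), fun n hn => ?_, fun e => ?_, h1, ?_⟩
    · rw [MonoidHom.comp_apply, QuotientGroup.mk'_apply, (QuotientGroup.eq_one_iff n).mpr hn, map_one]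
    · obtain ⟨q, -, hq⟩ := hne
      obtain ⟨x, rfl⟩ := QuotientGroup.mk'_surjective N q
      refine hq ?_
      have := DFunLike.congr_fun e x
      simp only [MonoidHom.comp_apply, MonoidHom.one_apply, QuotientGroup.mk'_apply] at this
      rw [h1, hg, QuotientGroup.mk'_apply]
      simp [this]
    · have hrw : ∑ x : H, f x * conj ((g (x : H ⧸ N) : ℂˣ) : ℂ) =
          ∑ q : H ⧸ N, D q * conj (χ q) := by
        rw [← Finset.sum_fiberwise Finset.univ (fun x : H => (x : H ⧸ N))]
        refine Finset.sum_congr rfl fun q _ => ?_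
        rw [Finset.sum_mul]
        refine (Finset.sum_bij (fun (n : N) _ => q.out * n) ?_ ?_ ?_ ?_).symm
        · intro n _
          simp [QuotientGroup.mk_mul_of_mem, n.2]
        · intro n _ n' _ e
          exact Subtype.ext (mul_left_cancel e)
        · intro x hx
          simp only [Finset.mem_filter, Finset.mem_univ, true_and] at hx
          refine ⟨⟨q.out⁻¹ * x, QuotientGroup.eq.mp (by rw [QuotientGroup.out_eq', hx])⟩,
            Finset.mem_univ _, by simp⟩
        · intro n _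
          simp [hg, QuotientGroup.mk_mul_of_mem, n.2]
      simp only [classInner, MonoidHom.comp_apply, QuotientGroup.mk'_apply]
      rw [hrw, ← hcard, Nat.cast_mul]
      field_simp
  rw [← hD a, ← hD b]
  refine const_of_orth (N := ⊤) hDc (fun χ ψ hχ hψ hnχ hnψ => ?_) (Subgroup.mem_top _)
    (fun e => ha ((QuotientGroup.eq_one_iff a).mp e)) (Subgroup.mem_top _)
    (fun e => hb ((QuotientGroup.eq_one_iff b).mp e))
  obtain ⟨θ, hθ, hθ1, hχ1, e⟩ := hpull χ hχ hnχ
  obtain ⟨θ', hθ', hθ'1, hψ1, e'⟩ := hpull ψ hψ hnψ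
  rw [hχ1, hψ1, e, e', h θ θ' hθ hθ' hθ1 hθ'1]

/-- Two disjoint parts of a group carry at most the whole norm. -/
theorem norm_two_sets {G : Type*} [Group G] [Fintype G] {S T : Set G} (hST : Disjoint S T)
    (χ : G → ℂ) : (Nat.card G : ℝ)⁻¹ * ∑ᶠ g ∈ S, ‖χ g‖ ^ 2 + (Nat.card G : ℝ)⁻¹ * ∑ᶠ g ∈ T, ‖χ g‖ ^ 2 ≤
      (classInner χ χ).re := by
  classical
  have hre : (classInner χ χ).re = (Nat.card G : ℝ)⁻¹ * ∑ g : G, ‖χ g‖ ^ 2 := by
    have : classInner χ χ = (((Nat.card G : ℝ)⁻¹ * ∑ g : G, ‖χ g‖ ^ 2 : ℝ) : ℂ) := by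
      rw [classInner]
      push_cast
      congr 1
      exact Finset.sum_congr rfl fun g _ => Complex.mul_conj' _
    rw [this, Complex.ofReal_re]
  rw [hre, ← mul_add, finsum_mem_eq_toFinset_sum, finsum_mem_eq_toFinset_sum,
    ← Finset.sum_union (Set.disjoint_toFinset.mpr hST)]
  exact mul_le_mul_of_nonneg_left (Finset.sum_le_sum_of_subset_of_nonneg (Finset.subset_univ _)
    fun g _ _ => sq_nonneg _) (inv_nonneg.mpr (Nat.cast_nonneg _))

end CfsgLib.Peterfalvi
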