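import Cfsg.Agent.Lib.Char.CoprimeDegree
import Cfsg.Agent.Lib.Char.Gallagher
import Cfsg.Agent.Lib.Char.Artin
import Cfsg.Agent.S1496
import Cfsg.Agent.S1536

/-!
Characters of a group of Frobenius type lying over a non-principal character of its kernel.
-/

set_option autoImplicit false
set_option linter.unusedSectionVars false
set_option linter.style.haveILetI false

namespace CfsgLib.Peterfalvi

open Cfsg CfsgLib.Char
open scoped CfsgLib.Char

/-- `L = H U` with `H` normal of order prime to `|U|` and an abelian subgroup `U₁` of `U` containing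
every `C_U(h)`, `h ≠ 1` in `H`. -/
structure FData {L : Type*} [Group L] (H U U₁ : Subgroup L) : Prop where
  normal : H.Normal
  sup : H ⊔ U = ⊤
  cop : (Nat.card H).Coprime (Nat.card U)
  le : U₁ ≤ U
  comm : ∀ a ∈ U₁, ∀ b ∈ U₁, a * b = b * a
  cent : ∀ h ∈ H, h ≠ 1 → U ⊓ Subgroup.centralizer ({h} : Set L) ≤ U₁

variable {L : Type*} [Group L] {H U U₁ : Subgroup L}

theorem FData.index_eq [Finite L] (h : FData H U U₁) : H.index = Nat.card U := by
  letI : Fintype L := Fintype.ofFinite L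
  haveI := h.normal
  have h1 := H.card_mul_index
  rw [Glauberman.card_eq_mul h.sup h.cop] at h1
  exact Nat.eq_of_mul_eq_mul_left Nat.card_pos h1

theorem FData.hall [Finite L] (h : FData H U U₁) : (Nat.card H).Coprime H.index :=
  h.index_eq ▸ h.cop

/-- An element `h u` of `L` whose complement part has a non-trivial fixed point on `H` commutes
with a non-identity element of `H`. -/
theorem FData.exists_commute [Finite L] (hd : FData H U U₁) (hH : H ≠ ⊥) {h u : L} (hh : h ∈ H)
    (hu : u ∈ U) (hfix : u = 1 ∨ ∃ c ∈ H, c ≠ 1 ∧ u * c = c * u) :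
    ∃ c ∈ H, c ≠ 1 ∧ h * u * c = c * (h * u) := by
  haveI := hd.normal
  rcases hfix with rfl | hfix
  · rcases eq_or_ne h 1 with rfl | h1
    · obtain ⟨⟨c, hc⟩, hc1⟩ := Subgroup.ne_bot_iff_exists_ne_one.mp hH
      exact ⟨c, hc, fun e => hc1 (Subtype.ext e), by simp⟩
    · exact ⟨h, hh, h1, by simp⟩
  obtain ⟨x, hx, c₀, hc₀, hcu, hxe⟩ := Cfsg.Agent.S1496.result H u
    (by rw [Subgroup.normalizer_eq_top]; exact Subgroup.mem_top u)
    (hd.cop.symm.coprime_dvd_left (Subgroup.orderOf_dvd_natCard U hu)) h hh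
  -- an element commuting with `c₀ u`
  obtain ⟨c, hc, hc1, hcc⟩ : ∃ c ∈ H, c ≠ 1 ∧ Commute c (c₀ * u) := by
    rcases eq_or_ne c₀ 1 with rfl | h0
    · obtain ⟨c, hc, hc1, hcu'⟩ := hfix
      exact ⟨c, hc, hc1, by rw [one_mul]; exact hcu'.symm⟩
    · exact ⟨c₀, hc₀, h0, (Commute.refl c₀).mul_right hcu⟩
  refine ⟨x⁻¹ * c * x, by simpa using hd.normal.conj_mem c hc x⁻¹,
    fun e => hc1 ?_, ?_⟩
  · have : c = x * (x⁻¹ * c * x) * x⁻¹ := by group
    rw [e] at this
    simpa using this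
  · rw [show h * u = x⁻¹ * (c₀ * u) * x by rw [← hxe]; group]
    calc x⁻¹ * (c₀ * u) * x * (x⁻¹ * c * x) = x⁻¹ * (c₀ * u * c) * x := by group
      _ = x⁻¹ * (c * (c₀ * u)) * x := by rw [hcc.eq]
      _ = _ := by group

/-- An element of `U` fixing a non-principal irreducible character of `H` has a fixed point on
`H`, and lies in `U₁` unless trivial. -/
theorem FData.fixed [Finite L] (hd : FData H U U₁) [H.Normal] {θ : H → ℂ}
    (hθ : IsIrrCharacter H θ) (hθ1 : θ ≠ fun _ => 1) {u : L} (hu : u ∈ U)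
    (hfix : conjBy H θ u = θ) : (∃ c ∈ H, c ≠ 1 ∧ u * c = c * u) ∧ u ∈ U₁ := by
  obtain ⟨c, hc, hc1, hcu⟩ := (Cfsg.Agent.S1536.result H hd.hall u).mp ⟨θ, hθ, hθ1, hfix⟩
  exact ⟨⟨c, hc, hc1, hcu⟩,
    hd.cent c hc hc1 ⟨hu, Subgroup.mem_centralizer_singleton_iff.mpr hcu⟩⟩

/-- Every irreducible character over a non-principal character of `H` has multiplicity one. -/
theorem FData.mult_one [Fintype L] (hd : FData H U U₁) [hN : H.Normal] [Fintype H] {θ : H → ℂ}
    (hθ : IsIrrCharacter H θ) (hθ1 : θ ≠ fun _ => 1) {χ : L → ℂ} (hχ : IsIrrCharacter L χ)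
    (hcon : classInner (fun n : H => χ n) θ ≠ 0) :
    classInner (fun n : H => χ n) θ = 1 ∧
      ∀ g : L, χ g ≠ 0 → ∃ c ∈ H, c ≠ 1 ∧ g * c = c * g := by
  classical
  set T := inertia H θ with hTdef
  have hHT : H ≤ T := le_inertia H (isClassFunction_of_isCharacter (isCharacter_of_isIrr hθ))
  letI : Fintype T := Fintype.ofFinite T
  obtain ⟨ψ, hψ, hind, hcres⟩ := clifford_correspondence_surjective H T hθ
    (fun g => mem_inertia H) hHT hχ hcon
  -- the setting inside `T`
  set N := H.subgroupOf T with hNdef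
  set V := U.subgroupOf T with hVdef
  haveI : N.Normal := hN.subgroupOf T
  letI : Fintype N := Fintype.ofFinite N
  letI : Fintype V := Fintype.ofFinite V
  have hNV : N ⊔ V = ⊤ := by
    rw [eq_top_iff]
    rintro t -
    obtain ⟨h, hh, u, hu, e⟩ := Glauberman.exists_mul hd.sup (t : L)
    have huT : u ∈ T := by
      have : u = h⁻¹ * (t : L) := by rw [e]; group
      rw [this]; exact mul_mem (inv_mem (hHT hh)) t.2
    rw [show t = ⟨h, hHT hh⟩ * ⟨u, huT⟩ from Subtype.ext e]
    exact mul_mem (Subgroup.mem_sup_left (by exact hh)) (Subgroup.mem_sup_right (by exact hu))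
  have hcardN : Nat.card N = Nat.card H :=
    Nat.card_congr (Subgroup.subgroupOfEquivOfLe hHT).toEquiv
  have hcop : (Nat.card N).Coprime (Nat.card V) := by
    rw [hcardN]
    refine hd.cop.coprime_dvd_right ?_
    rw [hVdef, ← Subgroup.inf_subgroupOf_right,
      Nat.card_congr (Subgroup.subgroupOfEquivOfLe (inf_le_right : U ⊓ T ≤ T)).toEquiv]
    exact Subgroup.card_dvd_of_le inf_le_left
  have hVcomm : ∀ a b : V, a * b = b * a := by
    have hmem : ∀ a : V, ((a : T) : L) ∈ U₁ ∨ ((a : T) : L) = 1 := fun a =>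
      Or.inl (hd.fixed hθ hθ1 a.2 ((mem_inertia H).mp (a : T).2)).2
    intro a b
    refine Subtype.ext (Subtype.ext ?_)
    rcases hmem a with ha | ha
    · rcases hmem b with hb | hb
      · exact hd.comm _ ha _ hb
      · simp [Subgroup.coe_mul, hb]
    · simp [Subgroup.coe_mul, ha]
  let θN : N → ℂ := fun x => θ ⟨((x : T) : L), Subgroup.mem_subgroupOf.mp x.2⟩
  have hθN : IsIrrCharacter N θN :=
    isIrrCharacter_comp_mulEquiv (Subgroup.subgroupOfEquivOfLe hHT) hθ
  have hinv : ∀ g, conjBy N θN g = θN := fun g => funext fun x =>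
    congrFun ((mem_inertia H).mp g.2) ⟨((x : T) : L), Subgroup.mem_subgroupOf.mp x.2⟩
  obtain ⟨d, hdeg, -, hdd⟩ := exists_degree_dvd_card hθN
  have hidx : N.index = Nat.card V := by
    have h1 := N.card_mul_index
    rw [Glauberman.card_eq_mul hNV hcop] at h1
    exact Nat.eq_of_mul_eq_mul_left Nat.card_pos h1
  obtain ⟨η, hη, hηext⟩ := extends_of_det N hθN hinv d (Nat.card N) hdeg (1 : T →* ℂˣ)
    (fun n => by
      obtain ⟨f, hf⟩ := exists_det_hom (isCharacter_of_isIrr hθN)
      rw [hf]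
      simp only [MonoidHom.one_apply, Units.val_one]
      rw [← Units.val_pow_eq_pow_val, ← map_pow, pow_card_eq_one', map_one, Units.val_one])
    (by rw [hidx]; exact (hcop.symm.coprime_dvd_right hdd).mul_right hcop.symm)
  -- `ψ` is a linear twist of `η`
  have htriv : ∀ g, conjBy N (fun _ : N => (1 : ℂ)) g = fun _ => 1 := fun g => rfl
  have hone : (fun _ : N => (1 : ℂ)) * θN = θN := funext fun x => one_mul _
  have hbij := gallagher N (φ := fun _ : N => (1 : ℂ)) (θ := θN) isIrrCharacter_one htriv hinv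
    (by rw [hone]; exact hθN) hη hηext
  have hψres : (fun x : N => ψ (x : T)) = fun x : N =>
      resTo H T hHT ψ ⟨((x : T) : L), Subgroup.mem_subgroupOf.mp x.2⟩ := rfl
  have hcψ : classInner (fun x : N => ψ (x : T)) θN ≠ 0 := by
    rw [hψres, show θN = fun x : N => θ ((Subgroup.subgroupOfEquivOfLe hHT) x) from rfl]
    change classInner (fun x : N => resTo H T hHT ψ ((Subgroup.subgroupOfEquivOfLe hHT) x)) _ ≠ 0
    rw [classInner_comp_mulEquiv, hcres]
    exact hcon
  have hψmem : ψ ∈ {ψ' : T → ℂ | IsIrrCharacter T ψ' ∧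
      classInner (indFun N ((fun _ : N => (1 : ℂ)) * θN)) ψ' ≠ 0} := by
    refine ⟨hψ, ?_⟩
    rw [hone, frobenius_reciprocity N θN
      (isClassFunction_of_isCharacter (isCharacter_of_isIrr hψ)), ← classInner_conj_symm]
    simpa using hcψ
  obtain ⟨β, ⟨hβ, hβc⟩, rfl⟩ := hbij.surjOn hψmem
  have hβN : ∀ (k : N) (g : T), β ((k : T) * g) = β g := by
    rcases avgN_dichotomy N hβ with ⟨-, h⟩ | ⟨-, n, hn⟩
    · exact h
    · exfalso
      have hβc' : classInner (fun x : N => β x) (fun _ : N => (1 : ℂ)) ≠ 0 := by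
        rw [frobenius_reciprocity N _ (isClassFunction_of_isCharacter (isCharacter_of_isIrr hβ)),
          ← classInner_conj_symm] at hβc
        simpa using hβc
      have h1 := clifford_invariant N hβ isIrrCharacter_one htriv hβc'
      have h2 := congrFun h1 n
      have h3 := congrFun h1 1
      simp only [Pi.smul_apply, OneMemClass.coe_one] at h2 h3
      exact hn (h2.trans h3.symm)
  have hβ1 : β 1 = 1 := by
    have hr := Glauberman.isIrr_restrict_of_avgN hNV hcop hβ hβN
    simpa using degree_one_of_comm hVcomm ⟨_, hr⟩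
  have hres : resTo H T hHT (β * η) = θ := by
    funext n
    have h1 : β (⟨(n : L), hHT n.2⟩ : T) = 1 := by
      have := hβN ⟨⟨(n : L), hHT n.2⟩, n.2⟩ 1
      simpa [hβ1] using this
    show β ⟨(n : L), hHT n.2⟩ * η ⟨(n : L), hHT n.2⟩ = θ n
    rw [h1, one_mul]
    exact hηext ⟨⟨(n : L), hHT n.2⟩, n.2⟩
  refine ⟨by rw [← hcres, hres, classInner_irr_self hθ], fun g hg => ?_⟩
  rw [← hind, indFun] at hg
  obtain ⟨x, -, hx⟩ := Finset.exists_ne_zero_of_sum_ne_zero (right_ne_zero_of_mul hg)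
  have hxT : x⁻¹ * g * x ∈ T := by
    by_contra h
    exact hx (extendByZero_notMem T _ h)
  obtain ⟨h, hh, u, hu, e⟩ := Glauberman.exists_mul hd.sup (x⁻¹ * g * x)
  have huT : u ∈ T := by
    have : u = h⁻¹ * (x⁻¹ * g * x) := by rw [e]; group
    rw [this]; exact mul_mem (inv_mem (hHT hh)) hxT
  have hH : H ≠ ⊥ := by
    rintro rfl
    refine hθ1 (funext fun n => ?_)
    rw [Subsingleton.elim n 1]
    exact degree_one_of_comm (fun a b => Subsingleton.elim _ _) ⟨θ, hθ⟩
  obtain ⟨c, hc, hc1, hcc⟩ := hd.exists_commute hH hh hu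
    (Or.inr (hd.fixed hθ hθ1 hu ((mem_inertia H).mp huT)).1)
  refine ⟨x * c * x⁻¹, hN.conj_mem c hc x, fun e1 => hc1 (conj_eq_one_iff.mp e1), ?_⟩
  rw [← e] at hcc
  calc g * (x * c * x⁻¹) = x * (x⁻¹ * g * x * c) * x⁻¹ := by group
    _ = x * (c * (x⁻¹ * g * x)) * x⁻¹ := by rw [hcc]
    _ = _ := by group

/-- All irreducible characters over `θ` have the same degree. -/
theorem FData.degree [Fintype L] (hd : FData H U U₁) [H.Normal] [Fintype H] {θ : H → ℂ}
    (hθ : IsIrrCharacter H θ) (hθ1 : θ ≠ fun _ => 1) {χ : L → ℂ} (hχ : IsIrrCharacter L χ)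
    (hcon : classInner (fun n : H => χ n) θ ≠ 0) :
    χ 1 = ((orbit H θ).card : ℂ) * θ 1 := by
  rw [clifford_degree H hχ hθ hcon, (hd.mult_one hθ hθ1 hχ hcon).1, one_mul]

end CfsgLib.Peterfalvi
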