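import Cfsg.Agent.Lib.Peterfalvi.DadeDiff
import Cfsg.Agent.Lib.Peterfalvi.TypeFChar
import Cfsg.Agent.Lib.Peterfalvi.Rho
import Cfsg.Agent.Lib.Char.Counting

/-!
Dade images of differences of characters of a group of Frobenius type, and the irreducible
characters orthogonal to all of them.
-/

set_option autoImplicit false
set_option linter.unusedSectionVars false
set_option linter.style.haveILetI false

namespace CfsgLib.Peterfalvi

open Cfsg CfsgLib.Char
open scoped ComplexConjugate CfsgLib.Char

/-- `H` is the kernel of the group `L` of Frobenius type and `A` the set of non-identity elements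
of `L` commuting with a non-identity element of `H`. -/
structure SetupF {G : Type*} [Group G] (A : Set G) (L : Subgroup G) (R : G → Subgroup G)
    (H U U₁ : Subgroup L) : Prop where
  dade : DadeHypothesis A L R
  fdata : FData H U U₁
  odd : Odd (Nat.card G)
  mem : ∀ x : L, (x : G) ∈ A ↔ x ≠ 1 ∧ ∃ c ∈ H, c ≠ 1 ∧ x * c = c * x

/-- `ν` is irreducible, not real, and its difference with its conjugate is orthogonal to the Dade
images of the class functions supported on the kernel. -/
structure OrthKernel {G : Type*} [Group G] [Fintype G] (A : Set G) (L : Subgroup G)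
    (R : G → Subgroup G) [Fintype L] (H : Subgroup L) (ν : G → ℂ) : Prop where
  irr : IsIrrCharacter G ν
  orth : ∀ α : L → ℂ, IsClassFunction L α → (∀ x : L, x ∉ H ∨ x = 1 → α x = 0) →
    classInner (dadeIsometry A L R α) (ν - conjFun ν) = 0

variable {G : Type*} [Group G] [Fintype G] {A : Set G} {L : Subgroup G} [Fintype L]
  {R : G → Subgroup G} {H U U₁ : Subgroup L} [H.Normal] [Fintype H]

open Classical in
/-- The part of a class function on a normal subgroup is a class function. -/
theorem isClassFunction_part {X : Type*} [Group X] (N : Subgroup X) [N.Normal] {f : X → ℂ}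
    (hf : IsClassFunction X f) : IsClassFunction X (fun x => if x ∈ N then f x else 0) := by
  intro a b
  have h1 : b * a * b⁻¹ ∈ N ↔ a ∈ N :=
    ⟨fun h => by simpa [mul_assoc] using ‹N.Normal›.conj_mem _ h b⁻¹,
      fun h => ‹N.Normal›.conj_mem a h b⟩
  simp only [h1, hf a b]

namespace SetupF

variable (hs : SetupF A L R H U U₁)
include hs

theorem mem_of_kernel {x : L} (hx : x ∈ H) (hx1 : x ≠ 1) : (x : G) ∈ A :=
  (hs.mem x).mpr ⟨hx1, x, hx, hx1, rfl⟩

theorem exists_theta {χ : L → ℂ} (hχ : IsIrrCharacter L χ) (hn : NontrivOn H χ) :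
    ∃ θ : H → ℂ, IsIrrCharacter H θ ∧ θ ≠ (fun _ => 1) ∧
      classInner (fun n : H => χ n) θ ≠ 0 := by
  obtain ⟨θ, hθ⟩ := exists_constituent H (isCharacter_of_isIrr hχ) (irr_degree_ne_zero hχ)
  refine ⟨θ, θ.2, fun e => ?_, hθ⟩
  rw [e] at hθ
  have h1 := clifford_invariant H hχ isIrrCharacter_one (fun g => rfl) hθ
  obtain ⟨n, hn, hne⟩ := hn
  exact hne ((congrFun h1 ⟨n, hn⟩).trans (congrFun h1 1).symm)

theorem nontriv_of_constituent {χ : L → ℂ} {θ : H → ℂ} (hθ : IsIrrCharacter H θ)
    (hθ1 : θ ≠ fun _ => 1) (hcon : classInner (fun n : H => χ n) θ ≠ 0) : NontrivOn H χ := by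
  by_contra h
  refine hcon ?_
  rw [show (fun n : H => χ n) = χ 1 • (fun _ : H => (1 : ℂ)) from funext fun n => by
    simpa using not_not.mp fun e => h ⟨n, n.2, e⟩, classInner_smul_left,
    classInner_irr_ne isIrrCharacter_one hθ (Ne.symm hθ1), mul_zero]

theorem mem_of_value {χ : L → ℂ} (hχ : IsIrrCharacter L χ) (hn : NontrivOn H χ) {x : L}
    (hx1 : x ≠ 1) (hx : χ x ≠ 0) : (x : G) ∈ A := by
  obtain ⟨θ, hθ, hθ1, hcon⟩ := hs.exists_theta hχ hn
  exact (hs.mem x).mpr ⟨hx1, (hs.fdata.mult_one hθ hθ1 hχ hcon).2 x hx⟩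

/-- A constituent of the restriction to the kernel and its conjugate are not conjugate in `L`. -/
theorem not_conj {χ : L → ℂ} (hχ : IsIrrCharacter L χ) {θ : H → ℂ} (hθ : IsIrrCharacter H θ)
    (hθ1 : θ ≠ fun _ => 1) (hcon : classInner (fun n : H => χ n) θ ≠ 0) :
    classInner (fun n : H => χ n) (conjFun θ) = 0 := by
  classical
  have hθc : IsIrrCharacter H (conjFun θ) := isIrrCharacter_conj hθ
  rw [clifford H hχ hθ hcon, classInner_smul_left, classInner_sum_left, Finset.sum_eq_zero,
    mul_zero]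
  intro φ hφ
  obtain ⟨g, rfl⟩ := (mem_orbit H).mp hφ
  refine classInner_irr_ne (isIrrCharacter_conjBy H hθ g) hθc fun e => hθ1 ?_
  have h2 : g * g ∈ inertia H θ := by
    rw [mem_inertia, conjBy_mul, e]
    funext n
    have h3 := congrFun e (MulAut.conjNormal g n)
    simp only [conjBy_apply, conjFun] at h3 ⊢
    have h4 := congrFun e n
    simp only [conjBy_apply, conjFun] at h4
    rw [h4, Complex.conj_conj]
  obtain ⟨k, hk⟩ := Odd.of_dvd_nat hs.odd
    ((L.orderOf_coe g) ▸ orderOf_dvd_natCard (g : G) : orderOf g ∣ Nat.card G)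
  have h5 : g ∈ inertia H θ := by
    have : g = (g * g) ^ (k + 1) := by
      rw [← sq, ← pow_mul, show 2 * (k + 1) = orderOf g + 1 by omega, pow_succ, pow_orderOf_eq_one,
        one_mul]
    rw [this]; exact pow_mem h2 _
  have hreal : conjFun θ = θ := e.symm.trans ((mem_inertia H).mp h5)
  refine irr_real_of_odd (Odd.of_dvd_nat hs.odd ?_) ⟨θ, hθ⟩
    fun n => Complex.conj_eq_iff_im.mp (congrFun hreal n)
  exact (Subgroup.card_subgroup_dvd_card H).trans (Subgroup.card_subgroup_dvd_card L)

theorem achar {χ : L → ℂ} (hχ : IsIrrCharacter L χ) (hn : NontrivOn H χ) : AChar A L χ := by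
  refine ⟨hχ, fun e => ?_, fun x hx1 hxA => by_contra fun hx => hxA (hs.mem_of_value hχ hn hx1 hx)⟩
  obtain ⟨θ, hθ, hθ1, hcon⟩ := hs.exists_theta hχ hn
  refine hcon ?_
  have h := hs.not_conj hχ hθ hθ1 hcon
  rw [← e] at h
  have h2 := Coherence.classInner_conjFun (fun n : H => χ n) θ
  rw [show (fun n : H => conjFun χ n) = conjFun (fun n : H => χ n) from rfl] at h
  rw [h] at h2
  simpa using h2.symm

/-- The constituent relation is exclusive with complex conjugation. -/
theorem not_both {χ : L → ℂ} (hχ : IsIrrCharacter L χ) {θ : H → ℂ} (hθ : IsIrrCharacter H θ)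
    (hθ1 : θ ≠ fun _ => 1) (hcon : classInner (fun n : H => χ n) θ ≠ 0) :
    classInner (fun n : H => conjFun χ n) θ = 0 := by
  have h := hs.not_conj hχ hθ hθ1 hcon
  have h2 := Coherence.classInner_conjFun (fun n : H => χ n) (conjFun θ)
  rw [Coherence.conjFun_conjFun, h, map_zero] at h2
  exact h2

/-- Constituents of one orbit have the same degree. -/
theorem degree_eq {χ χ' : L → ℂ} (hχ : IsIrrCharacter L χ) (hχ' : IsIrrCharacter L χ') {θ : H → ℂ}
    (hθ : IsIrrCharacter H θ) (hθ1 : θ ≠ fun _ => 1) (h : classInner (fun n : H => χ n) θ ≠ 0)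
    (h' : classInner (fun n : H => χ' n) θ ≠ 0) : χ' 1 = χ 1 := by
  rw [hs.fdata.degree hθ hθ1 hχ h, hs.fdata.degree hθ hθ1 hχ' h']

/-- A character orthogonal to all `μ_χ` is orthogonal to the Dade image of every difference with
unit coefficients. -/
theorem orth_unit {α : L → ℂ} (hα : IsGeneralizedCharacter L α)
    (hαA : ∀ x : L, (x : G) ∉ A → α x = 0)
    (hunit : ∀ χ : L → ℂ, IsIrrCharacter L χ → classInner α χ ≠ 0 →
      NontrivOn H χ ∧ (classInner α χ = 1 ∨ classInner α χ = -1) ∧
        classInner α (conjFun χ) ≠ classInner α χ)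
    {ν : G → ℂ} (hν : OrthKernel A L R H ν) : classInner (dadeIsometry A L R α) ν = 0 := by
  classical
  choose c hc using fun χ : IrrCharacter L => exists_int_classInner hα (isGeneralized_of_isIrr χ.2)
  let bar : IrrCharacter L → IrrCharacter L := fun χ => ⟨conjFun χ, isIrrCharacter_conj χ.2⟩
  have hbb : ∀ χ, bar (bar χ) = χ := fun χ => Subtype.ext (Coherence.conjFun_conjFun _)
  have hu : ∀ χ, c χ ≠ 0 → NontrivOn H (χ : L → ℂ) ∧ (c χ = 1 ∨ c χ = -1) ∧ c (bar χ) ≠ c χ := by
    intro χ h
    obtain ⟨h1, h2, h3⟩ := hunit χ χ.2 (by rw [hc]; exact_mod_cast h)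
    refine ⟨h1, ?_, fun e => h3 ?_⟩
    · rw [hc] at h2
      exact_mod_cast h2
    · show classInner α ((bar χ : IrrCharacter L) : L → ℂ) = _
      rw [hc, hc, e]
  let s : Finset (IrrCharacter L) :=
    Finset.univ.filter fun χ => c χ = 1 ∨ (c χ = -1 ∧ c (bar χ) ≠ 1)
  have hs0 : ∀ χ ∈ s, c χ ≠ 0 := by
    intro χ hχ
    rcases (Finset.mem_filter.mp hχ).2 with h | ⟨h, -⟩ <;> rw [h] <;> norm_num
  have hA : ∀ χ ∈ s, AChar A L (χ : L → ℂ) := fun χ hχ => hs.achar χ.2 (hu χ (hs0 χ hχ)).1
  let μ : IrrCharacter L → G → ℂ := fun χ =>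
    if h : AChar A L (χ : L → ℂ) then Classical.choose (exists_dadeMu hs.dade h) else 0
  have hμ : ∀ χ ∈ s, DadeMu A L R (χ : L → ℂ) (μ χ) := fun χ hχ => by
    simp only [μ, dif_pos (hA χ hχ)]
    exact Classical.choose_spec (exists_dadeMu hs.dade (hA χ hχ))
  refine orth_of_exhaust hs.dade s (fun χ => (χ : L → ℂ)) μ hA hμ ?_ hα hαA
    (fun χ => c χ - c (bar χ)) ?_ ?_ hν.irr ?_
  · intro χ hχ φ hφ hne
    refine ⟨fun e => hne (Subtype.ext e).symm, fun e => ?_⟩
    have he : φ = bar χ := Subtype.ext e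
    subst he
    have h1 := (Finset.mem_filter.mp hχ).2
    have h2 := (Finset.mem_filter.mp hφ).2
    rw [hbb] at h2
    have := (hu χ (hs0 χ hχ)).2.2
    omega
  · intro χ _
    rw [classInner_sub_right, hc, show conjFun (χ : L → ℂ) = (bar χ : L → ℂ) from rfl, hc]
    push_cast
    ring
  · have hexp : classInner α α = ((∑ χ : IrrCharacter L, c χ ^ 2 : ℤ) : ℂ) := by
      conv_lhs => rw [classFunction_expansion (isClassFunction_of_isGeneralized hα)]
      simp only [hc]
      rw [sum_sq_coeff]
    rw [hexp, Complex.intCast_re]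
    have hsum : ∑ χ : IrrCharacter L, c χ ^ 2 ≤ ∑ χ ∈ s, |c χ - c (bar χ)| := by
      calc ∑ χ : IrrCharacter L, c χ ^ 2
          ≤ ∑ χ : IrrCharacter L, ((if χ ∈ s then (1 : ℤ) else 0) +
              if c χ = -1 ∧ c (bar χ) = 1 then 1 else 0) := by
            refine Finset.sum_le_sum fun χ _ => ?_
            by_cases h : c χ = 0
            · rw [h]; split_ifs <;> norm_num
            · obtain ⟨-, h2, -⟩ := hu χ h
              have h3 : c χ ^ 2 = 1 := by rcases h2 with e | e <;> rw [e] <;> norm_num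
              rw [h3]
              by_cases hm : χ ∈ s
              · rw [if_pos hm]; split_ifs <;> norm_num
              · have h4 : ¬ (c χ = 1 ∨ (c χ = -1 ∧ c (bar χ) ≠ 1)) := fun h4 =>
                  hm (Finset.mem_filter.mpr ⟨Finset.mem_univ _, h4⟩)
                rw [if_neg hm, if_pos ⟨by omega, by omega⟩]; norm_num
        _ = ∑ χ : IrrCharacter L, ((if χ ∈ s then (1 : ℤ) else 0) +
              if c (bar χ) = -1 ∧ c χ = 1 then 1 else 0) := by
            rw [Finset.sum_add_distrib, Finset.sum_add_distrib]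
            congr 1
            exact Fintype.sum_equiv (Function.Involutive.toPerm bar hbb) _ _ fun χ => by
              simp [Function.Involutive.toPerm, hbb, and_comm]
        _ ≤ ∑ χ : IrrCharacter L, (if χ ∈ s then |c χ - c (bar χ)| else 0) := by
            refine Finset.sum_le_sum fun χ _ => ?_
            by_cases hm : χ ∈ s
            · have h1 := hs0 χ hm
              obtain ⟨-, h2, h3⟩ := hu χ h1
              rw [if_pos hm, if_pos hm]
              split_ifs with h4
              · rw [h4.1, h4.2]; norm_num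
              · have : c χ - c (bar χ) ≠ 0 := sub_ne_zero.mpr (Ne.symm h3)
                have := abs_pos.mpr this
                omega
            · rw [if_neg hm, if_neg hm, if_neg fun h4 =>
                hm (Finset.mem_filter.mpr ⟨Finset.mem_univ _, Or.inl h4.2⟩)]
              norm_num
        _ = _ := by rw [← Finset.sum_filter]; simp
    have := (Int.cast_le (R := ℝ)).mpr hsum
    push_cast at this ⊢
    exact this
  · intro χ hχ
    have h := hA χ hχ
    refine ne_dadeMu hs.dade h (hμ χ hχ) (α := fun x => if x ∈ H then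
      ((χ : L → ℂ) - conjFun (χ : L → ℂ)) x else 0) ?_ ?_ ?_ (hν.orth _ ?_ ?_)
    · convert isClassFunction_part H (sub_conj_props h).2.1
    · intro x hx
      split_ifs with hxH
      · rcases eq_or_ne x 1 with rfl | hx1
        · exact (sub_conj_props h).2.2 1 hx
        · exact absurd (hs.mem_of_kernel hxH hx1) hx
      · rfl
    · -- the kernel part of the norm of `χ - χ̄` is positive
      intro h0
      obtain ⟨θ, hθ, hθ1, hcon⟩ := hs.exists_theta χ.2 (hu χ (hs0 χ hχ)).1
      have hz : ∀ x : L, x ∈ H → ((χ : L → ℂ) - conjFun (χ : L → ℂ)) x = 0 := by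
        intro x hx
        rw [classInner, mul_eq_zero] at h0
        have h1 := h0.resolve_left (inv_ne_zero (Nat.cast_ne_zero.mpr Nat.card_pos.ne'))
        have h2 : ∑ y : L, (if y ∈ H then ‖((χ : L → ℂ) - conjFun (χ : L → ℂ)) y‖ ^ 2 else 0) = (0 : ℝ) := by
          refine Complex.ofReal_injective (Eq.trans ?_ h1)
          push_cast
          refine Finset.sum_congr rfl fun y _ => ?_
          split_ifs
          · rw [Complex.ofReal_pow, Complex.mul_conj']
          · simp
        have h3 := (Finset.sum_eq_zero_iff_of_nonneg fun y _ => by split_ifs <;> positivity).mp h2 x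
          (Finset.mem_univ x)
        rw [if_pos hx, sq_eq_zero_iff, norm_eq_zero] at h3
        exact h3
      refine hcon ?_
      rw [show (fun n : H => (χ : L → ℂ) n) = fun n : H => conjFun (χ : L → ℂ) n from
        funext fun n => sub_eq_zero.mp (hz n n.2)]
      exact hs.not_both χ.2 hθ hθ1 hcon
    · convert isClassFunction_part H (sub_conj_props h).2.1
    · rintro x (hx | rfl)
      · exact if_neg hx
      · rw [if_pos H.one_mem, Pi.sub_apply, Coherence.conjFun_one (isCharacter_of_isIrr χ.2), sub_self]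

/-- Two irreducible characters over the same character of the kernel. -/
theorem orth_pair {χ χ' : L → ℂ} (hχ : IsIrrCharacter L χ) (hχ' : IsIrrCharacter L χ') {θ : H → ℂ}
    (hθ : IsIrrCharacter H θ) (hθ1 : θ ≠ fun _ => 1) (h : classInner (fun n : H => χ n) θ ≠ 0)
    (h' : classInner (fun n : H => χ' n) θ ≠ 0) {ν : G → ℂ} (hν : OrthKernel A L R H ν) :
    classInner (dadeIsometry A L R (χ - χ')) ν = 0 := by
  classical
  rcases eq_or_ne χ χ' with rfl | hne
  · have h0 : dadeIsometry A L R (χ - χ) = 0 := by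
      funext g; rw [sub_self]; simp [dadeIsometry]
    rw [h0, classInner_zero_left]
  have hn := hs.nontriv_of_constituent hθ hθ1 h
  have hn' := hs.nontriv_of_constituent hθ hθ1 h'
  have hb : χ' ≠ conjFun χ := fun e => h' (e ▸ hs.not_both hχ hθ hθ1 h)
  refine hs.orth_unit (isGeneralized_sub (isGeneralized_of_isIrr hχ) (isGeneralized_of_isIrr hχ'))
    (fun x hx => ?_) (fun φ hφ hne0 => ?_) hν
  · rcases eq_or_ne x 1 with rfl | hx1
    · rw [Pi.sub_apply, hs.degree_eq hχ hχ' hθ hθ1 h h', sub_self]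
    · rw [Pi.sub_apply, (hs.achar hχ hn).2.2 x hx1 hx, (hs.achar hχ' hn').2.2 x hx1 hx, sub_zero]
  · rw [classInner_sub_left] at hne0 ⊢
    have hc : IsIrrCharacter L (conjFun φ) := isIrrCharacter_conj hφ
    by_cases e1 : χ = φ
    · subst e1
      refine ⟨hn, Or.inl ?_, ?_⟩
      · rw [classInner_irr_self hχ, classInner_irr_ne hχ' hχ hne.symm, sub_zero]
      · rw [classInner_sub_left, classInner_irr_self hχ, classInner_irr_ne hχ' hχ hne.symm,
          classInner_irr_ne hχ hc (fun e => (hs.achar hχ hn).2.1 e.symm),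
          classInner_irr_ne hχ' hc hb]
        norm_num
    · by_cases e2 : χ' = φ
      · subst e2
        refine ⟨hn', Or.inr ?_, ?_⟩
        · rw [classInner_irr_self hχ', classInner_irr_ne hχ hχ' hne, zero_sub]
        · rw [classInner_sub_left, classInner_irr_self hχ', classInner_irr_ne hχ hχ' hne,
            classInner_irr_ne hχ' hc (fun e => (hs.achar hχ' hn').2.1 e.symm),
            classInner_irr_ne hχ hc (fun e => hb (by rw [e, Coherence.conjFun_conjFun]))]
          norm_num
      · exact absurd (by rw [classInner_irr_ne hχ hφ e1, classInner_irr_ne hχ' hφ e2, sub_zero]) hne0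

/-- Two induced characters of the same degree. -/
theorem orth_induced {θ θ' : H → ℂ} (hθ : IsIrrCharacter H θ) (hθ' : IsIrrCharacter H θ')
    (hθ1 : θ ≠ fun _ => 1) (hθ'1 : θ' ≠ fun _ => 1) (hdeg : θ 1 = θ' 1) {ν : G → ℂ}
    (hν : OrthKernel A L R H ν) :
    classInner (dadeIsometry A L R (indFun H θ - indFun H θ')) ν = 0 := by
  classical
  have hg : ∀ {η : H → ℂ}, IsIrrCharacter H η → IsGeneralizedCharacter L (indFun H η) := fun h =>
    isGeneralized_indFun H (isGeneralized_of_isIrr h)
  refine hs.orth_unit (isGeneralized_sub (hg hθ) (hg hθ')) (fun x hx => ?_) (fun φ hφ hne => ?_) hν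
  · by_cases hxH : x ∈ H
    · rcases eq_or_ne x 1 with rfl | hx1
      · rw [Pi.sub_apply, indFun_one, indFun_one, hdeg, sub_self]
      · exact absurd (hs.mem_of_kernel hxH hx1) hx
    · rw [Pi.sub_apply, indFun_notMem_of_normal H θ hxH, indFun_notMem_of_normal H θ' hxH, sub_zero]
  · have hval : ∀ {η : H → ℂ}, IsIrrCharacter H η → η ≠ (fun _ => 1) → ∀ {χ : L → ℂ},
        IsIrrCharacter L χ → classInner (indFun H η) χ =
          if classInner (fun n : H => χ n) η ≠ 0 then 1 else 0 := by
      intro η hη hη1 χ hχ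
      rw [frobenius_reciprocity H η (isClassFunction_of_isCharacter (isCharacter_of_isIrr hχ)),
        ← classInner_conj_symm]
      split_ifs with h
      · rw [(hs.fdata.mult_one hη hη1 hχ h).1, map_one]
      · rw [not_not.mp h, map_zero]
    rw [classInner_sub_left, hval hθ hθ1 hφ, hval hθ' hθ'1 hφ] at hne
    have hφc : IsIrrCharacter L (conjFun φ) := isIrrCharacter_conj hφ
    rw [classInner_sub_left, classInner_sub_left, hval hθ hθ1 hφ, hval hθ' hθ'1 hφ,
      hval hθ hθ1 hφc, hval hθ' hθ'1 hφc]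
    by_cases h : classInner (fun n : H => φ n) θ ≠ 0
    · rw [if_pos h] at hne ⊢
      have h' : ¬ classInner (fun n : H => φ n) θ' ≠ 0 := fun e => by simp [e] at hne
      rw [if_neg h', if_neg (fun e => e (hs.not_both hφ hθ hθ1 h))]
      refine ⟨hs.nontriv_of_constituent hθ hθ1 h, Or.inl (sub_zero _), ?_⟩
      split_ifs <;> norm_num
    · rw [if_neg h] at hne ⊢
      have h' : classInner (fun n : H => φ n) θ' ≠ 0 := fun e => by simp [e] at hne
      rw [if_pos h', if_neg (fun e : classInner (fun n : H => conjFun φ n) θ' ≠ 0 =>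
        e (hs.not_both hφ hθ' hθ'1 h'))]
      refine ⟨hs.nontriv_of_constituent hθ' hθ'1 h', Or.inr (zero_sub _), ?_⟩
      split_ifs <;> norm_num

/-- Off the kernel, `ν` is constant on the parts of the cosets of the kernel lying in `A`. -/
theorem coset_const (hR : ∀ a : L, (a : G) ∈ A → a ∉ H → R (a : G) = ⊥) {ν : G → ℂ}
    (hν : OrthKernel A L R H ν) {x h : L} (hxH : x ∉ H) (hh : h ∈ H) (hxA : (x : G) ∈ A)
    (hhxA : ((h * x : L) : G) ∈ A) : ν ((h * x : L) : G) = ν (x : G) := by
  classical
  have hνc := isClassFunction_of_isCharacter (isCharacter_of_isIrr hν.irr)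
  obtain ⟨ξ, hξ, hξH, hξx⟩ := exists_irr_trivial H hxH
  have hξc := isClassFunction_of_isCharacter (isCharacter_of_isIrr hξ)
  let D : L → ℂ := fun a => if (a : G) ∈ A then
    (Nat.card (R (a : G)) : ℂ)⁻¹ * ∑ᶠ u ∈ (R (a : G) : Set G), ν ((a : G) * u) else 0
  let E : L → ℂ := fun a => if (a : G) ∈ A then (conj (ξ a) - ξ 1) * ν (a : G) else 0
  have hAconj : ∀ a b : L, ((b * a * b⁻¹ : L) : G) ∈ A ↔ (a : G) ∈ A := by
    refine fun a b => ⟨fun h => ?_, fun h => by simpa using hs.dade.conj_mem _ b.2 _ h⟩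
    have h2 := hs.dade.conj_mem _ (b⁻¹).2 _ h
    simpa [mul_assoc] using h2
  have hEc : IsClassFunction L E := by
    intro a b
    simp only [E, hAconj, hξc a b]
    split_ifs
    · congr 1
      simpa using hνc (a : G) (b : G)
    · rfl
  have hED : ∀ a : L, E a = (conj (ξ a) - ξ 1) * D a := by
    intro a
    simp only [E, D]
    split_ifs with ha
    · by_cases haH : a ∈ H
      · rw [not_not.mp fun e => hξH ⟨a, haH, e⟩]
        obtain ⟨n, hn⟩ := exists_nat_degree (isCharacter_of_isIrr hξ)
        simp [hn]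
      · rw [hR a ha haH]
        simp [finsum_mem_eq_toFinset_sum]
    · rw [mul_zero]
  have horth : ∀ χ : L → ℂ, IsIrrCharacter L χ → NontrivOn H χ → classInner E χ = 0 := by
    intro χ hχ hn
    have key : classInner (χ * ξ) D = ξ 1 * classInner χ D := by
      refine classInner_mul_trivial hχ hξ hξH fun φ θ hφ hθ h1 h2 => ?_
      have hθ1 : θ ≠ fun _ => 1 := by
        intro e
        rw [e] at h1
        have h3 := clifford_invariant H hχ isIrrCharacter_one (fun g => rfl) h1
        obtain ⟨n, hn, hne⟩ := hn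
        exact hne ((congrFun h3 ⟨n, hn⟩).trans (congrFun h3 1).symm)
      refine ⟨hs.degree_eq hχ hφ hθ hθ1 h1 h2, ?_⟩
      have h0 := hs.orth_pair hφ hχ hθ hθ1 h2 h1 hν
      have hn' := hs.nontriv_of_constituent hθ hθ1 h2
      rw [dade_adjoint hs.dade (ψ := D) ?_ ?_ hνc (fun a ha => if_pos ha), classInner_sub_left,
        sub_eq_zero] at h0
      · exact h0
      · exact isClassFunction_of_isGeneralized
          (isGeneralized_sub (isGeneralized_of_isIrr hφ) (isGeneralized_of_isIrr hχ))
      · intro a ha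
        rcases eq_or_ne a 1 with rfl | ha1
        · rw [Pi.sub_apply, hs.degree_eq hφ hχ hθ hθ1 h2 h1, sub_self]
        · rw [Pi.sub_apply, (hs.achar hφ hn').2.2 a ha1 ha, (hs.achar hχ hn).2.2 a ha1 ha, sub_zero]
    have h1 : conj (classInner E χ) = classInner (χ * ξ) D - conj (ξ 1) * classInner χ D := by
      rw [classInner_conj_symm]
      simp only [classInner, hED, map_mul, map_sub, Complex.conj_conj, Pi.mul_apply]
      rw [mul_left_comm (conj (ξ 1)), ← mul_sub, Finset.mul_sum _ _ (conj (ξ 1)),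
        ← Finset.sum_sub_distrib]
      congr 1
      exact Finset.sum_congr rfl fun a _ => by ring
    obtain ⟨n, hn⟩ := exists_nat_degree (isCharacter_of_isIrr hξ)
    rw [key, hn, map_natCast, sub_self, map_eq_zero] at h1
    exact h1
  have h := coset_eq_of_orth hEc horth hh x
  simp only [E, hxA, hhxA, if_true] at h
  rw [coset_eq_of_not_nontriv (isCharacter_of_isIrr hξ) hξH hh x] at h
  refine mul_left_cancel₀ (sub_ne_zero.mpr fun e => hξx ?_) h
  obtain ⟨n, hn⟩ := exists_nat_degree (isCharacter_of_isIrr hξ)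
  rw [hn] at e ⊢
  exact (starRingEnd ℂ).injective (e.trans (map_natCast _ n).symm)

/-- The form of `coset_const` for an element of the complement with a fixed point. -/
theorem coset_const' (hR : ∀ a : L, (a : G) ∈ A → a ∉ H → R (a : G) = ⊥) {ν : G → ℂ}
    (hν : OrthKernel A L R H ν) {u h : L} (hu : u ∈ U) (hu1 : u ≠ 1) (hh : h ∈ H)
    (hfix : ∃ c ∈ H, c ≠ 1 ∧ u * c = c * u) : ν ((h * u : L) : G) = ν (u : G) := by
  have hH : H ≠ ⊥ := by
    rintro rfl
    obtain ⟨c, hc, hc1, -⟩ := hfix
    exact hc1 (Subgroup.mem_bot.mp hc)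
  have huH : u ∉ H := fun h1 => hu1 (by
    have := disjoint_of_cop hs.fdata.cop
    exact Subgroup.mem_bot.mp (this.le_bot ⟨h1, hu⟩))
  refine hs.coset_const hR hν huH hh ((hs.mem u).mpr ⟨hu1, hfix⟩) ((hs.mem _).mpr ⟨?_, ?_⟩)
  · exact fun e => huH (by rw [show u = h⁻¹ from (inv_eq_of_mul_eq_one_right e).symm]; exact inv_mem hh)
  · exact hs.fdata.exists_commute hH hh hu (Or.inr hfix)
where
  disjoint_of_cop {X : Type _} [Group X] {P Q : Subgroup X}
      (h : (Nat.card P).Coprime (Nat.card Q)) : Disjoint P Q :=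
    disjoint_iff.mpr (Subgroup.inf_eq_bot_of_coprime h)

end SetupF

end CfsgLib.Peterfalvi
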