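import Cfsg.Agent.Lib.Peterfalvi.TypeOneWitness
import Cfsg.Agent.Lib.Peterfalvi.TypeOneChar
import Cfsg.Agent.Lib.Peterfalvi.TypeOneCoherent
import Cfsg.Agent.Lib.Peterfalvi.Congr
import Cfsg.Agent.S1525
import Mathlib.GroupTheory.Abelianization.Finite

/-!
An irreducible character of `G` attached to a Frobenius maximal subgroup of type I, constant on
the cosets defining the supports.
-/

set_option autoImplicit false
set_option linter.style.haveILetI false
set_option linter.unusedSectionVars false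

namespace CfsgLib.Peterfalvi

open Cfsg CfsgLib.Char
open CfsgLib.OddLocal (exists_support tilde_disjoint supportR_eq supportR_eq_bot)
open scoped ComplexConjugate CfsgLib.Char Pointwise

variable {G : Type*} [Group G] [Fintype G] {L M N : Subgroup G}

/-- `ν` is irreducible and `ν - ν̄` vanishes outside the conjugates of the cosets attached to
`A₁(M)`. -/
structure NuM {G : Type*} [Group G] [Fintype G] (M : Subgroup G) (ν : G → ℂ) : Prop where
  irr : IsIrrCharacter G ν
  vanish : ∀ g, g ∉ tildeOf M ((sigmaCore M : Set G) \ {1}) → (ν - conjFun ν) g = 0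

theorem NuM.classFunction {ν : G → ℂ} (hν : NuM M ν) : IsClassFunction G ν :=
  isClassFunction_of_isCharacter (isCharacter_of_isIrr hν.irr)

/-- A non-identity element of a commutative quotient is moved by a linear character. -/
theorem exists_linear {H : Type*} [Group H] [Finite H] (N : Subgroup H) [N.Normal]
    (hab : ∀ a b : H ⧸ N, a * b = b * a) {u : H} (hu : u ∉ N) :
    ∃ θ : H →* ℂˣ, (∀ n ∈ N, θ n = 1) ∧ θ u ≠ 1 := by
  letI : Fintype H := Fintype.ofFinite H
  obtain ⟨χ, hχ⟩ : ∃ χ : IrrCharacter (H ⧸ N), (χ : H ⧸ N → ℂ) u ≠ (χ : H ⧸ N → ℂ) 1 := by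
    by_contra hc
    push Not at hc
    exact hu ((QuotientGroup.eq_one_iff u).mp (eq_one_of_forall_irr hc))
  have h1 : (χ : H ⧸ N → ℂ) 1 = 1 := degree_one_of_comm hab χ
  obtain ⟨g, hg⟩ := exists_det_hom (isCharacter_of_isIrr χ.2)
  rw [detChar_linear (isCharacter_of_isIrr χ.2) h1] at hg
  refine ⟨g.comp (QuotientGroup.mk' N), fun n hn => ?_, fun e => hχ ?_⟩
  · rw [MonoidHom.comp_apply, QuotientGroup.mk'_apply, (QuotientGroup.eq_one_iff n).mpr hn, map_one]
  · rw [h1, hg]
    simp only [MonoidHom.comp_apply, QuotientGroup.mk'_apply] at e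
    simp [e]

theorem isIntegral_irr {χ : G → ℂ} (hχ : IsIrrCharacter G χ) (g : G) : IsIntegral ℤ (χ g) :=
  isIntegral_value (isCharacter_of_isIrr hχ) g

/-- The sum of the squared moduli over a set is at most the order of the group. -/
theorem classInner_irr_re {χ : G → ℂ} (hχ : IsIrrCharacter G χ) : (classInner χ χ).re = 1 := by
  rw [classInner_irr_self hχ, Complex.one_re]

namespace AllI

variable (h : AllI G)
include h

theorem mem_kernel_iff (hN : IsCoatom N) (x : N) : x ∈ fittingHall N ↔ (x : G) ∈ sigmaCore N := by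
  rw [← h.core N hN, mem_fittingHallOf_iff]

theorem typeA1_eq (hN : IsCoatom N) : typeA1 N = (sigmaCore N : Set G) \ {1} := by
  exact typeA1_eq_diff h.hG hN

theorem dade (hN : IsCoatom N) : DadeHypothesis (setA N) N (supportR N) :=
  dadeHypothesis_of_tame (h.tame N hN) subset_rfl (setA_subset N) (one_notMem_setA N)
    fun _ hm _ ha => conj_mem_setA hm ha

theorem dade_core (hN : IsCoatom N) :
    DadeHypothesis ((sigmaCore N : Set G) \ {1}) N (supportR N) := by
  rw [← h.typeA1_eq hN]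
  exact dadeHypothesis_of_tame (h.tame N hN) (typeA1_subset_setA h.hG hN (h.kappa N hN))
    (fun _ hx => typeCore_le N hx.1) (fun e => e.2 rfl) fun _ hm _ ha => conj_mem_typeA1 hm ha

theorem centralizer_le_of_not_core (hN : IsCoatom N) {a : G} (ha : a ∈ setA N)
    (hK : a ∉ sigmaCore N) : Subgroup.centralizer ({a} : Set G) ≤ N := by
  by_contra hle
  have h1 := ((h.tame N hN).escape a ha hle).1
  rw [h.typeA1_eq hN] at h1
  exact hK h1.1

/-- The group theoretic data of a maximal subgroup of type I, in character theoretic form. -/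
theorem exists_setup (hN : IsCoatom N) :
    ∃ U U₁ : Subgroup N, SetupF (setA N) N (supportR N) (fittingHall N) U U₁ := by
  obtain ⟨-, -, -, -, U, -, hc, ⟨U₁, hle, -, hab, hcent⟩, -⟩ := (h.weakTypeI N hN).1
  refine ⟨U, U₁, { dade := h.dade hN, fdata := ?_, odd := h.hG.1, mem := fun x => ?_ }⟩
  · refine { normal := inferInstance, sup := hc.sup_eq_top, cop := ?_, le := hle, comm := ?_,
             cent := hcent }
    · rw [← (Subgroup.IsComplement'.symm hc).index_eq_card]
      exact OddLocal.fittingHall_coprime_index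
    · intro a ha b hb
      haveI := hab
      exact congrArg Subtype.val (mul_comm' (⟨a, ha⟩ : U₁) ⟨b, hb⟩)
  · constructor
    · rintro ⟨-, hx1, y, hy, hy1, hxy⟩
      exact ⟨fun e => hx1 (by rw [e]; rfl), ⟨y, fittingHallOf_le N hy⟩,
        (mem_fittingHallOf_iff _).mp hy, fun e => hy1 (congrArg Subtype.val e), Subtype.ext hxy⟩
    · rintro ⟨hx1, c, hc, hc1, hxc⟩
      exact ⟨x.2, fun e => hx1 (Subtype.ext e), c, (mem_fittingHallOf_iff _).mpr hc,
        fun e => hc1 (Subtype.ext e), congrArg Subtype.val hxc⟩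

/-- The Dade image of a function supported on the kernel lives over the cosets of `A₁`. -/
theorem dade_eq_zero (hN : IsCoatom N) [Fintype N] {α : N → ℂ}
    (hα : ∀ x : N, x ∉ fittingHall N ∨ x = 1 → α x = 0) (hαc : IsClassFunction N α) {g : G}
    (hg : g ∉ tildeOf N ((sigmaCore N : Set G) \ {1})) :
    dadeIsometry (setA N) N (supportR N) α g = 0 := by
  by_cases hex : ∃ a : N, (a : G) ∈ setA N ∧ ∃ x : G, ∃ u ∈ supportR N (a : G),
      x * g * x⁻¹ = (a : G) * u
  · obtain ⟨a, ha, y, u, hu, hy⟩ := hex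
    rw [dade_value (h.dade hN) hαc ha hu hy]
    refine hα a (Classical.or_iff_not_imp_left.mpr fun hK => absurd ?_ hg)
    exact ⟨a, ⟨(h.mem_kernel_iff hN a).mp (not_not.mp hK), fun e => one_notMem_setA N (by
      rw [Set.mem_singleton_iff] at e; rwa [e] at ha)⟩, u, hu, y⁻¹, by rw [← hy]; group⟩
  · exact dade_value_zero hex

theorem orthKernel (hM : IsCoatom M) {ν : G → ℂ} (hν : NuM M ν) (hN : IsCoatom N) [Fintype N]
    (hne : ∀ g : G, N ≠ MulAut.conj g • M) :
    OrthKernel (setA N) N (supportR N) (fittingHall N) ν := by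
  refine ⟨hν.irr, fun α hαc hα => ?_⟩
  rw [classInner, Finset.sum_eq_zero, mul_zero]
  intro g _
  by_cases hg : g ∈ tildeOf N ((sigmaCore N : Set G) \ {1})
  · rw [hν.vanish g (Set.disjoint_right.mp (tilde_disjoint h.hG hM hN hne) hg), map_zero, mul_zero]
  · rw [h.dade_eq_zero hN hα hαc hg, zero_mul]

/-- `ν` is constant on the cosets of the kernel inside `A(N)`. -/
theorem value_coset (hM : IsCoatom M) {ν : G → ℂ} (hν : NuM M ν) (hN : IsCoatom N)
    (hne : ∀ g : G, N ≠ MulAut.conj g • M) {u v : G} (hu : u ∈ setA N) (huK : u ∉ sigmaCore N)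
    (hv : v ∈ sigmaCore N) (hvu : v * u ∈ setA N) : ν (v * u) = ν u := by
  classical
  letI : Fintype N := Fintype.ofFinite N
  letI : Fintype (fittingHall N) := Fintype.ofFinite _
  obtain ⟨U, U₁, hs⟩ := h.exists_setup hN
  have hvN : v ∈ N := OddLocal.piCoreOf_le _ N hv
  exact hs.coset_const (fun a ha haK => supportR_eq_bot
    (h.centralizer_le_of_not_core hN ha fun e => haK ((h.mem_kernel_iff hN a).mpr e)))
    (h.orthKernel hM hν hN hne) (x := ⟨u, setA_subset N hu⟩) (h := ⟨v, hvN⟩)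
    (fun e => huK ((h.mem_kernel_iff hN ⟨u, _⟩).mp e)) ((h.mem_kernel_iff hN ⟨v, hvN⟩).mpr hv) hu hvu

/-- An element of `N` commuting with a non-identity element of `N_σ` lies in `A(N)`. -/
theorem mem_setA (hN : IsCoatom N) {a y : G} (ha : a ∈ N) (ha1 : a ≠ 1) (hy : y ∈ sigmaCore N)
    (hy1 : y ≠ 1) (hay : a * y = y * a) : a ∈ setA N := by
  exact ⟨ha, ha1, y, (h.core N hN).symm ▸ hy, hy1, hay⟩

/-- A Frobenius maximal subgroup is not conjugate to one with an element outside the core having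
a fixed point on it. -/
theorem not_conj_frobenius (hM : IsCoatom M)
    (hfrob : ∀ y ∈ sigmaCore M, y ≠ 1 → M ⊓ Subgroup.centralizer ({y} : Set G) ≤ sigmaCore M)
    {a y : G} (ha : a ∈ N) (haK : a ∉ sigmaCore N) (hy : y ∈ sigmaCore N) (hy1 : y ≠ 1)
    (hay : a * y = y * a) (g : G) : N ≠ MulAut.conj g • M := by
  intro e
  subst e
  rw [OddLocal.sigmaCore_conj h.hG hM, Coprime.mem_conj_smul_iff] at haK hy
  rw [Coprime.mem_conj_smul_iff] at ha
  refine haK (hfrob _ hy (fun e => hy1 ?_) ⟨ha, Subgroup.mem_centralizer_singleton_iff.mpr ?_⟩)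
  · calc y = g * (g⁻¹ * y * g) * g⁻¹ := by group
      _ = 1 := by rw [e]; group
  · calc g⁻¹ * a * g * (g⁻¹ * y * g) = g⁻¹ * (a * y) * g := by group
      _ = g⁻¹ * (y * a) * g := by rw [hay]
      _ = _ := by group

/-- `ν` is constant on the cosets `a R(a)`, `a` in the core of any maximal subgroup. -/
theorem value_support (hM : IsCoatom M)
    (hfrob : ∀ y ∈ sigmaCore M, y ≠ 1 → M ⊓ Subgroup.centralizer ({y} : Set G) ≤ sigmaCore M)
    {ν : G → ℂ} (hν : NuM M ν) (hL : IsCoatom L) {a v : G} (ha : a ∈ sigmaCore L) (ha1 : a ≠ 1)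
    (hv : v ∈ supportR L a) : ν (a * v) = ν a := by
  by_cases hle : Subgroup.centralizer ({a} : Set G) ≤ L
  · rw [supportR_eq_bot hle, Subgroup.mem_bot] at hv
    rw [hv, mul_one]
  obtain ⟨N, hN⟩ := exists_support h.hG hL ha ha1 hle
  rw [supportR_eq hN] at hv
  have hav : a * v = v * a := (Subgroup.mem_centralizer_singleton_iff.mp hv.2).symm
  obtain ⟨⟨y, hy⟩, hy1⟩ := Subgroup.ne_bot_iff_exists_ne_one.mp hN.fixed
  have hy1' : y ≠ 1 := fun e => hy1 (Subtype.ext e)
  have hay : a * y = y * a := (Subgroup.mem_centralizer_singleton_iff.mp hy.2).symm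
  have haK : a ∉ sigmaCore N := fun e => ha1 (Subgroup.mem_bot.mp
    (hN.inf_eq ▸ ⟨e, OddLocal.piCoreOf_le _ L ha⟩))
  rw [hav]
  refine h.value_coset hM hν hN.hN (h.not_conj_frobenius hM hfrob hN.hxN haK hy.1 hy1' hay)
    (h.mem_setA hN.hN hN.hxN ha1 hy.1 hy1' hay) haK hv.1 ?_
  rcases eq_or_ne v 1 with rfl | hv1
  · rw [one_mul]; exact h.mem_setA hN.hN hN.hxN ha1 hy.1 hy1' hay
  · refine h.mem_setA hN.hN (N.mul_mem (OddLocal.piCoreOf_le _ N hv.1) hN.hxN) ?_ hv.1 hv1 ?_
    · exact fun e => haK (by rw [eq_inv_of_mul_eq_one_right e]; exact inv_mem hv.1)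
    · rw [mul_assoc, hav]

/-- The average of `ν` over `a R(a)` is `ν a`. -/
theorem avg_support (hM : IsCoatom M)
    (hfrob : ∀ y ∈ sigmaCore M, y ≠ 1 → M ⊓ Subgroup.centralizer ({y} : Set G) ≤ sigmaCore M)
    {ν : G → ℂ} (hν : NuM M ν) (hL : IsCoatom L) {a : G} (ha : a ∈ setA L) :
    ν a = (Nat.card (supportR L a) : ℂ)⁻¹ * ∑ᶠ u ∈ (supportR L a : Set G), ν (a * u) := by
  classical
  have hconst : ∀ u ∈ (supportR L a : Set G).toFinset, ν (a * u) = ν a := by
    intro u hu
    rw [Set.mem_toFinset] at hu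
    by_cases haK : a ∈ sigmaCore L
    · exact h.value_support hM hfrob hν hL haK (fun e => one_notMem_setA L (e ▸ ha)) hu
    · rw [supportR_eq_bot (h.centralizer_le_of_not_core hL ha haK), SetLike.mem_coe,
        Subgroup.mem_bot] at hu
      rw [hu, mul_one]
  rw [finsum_mem_eq_toFinset_sum, Finset.sum_congr rfl hconst, Finset.sum_const,
    Set.toFinset_card, ← Nat.card_eq_fintype_card, nsmul_eq_mul]
  exact (inv_mul_cancel_left₀ (Nat.cast_ne_zero.mpr Nat.card_pos.ne') _).symm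

/-- The coherent extension gives `ν`, whose values on the kernel are those of an induced
character up to sign. -/
theorem exists_nu (hM : IsCoatom M) [Fintype M] {p : ℕ} (hp : p.Prime) {x : G}
    (hxK : x ∈ sigmaCore M) (hxo : orderOf x = p)
    (hfrob : ∀ y ∈ sigmaCore M, y ≠ 1 → M ⊓ Subgroup.centralizer ({y} : Set G) ≤ sigmaCore M)
    (hbig : ((sigmaCore M).relIndex M + 1) ^ 2 < Nat.card (sigmaCore M)) :
    ∃ (ν : G → ℂ) (s : ℤ), NuM M ν ∧ (s = 1 ∨ s = -1) ∧
      DvdRoot p (ν x - ((s * (sigmaCore M).relIndex M : ℤ) : ℂ)) ∧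
      1 - ((sigmaCore M).relIndex M : ℝ) / Nat.card (sigmaCore M) ≤
        (Nat.card G : ℝ)⁻¹ * ∑ᶠ g ∈ tildeOf M ((sigmaCore M : Set G) \ {1}), ‖ν g‖ ^ 2 := by
  classical
  have hI := h.weakTypeI M hM
  have hfrob' : ∀ y ∈ fittingHallOf M, y ≠ 1 →
      M ⊓ Subgroup.centralizer ({y} : Set G) ≤ fittingHallOf M := by
    rw [h.core M hM]; exact hfrob
  set K := fittingHall M with hKdef
  letI : Fintype K := Fintype.ofFinite K
  have hC : ∀ k ∈ K, k ≠ 1 → ∀ y : M, y * k = k * y → y ∈ K := by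
    intro k hk hk1 y hy
    rw [← mem_fittingHallOf_iff]
    exact hfrob' k ((mem_fittingHallOf_iff k).mpr hk) (fun e => hk1 (Subtype.ext e))
      ⟨y.2, Subgroup.mem_centralizer_singleton_iff.mpr (congrArg Subtype.val hy)⟩
  have hA : ∀ y : M, (y : G) ∈ setA M ↔ y ∈ K ∧ y ≠ 1 := setA_eq_of_frobenius hfrob'
  obtain ⟨hirr, -, τ₁, hτ₁, hτ⟩ := kappaEmpty_frobenius_coherent h.hG hM (h.kappa M hM) hfrob'
  set τ := dadeIsometry (setA M) M (supportR M)
  set S := inducedIrrAbove K ⊥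
  have hD := h.dade hM
  -- a character induced from a linear character
  obtain ⟨hKne, hKtop⟩ : K ≠ ⊥ ∧ K ≠ ⊤ := ⟨hI.1.2.2.1, hI.1.2.2.2.1⟩
  haveI : Nontrivial K := (Subgroup.nontrivial_iff_ne_bot K).mpr hKne
  haveI : Group.IsNilpotent K := fittingHall_isNilpotent
  obtain ⟨w, -, hw⟩ : ∃ w ∈ (⊤ : Subgroup K), w ∉ commutator K :=
    SetLike.exists_of_lt (Group.IsSolvable.commutator_lt_top_of_nontrivial K)
  obtain ⟨θ, -, hθw⟩ := exists_linear (commutator K) (fun a b => by
    exact mul_comm (G := Abelianization K) a b) hw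
  set lam : K → ℂ := fun k => ((θ k : ℂˣ) : ℂ) with hlam
  have hlam_irr : IsIrrCharacter K lam := isIrrCharacter_monoidHom θ
  have hlam1 : lam ≠ fun _ => 1 := fun e => hθw (Units.ext (congrFun e w))
  set ζ := indFun K lam with hζdef
  have hmem : ∀ {θ : K → ℂ}, IsIrrCharacter K θ → θ ≠ (fun _ => 1) → indFun K θ ∈ S := by
    intro θ h0 h1
    exact ⟨θ, h0, h1, fun a ha => by
      rw [show a = 1 from Subtype.ext (Subgroup.mem_bot.mp ha)], rfl⟩
  have hζS : ζ ∈ S := hmem hlam_irr hlam1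
  have hζi := hirr ζ hζS
  set e := (sigmaCore M).relIndex M with hedef
  set k := Nat.card (sigmaCore M) with hkdef
  have hKk : Nat.card K = k := by
    rw [hkdef, ← h.core M hM, fittingHallOf, Subgroup.card_map_of_injective M.subtype_injective]
  have hKe : K.index = e := by
    rw [hedef, ← h.core M hM, Subgroup.relIndex, fittingHallOf, Subgroup.subgroupOf,
      Subgroup.comap_map_eq_self_of_injective M.subtype_injective]
  have hζ1 : ζ 1 = (e : ℂ) := by
    rw [hζdef, indFun_one, ← hKe]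
    simp [hlam]
  -- the conjugate
  have hζc : conjFun ζ ∈ S := by
    rw [hζdef, SibleyTI.conjFun_ind]
    refine hmem (isIrrCharacter_conj hlam_irr) fun e' => hlam1 (funext fun n => ?_)
    have := congrFun e' n
    simp only [conjFun] at this
    exact (starRingEnd ℂ).injective (this.trans (map_one _).symm)
  have hodd : Odd (Nat.card M) := Odd.of_dvd_nat h.hG.1 (Subgroup.card_subgroup_dvd_card M)
  have hζne : conjFun ζ ≠ ζ := by
    intro e'
    have h1 := irr_real_of_odd hodd ⟨ζ, hζi⟩ fun g => Complex.conj_eq_iff_im.mp (congrFun e' g)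
    obtain ⟨g, -, hg⟩ := SetLike.exists_of_lt (lt_top_iff_ne_top.mpr hKtop)
    have h2 := congrFun h1 g
    change ζ g = 1 at h2
    rw [hζdef, indFun_notMem_of_normal K lam hg] at h2
    exact zero_ne_one h2
  have hvan : ∀ y : M, y ≠ 1 → (y : G) ∉ setA M → ζ y = 0 := fun y hy hyA =>
    indFun_notMem_of_normal K lam fun hK => hyA ((hA y).mpr ⟨hK, hy⟩)
  obtain ⟨μ, hμ, hμe⟩ := Cfsg.Agent.S1518.result _ _ _ hD ζ hζi hvan
  -- the signed irreducible image
  have hζz : ζ ∈ zspan S := Coherence.subset_zspan hζS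
  have hnorm : classInner (τ₁ ζ) (τ₁ ζ) = 1 := by
    rw [hτ₁.2.2.1 ζ hζz ζ hζz, classInner_irr_self hζi]
  obtain ⟨ε, hε, ⟨ν, hν⟩, hεν⟩ := exists_of_norm_one (hτ₁.2.2.2 ζ hζz) hnorm
  obtain ⟨s, hs, hsε⟩ : ∃ s : ℤ, (s = 1 ∨ s = -1) ∧ ε = (s : ℂ) := by
    rcases hε with rfl | rfl
    · exact ⟨1, Or.inl rfl, by simp⟩
    · exact ⟨-1, Or.inr rfl, by simp⟩
  subst hsε
  have hss : (s : ℂ) * (s : ℂ) = 1 := by rcases hs with rfl | rfl <;> simp
  have hzsub : ζ - conjFun ζ ∈ zspanOn S {1}ᶜ :=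
    Coherence.sub_mem_zspanOn hζS hζc (Coherence.conjFun_one (isCharacter_of_isIrr hζi)).symm
  have hNu : NuM M ν := by
    refine ⟨hν, fun g hg => ?_⟩
    have hdiff : τ₁ (ζ - conjFun ζ) = μ - conjFun μ := (hτ _ hzsub).trans hμe
    have h1 : classInner (μ - conjFun μ) ν = (s : ℂ) := by
      have h2 := hτ₁.2.2.1 _ (Coherence.zspan_sub hζz (Coherence.subset_zspan hζc)) ζ hζz
      rw [hdiff, hεν, classInner_smul_right, map_intCast, classInner_sub_left ζ,
        classInner_irr_self hζi, classInner_irr_ne (hirr _ hζc) hζi hζne, sub_zero] at h2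
      calc classInner (μ - conjFun μ) ν = (s : ℂ) * ((s : ℂ) * classInner (μ - conjFun μ) ν) := by
            rw [← mul_assoc, hss, one_mul]
        _ = (s : ℂ) := by rw [h2, mul_one]
    have hμ0 : (μ - conjFun μ) g = 0 := by
      rw [← hμe]
      refine dade_value_zero ?_
      rintro ⟨a, ha, y, u, hu, hy⟩
      obtain ⟨haK, ha1⟩ := (hA a).mp ha
      exact hg ⟨a, ⟨(h.mem_kernel_iff hM a).mp haK, fun e => ha1 (Subtype.ext e)⟩, u, hu, y⁻¹,
        by rw [← hy]; group⟩
    by_cases e1 : ν = μ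
    · rw [e1]; exact hμ0
    by_cases e2 : ν = conjFun μ
    · rw [e2, Coherence.conjFun_conjFun, ← neg_sub, Pi.neg_apply, hμ0, neg_zero]
    exfalso
    have hμc : IsIrrCharacter G (conjFun μ) := isIrrCharacter_conj hμ
    rw [classInner_sub_left, classInner_irr_ne hμ hν (Ne.symm e1),
      classInner_irr_ne hμc hν (Ne.symm e2), sub_zero] at h1
    rcases hs with rfl | rfl <;> simp at h1
  have havg : ∀ a : M, (a : G) ∈ setA M → ν (a : G) = (Nat.card (supportR M (a : G)) : ℂ)⁻¹ *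
      ∑ᶠ u ∈ (supportR M (a : G) : Set G), ν ((a : G) * u) :=
    fun a ha => h.avg_support hM hfrob hNu hM ha
  -- the restriction of `ν` minus `s ζ` is constant on the kernel
  set f : M → ℂ := fun y => ν (y : G) - (s : ℂ) * ζ y with hfdef
  have hfg : IsGeneralizedCharacter M f := isGeneralized_sub
    (isGeneralized_comp M.subtype (isGeneralized_of_isIrr hν))
    (isGeneralized_intCast_smul (isGeneralized_of_isIrr hζi) s)
  have hfc := isClassFunction_of_isGeneralized hfg
  have horth : ∀ χ ψ : M → ℂ, IsIrrCharacter M χ → IsIrrCharacter M ψ → NontrivOn K χ →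
      NontrivOn K ψ → ψ 1 * classInner f χ = χ 1 * classInner f ψ := by
    have hin : ∀ {χ : M → ℂ}, IsIrrCharacter M χ → NontrivOn K χ → χ ∈ S := by
      intro χ hχ hn
      obtain ⟨θ', hθ'⟩ := exists_constituent K (isCharacter_of_isIrr hχ) (irr_degree_ne_zero hχ)
      have hθ1 : (θ' : K → ℂ) ≠ fun _ => 1 := by
        intro e'
        rw [e'] at hθ'
        have h1 := clifford_invariant K hχ isIrrCharacter_one (fun g => rfl) hθ'
        obtain ⟨n, hn, hne⟩ := hn
        exact hne ((congrFun h1 ⟨n, hn⟩).trans (congrFun h1 1).symm)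
      have hm := hmem θ'.2 hθ1
      suffices indFun K (θ' : K → ℂ) = χ by rwa [← this]
      by_contra hne
      refine hθ' ?_
      have h2 := frobenius_reciprocity K (θ' : K → ℂ) (isClassFunction_of_isCharacter (isCharacter_of_isIrr hχ))
      rw [classInner_irr_ne (hirr _ hm) hχ hne] at h2
      rw [← classInner_conj_symm, ← h2, map_zero]
    intro χ ψ hχ hψ hnχ hnψ
    have hχS := hin hχ hnχ
    have hψS := hin hψ hnψ
    obtain ⟨a, ha⟩ := exists_nat_degree (isCharacter_of_isIrr hψ)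
    obtain ⟨b, hb⟩ := exists_nat_degree (isCharacter_of_isIrr hχ)
    have hα : (a : ℤ) • χ - (b : ℤ) • ψ ∈ zspanOn S {1}ᶜ := by
      refine Coherence.mem_zspanOn_iff.mpr ⟨Coherence.zspan_sub
        (Coherence.zspan_zsmul _ (Coherence.subset_zspan hχS))
        (Coherence.zspan_zsmul _ (Coherence.subset_zspan hψS)), ?_⟩
      simp [ha, hb, mul_comm]
    set α := (a : ℤ) • χ - (b : ℤ) • ψ with hαdef
    obtain ⟨hz, hα1⟩ := Coherence.mem_zspanOn_iff.mp hα
    obtain ⟨hαg, hαK⟩ := SibleyTI.zspan_props M K hC hz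
    have hαA : ∀ y : M, (y : G) ∉ setA M → α y = 0 := by
      intro y hy
      rcases eq_or_ne y 1 with rfl | hy1
      · exact hα1
      · exact hαK y fun hK => hy ((hA y).mpr ⟨hK, hy1⟩)
    have h1 : classInner (τ α) ν = classInner α (fun y : M => ν (y : G)) :=
      dade_adjoint hD (isClassFunction_of_isGeneralized hαg) hαA hNu.classFunction havg
    have h2 : classInner (τ α) ν = (s : ℂ) * classInner α ζ := by
      have h3 := hτ₁.2.2.1 α hz ζ hζz
      rw [hτ α hα, hεν, classInner_smul_right, map_intCast] at h3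
      rw [← h3, ← mul_assoc, hss, one_mul]
    have h4 : classInner α f = 0 := by
      rw [hfdef, show (fun y : M => ν (y : G) - (s : ℂ) * ζ y) =
        (fun y : M => ν (y : G)) - (s : ℂ) • ζ from rfl, classInner_sub_right, ← h1, h2,
        classInner_smul_right, map_intCast, sub_self]
    have h5 : classInner f α = 0 := by rw [← classInner_conj_symm, h4, map_zero]
    rw [hαdef, classInner_sub_right, ← Int.cast_smul_eq_zsmul ℂ, ← Int.cast_smul_eq_zsmul ℂ,
      classInner_smul_right, classInner_smul_right] at h5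
    simp only [Int.cast_natCast, map_natCast] at h5
    rw [ha, hb]
    exact sub_eq_zero.mp h5
  -- its constant value is an integer
  obtain ⟨x₀, hx₀⟩ : ∃ x₀ : M, (x₀ : G) = x := ⟨⟨x, OddLocal.piCoreOf_le _ M hxK⟩, rfl⟩
  have hx₀K : x₀ ∈ K := (h.mem_kernel_iff hM x₀).mpr (hx₀.symm ▸ hxK)
  have hx₀1 : x₀ ≠ 1 := fun e' => hp.ne_one (by
    rw [← hxo, ← hx₀, e', OneMemClass.coe_one, orderOf_one])
  have hconst : ∀ y ∈ K, y ≠ 1 → f y = f x₀ := fun y hy hy1 =>
    const_of_orth hfc horth hy hy1 hx₀K hx₀1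
  letI : Fintype (⊥ : Subgroup K) := Fintype.ofFinite _
  obtain ⟨c, hc⟩ := exists_int_const (H := K) (N := ⊥) (f := fun y : K => f y)
    (isGeneralized_restrict K hfg) θ (fun n hn => by rw [Subgroup.mem_bot.mp hn, map_one])
    (fun e' => hθw (by rw [e']; rfl)) (c := f x₀) (fun y hy => by
      have hy1 : y ≠ 1 := fun e' => hy (e' ▸ Subgroup.one_mem _)
      rw [Fintype.sum_subsingleton _ (1 : (⊥ : Subgroup K)), Subgroup.card_bot, Nat.cast_one,
        one_mul, OneMemClass.coe_one, mul_one]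
      exact hconst _ y.2 fun e' => hy1 (Subtype.ext e'))
  have hν_eq : ∀ y ∈ K, y ≠ 1 → ν (y : G) = (s : ℂ) * ζ y + c := fun y hy hy1 => by
    rw [← hc, ← hconst y hy hy1, hfdef]; ring
  -- the sums over the kernel
  have hsumK : ∀ F : M → ℂ, (∀ y, y ∉ K → F y = 0) →
      ∑ y ∈ Finset.univ.filter (fun y => y ∈ K ∧ y ≠ 1), F y = (∑ y : M, F y) - F 1 := by
    intro F hF
    rw [eq_sub_iff_add_eq, Finset.sum_filter, ← Fintype.sum_ite_eq' (1 : M) F,
      ← Finset.sum_add_distrib]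
    refine Finset.sum_congr rfl fun y _ => ?_
    by_cases hy1 : y = 1
    · subst hy1; simp
    · rw [if_neg hy1, add_zero]
      by_cases hy : y ∈ K
      · rw [if_pos ⟨hy, hy1⟩]
      · rw [if_neg fun h2 => hy h2.1, hF y hy]
  have hcardM : Nat.card M = e * k := by
    rw [← hKe, ← hKk, mul_comm, K.card_mul_index]
  have hz1 : ∑ y : M, ζ y = 0 := by
    have h1 := classInner_irr_ne hζi isIrrCharacter_one fun e' => by
      obtain ⟨g, -, hg⟩ := SetLike.exists_of_lt (lt_top_iff_ne_top.mpr hKtop)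
      have h2 := congrFun e' g
      rw [hζdef, indFun_notMem_of_normal K lam hg] at h2
      exact zero_ne_one h2
    rw [classInner, mul_eq_zero] at h1
    simpa using h1.resolve_left (inv_ne_zero (Nat.cast_ne_zero.mpr Nat.card_pos.ne'))
  have hz2 : ∑ y : M, ζ y * conj (ζ y) = (Nat.card M : ℂ) := by
    have h1 := classInner_irr_self hζi
    rw [classInner, inv_mul_eq_iff_eq_mul₀ (Nat.cast_ne_zero.mpr Nat.card_pos.ne'), mul_one] at h1
    exact h1
  set T := Finset.univ.filter fun y : M => y ∈ K ∧ y ≠ 1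
  have hTcard : ∑ y ∈ T, (1 : ℂ) = (k : ℂ) - 1 := by
    rw [Finset.sum_congr rfl (g := fun y : M => if y ∈ K then (1 : ℂ) else 0) fun y hy => by
      rw [if_pos (Finset.mem_filter.mp hy).2.1], hsumK _ fun y hy => if_neg hy, if_pos K.one_mem,
      ← Finset.sum_filter, Finset.sum_const, nsmul_eq_mul, mul_one, ← hKk, Nat.card_eq_fintype_card,
      Fintype.card_subtype]
  have hval : ∑ y ∈ T, (‖ν (y : G)‖ : ℂ) ^ 2 =
      ((e * k : ℕ) : ℂ) - (e : ℂ) ^ 2 - 2 * (s : ℂ) * c * e + (c : ℂ) ^ 2 * ((k : ℂ) - 1) := by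
    have hterm : ∀ y ∈ T, (‖ν (y : G)‖ : ℂ) ^ 2 = ζ y * conj (ζ y) +
        (s : ℂ) * c * ζ y + (s : ℂ) * c * conj (ζ y) + (c : ℂ) ^ 2 * 1 := by
      intro y hy
      rw [← Complex.mul_conj', hν_eq y (Finset.mem_filter.mp hy).2.1 (Finset.mem_filter.mp hy).2.2]
      simp only [map_add, map_mul, map_intCast]
      linear_combination (ζ y * conj (ζ y)) * hss
    have hvanK : ∀ y, y ∉ K → ζ y = 0 := fun y hy => indFun_notMem_of_normal K lam hy
    rw [Finset.sum_congr rfl hterm, Finset.sum_add_distrib, Finset.sum_add_distrib,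
      Finset.sum_add_distrib, ← Finset.mul_sum, ← Finset.mul_sum, ← Finset.mul_sum, hTcard,
      hsumK _ hvanK, hsumK _ fun y hy => by rw [hvanK y hy, zero_mul],
      hsumK _ fun y hy => by rw [hvanK y hy, map_zero], hz1, hz2, ← map_sum, hz1, map_zero, hζ1,
      map_natCast, hcardM]
    push_cast
    ring
  have hsum : (∑ y ∈ T, ‖ν (y : G)‖ ^ 2 : ℝ) =
      (e : ℝ) * k - (e : ℝ) ^ 2 - 2 * (s : ℝ) * c * e + (c : ℝ) ^ 2 * ((k : ℝ) - 1) := by
    apply Complex.ofReal_injective
    push_cast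
    rw [hval]
    push_cast
    ring
  -- the norm inequality
  have hN1 := Cfsg.Agent.S1525.result (setA M) M (supportR M) hD ν hNu.classFunction
    (fun y : M => ν (y : G)) havg
  have hset : {g : G | ∃ a ∈ setA M, ∃ u ∈ supportR M a, ∃ y : G, y * g * y⁻¹ = a * u} =
      tildeOf M ((sigmaCore M : Set G) \ {1}) := by
    ext g
    have hiff : ∀ a, a ∈ setA M ↔ a ∈ (sigmaCore M : Set G) \ {1} := fun a => by
      constructor
      · intro ha
        obtain ⟨haK, ha1⟩ := (hA ⟨a, setA_subset M ha⟩).mp ha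
        exact ⟨(h.mem_kernel_iff hM _).mp haK, fun e' => ha1 (Subtype.ext e')⟩
      · intro ha
        exact (hA ⟨a, OddLocal.piCoreOf_le _ M ha.1⟩).mpr
          ⟨(h.mem_kernel_iff hM _).mpr ha.1, fun e' => ha.2 (congrArg Subtype.val e')⟩
    constructor
    · rintro ⟨a, ha, u, hu, y, hy⟩
      exact ⟨a, (hiff a).mp ha, u, hu, y⁻¹, by rw [← hy]; group⟩
    · rintro ⟨a, ha, u, hu, y, hy⟩
      exact ⟨a, (hiff a).mpr ha, u, hu, y⁻¹, by rw [hy]; group⟩
  have hTset : ({a : M | (a : G) ∈ setA M} : Set M).toFinset = T := by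
    ext y; simp [T, hA]
  rw [hset, finsum_mem_eq_toFinset_sum, hTset, hsum, hcardM] at hN1
  have hle : (Nat.card G : ℝ)⁻¹ * ∑ᶠ g ∈ tildeOf M ((sigmaCore M : Set G) \ {1}), ‖ν g‖ ^ 2 ≤ 1 := by
    refine le_trans ?_ (le_of_eq (classInner_irr_re hν))
    have := norm_two_sets (Set.disjoint_empty (tildeOf M ((sigmaCore M : Set G) \ {1}))) ν
    simpa using this
  have hepos : 0 < e := hKe ▸ Nat.pos_of_ne_zero Subgroup.index_ne_zero_of_finite
  have hkpos : 0 < k := Nat.card_pos
  have heR : (0 : ℝ) < e := by exact_mod_cast hepos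
  have hkR : (0 : ℝ) < k := by exact_mod_cast hkpos
  have hc0 : c = 0 := by
    by_contra hc0
    have h1 := hN1.trans hle
    rw [Nat.cast_mul, inv_mul_le_iff₀ (by positivity), mul_one] at h1
    have hc1 : (1 : ℝ) ≤ |(c : ℝ)| := by exact_mod_cast Int.one_le_abs hc0
    have hbigR : ((e : ℝ) + 1) ^ 2 < k := by exact_mod_cast hbig
    have hsc : (s : ℝ) * c ≤ |(c : ℝ)| := by
      rcases hs with rfl | rfl
      · simpa using le_abs_self (c : ℝ)
      · simpa using neg_le_abs (c : ℝ)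
    have hk1 : 0 ≤ (k : ℝ) - 1 := by nlinarith [sq_nonneg (e : ℝ)]
    have h4 : |(c : ℝ)| * ((k : ℝ) - 1) ≤ (c : ℝ) ^ 2 * ((k : ℝ) - 1) := by
      rw [← sq_abs]; exact mul_le_mul_of_nonneg_right (by nlinarith) hk1
    have h2 : (c : ℝ) ^ 2 * ((k : ℝ) - 1) ≤ (e : ℝ) ^ 2 + 2 * |(c : ℝ)| * e := by
      nlinarith [mul_le_mul_of_nonneg_right hsc heR.le]
    have h5 : |(c : ℝ)| * ((k : ℝ) - 1 - 2 * e) ≤ (e : ℝ) ^ 2 := by linarith
    have h6 : (k : ℝ) - 1 - 2 * e ≤ |(c : ℝ)| * ((k : ℝ) - 1 - 2 * e) :=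
      le_mul_of_one_le_left (by nlinarith) hc1
    nlinarith
  refine ⟨ν, s, hNu, hs, ?_, ?_⟩
  · rw [← hx₀, hν_eq x₀ hx₀K hx₀1, hc0, Int.cast_zero, add_zero, Int.cast_mul, Int.cast_natCast,
      ← hζ1, ← mul_sub]
    haveI := Fact.mk hp
    have h1 : x₀ ^ p = 1 := Subtype.ext (by
      rw [SubmonoidClass.coe_pow, hx₀, OneMemClass.coe_one, ← hxo, pow_orderOf_eq_one])
    have h2 := dvdRoot_value (isGeneralized_of_isIrr hζi) h1 (Commute.one_right x₀).eq
    rw [mul_one] at h2
    exact h2.mul_left isIntegral_algebraMap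
  · rw [hc0] at hN1
    refine le_trans (le_of_eq ?_) hN1
    push_cast
    field_simp
    ring

end AllI

end CfsgLib.Peterfalvi
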