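import Cfsg.Agent.Lib.OddLocal.TameSets
import Cfsg.Agent.Lib.OddLocal.TypeP
import Cfsg.Agent.Lib.Peterfalvi.TypeSets

/-!
For every maximal subgroup `M` the set `A₀(M)` is tamely embedded, and `M_s = M_σ`.
-/

set_option autoImplicit false
set_option linter.style.haveILetI false
set_option linter.unusedSectionVars false

open scoped Pointwise

namespace CfsgLib.Peterfalvi

open Cfsg
open CfsgLib.OddLocal (tameSet zHat isTypePWith_U)
open CfsgLib.BG.FixedLine (conj_mem_of_le_normalizer)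

universe u

variable {G : Type u} [Group G] [Finite G] {M K U : Subgroup G}

theorem not_typeI_of_kappa (hG : IsMinSimpleOddOrder G) (hM : IsCoatom M)
    (hKU : IsSigmaDecomposition M K U) (hK1 : K ≠ ⊥) : ¬ IsOfTypeI M := by
  obtain ⟨V, hP⟩ := OddLocal.exists_typeP_compl hG hM hKU hK1
  exact not_typeI_of_typeP hP

theorem kappa_empty_of_typeI (hG : IsMinSimpleOddOrder G) (hM : IsCoatom M) (hI : IsOfTypeI M) :
    kappa M = ∅ := by
  obtain ⟨K, U, hKU⟩ := OddLocal.exists_sigmaDecomposition hG hM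
  have hK : K = ⊥ := by_contra fun h => not_typeI_of_kappa hG hM hKU h hI
  exact Set.eq_empty_iff_forall_notMem.2 (OddLocal.kappa_empty_of_bot hG hM (hK ▸ hKU))

/-- `M_s = M_σ`. -/
theorem typeCore_eq_sigmaCore (hG : IsMinSimpleOddOrder G) (hM : IsCoatom M) : typeCore M = sigmaCore M := by
  obtain ⟨K, U, hKU⟩ := OddLocal.exists_sigmaDecomposition hG hM
  rw [typeCore]
  split_ifs with h
  · obtain ⟨hK1, hU, -⟩ := (OddLocal.typeIII_or_IV_iff hG hM hKU).1 h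
    exact OddLocal.derived_eq_core hG hM hKU hK1 hU
  · by_cases hK1 : K = ⊥
    · exact OddLocal.fittingHallOf_eq_sigmaCore hG hM (OddLocal.nilpotent_of_kappa_empty hG hM
        (Set.eq_empty_iff_forall_notMem.2 (OddLocal.kappa_empty_of_bot hG hM (hK1 ▸ hKU))))
    · rcases OddLocal.type_cases hG hM hKU hK1 with ⟨hU, -⟩ | ⟨-, -, h'⟩ | ⟨-, hF, -⟩
      · exact OddLocal.fittingHallOf_eq_sigmaCore hG hM
          ((OddLocal.kappaData_of_decomposition hG hM hKU hK1).U_action hU).2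
      · exact absurd h' h
      · exact hF

/-- Up to conjugacy in `M` there is one choice of `W₁` and `W₂`. -/
theorem exists_conj_W (hG : IsMinSimpleOddOrder G) (hM : IsCoatom M) (hKU : IsSigmaDecomposition M K U)
    {W₁ V W₂ : Subgroup G} (hP : IsTypePWith M W₁ V W₂) :
    ∃ m ∈ M, MulAut.conj m • W₁ = K ∧
      MulAut.conj m • W₂ = sigmaCore M ⊓ Subgroup.centralizer (K : Set G) := by
  have hK1 := OddLocal.kappa_ne_bot_of_typeP hG hM hKU hP
  obtain ⟨hc, -⟩ := OddLocal.derived_compl hG hM hKU hK1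
  have hcard : Nat.card W₁ = Nat.card K := by
    rw [← OddLocal.relIndex_left_of_isComplIn hP.W₁_compl, OddLocal.relIndex_left_of_isComplIn hc]
  haveI := OddLocal.isSolvable_of_ne_top hG hM.1
  obtain ⟨m, hm, hmK⟩ := OddLocal.exists_conj_le_hallOf hKU.hall hP.W₁_compl.2.1 fun l hl hd =>
    hKU.hall.2.1 l hl (hcard ▸ hd)
  have he : MulAut.conj m • W₁ = K := Subgroup.eq_of_le_of_card_ge hmK (by
    rw [Coprime.card_conj_smul, hcard])
  refine ⟨m, hm, he, ?_⟩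
  obtain ⟨⟨x, hx⟩, hx1⟩ := (Subgroup.ne_bot_iff_exists_ne_one).1 hP.W₁_ne
  have hx1' : x ≠ 1 := fun e => hx1 (Subtype.ext e)
  have hxK : m * x * m⁻¹ ∈ K := he ▸ OddLocal.mem_sigmaCore_conj_iff.2 hx
  rw [← OddLocal.derived_inf_centralizer hG hM hKU hK1 hxK (fun e => hx1' (conj_eq_one_iff.1 e)),
    ← hP.W₂_centralizer x hx hx1', Subgroup.smul_inf,
    Coprime.conj_smul_eq_self_of_mem_normalizer (le_normalizer_derived M hm), OddLocal.conj_centralizer_elem]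

theorem typeA_subset_sigmaA (hG : IsMinSimpleOddOrder G) (hM : IsCoatom M)
    (hKU : IsSigmaDecomposition M K U) : typeA M ⊆ sigmaA M U \ {1} := by
  have hUM : ∀ a ∈ M, K = ⊥ → a ∈ U ⊔ sigmaCore M := fun a ha hK =>
    OddLocal.mem_UM_of_primes hG hM hKU ha fun l _ _ hl =>
      OddLocal.kappa_empty_of_bot hG hM (hK ▸ hKU) l hl
  intro a ha
  rw [typeA] at ha
  split_ifs at ha with hI
  · obtain ⟨haM, ha1, y, hy, hy1, hay⟩ := ha
    exact ⟨⟨⟨haM, y, OddLocal.fittingHallOf_le_sigmaCore hG hM hy, hy1, hay⟩,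
      hUM a haM (by_contra fun h => not_typeI_of_kappa hG hM hKU h hI)⟩, ha1⟩
  · obtain ⟨haD, ha1, y, hy, hy1, hay⟩ := ha
    have haM : a ∈ M := Subgroup.commutator_le_self M haD
    rw [typeCore_eq_sigmaCore hG hM] at hy
    refine ⟨⟨⟨haM, y, hy, hy1, hay⟩, ?_⟩, ha1⟩
    by_cases hK1 : K = ⊥
    · exact hUM a haM hK1
    · rwa [OddLocal.derived_eq hG hM hKU hK1] at haD

theorem typeA0_subset_tameSet (hG : IsMinSimpleOddOrder G) (hM : IsCoatom M)
    (hKU : IsSigmaDecomposition M K U) : typeA0 M ⊆ tameSet M K U := by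
  rintro v (hv | ⟨-, W₁, V, W₂, hP, n, hn, w, hw, hw1, hw2, rfl⟩)
  · exact Or.inl (typeA_subset_sigmaA hG hM hKU hv)
  obtain ⟨m, hm, h1, h2⟩ := exists_conj_W hG hM hKU hP
  refine Or.inr ⟨n * m⁻¹, M.mul_mem hn (M.inv_mem hm), m * w * m⁻¹, OddLocal.mem_zHat.2 ⟨?_, fun e => hw1 ?_,
    fun e => hw2 ?_⟩, by group⟩
  · rw [← h2, ← h1, ← Subgroup.smul_sup]
    exact OddLocal.mem_sigmaCore_conj_iff.2 hw
  · exact OddLocal.mem_sigmaCore_conj_iff.1 (h1 ▸ e)
  · exact OddLocal.mem_sigmaCore_conj_iff.1 (h2 ▸ e)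

/-- BG 16, Theorem II for `A₀(M)`. -/
theorem tame_typeA0 (hG : IsMinSimpleOddOrder G) (hM : IsCoatom M) : Tame M (typeA0 M) := by
  obtain ⟨K, U, hKU⟩ := OddLocal.exists_sigmaDecomposition hG hM
  have hsub := typeA0_subset_tameSet hG hM hKU
  have key : ∀ x ∈ typeA0 M, ¬ Subgroup.centralizer ({x} : Set G) ≤ M → ∃ N : Subgroup G,
      OddLocal.Support M N x := fun x hx h => (OddLocal.tameSet_escape hG hM hKU (hsub hx) h).2.2
  refine ⟨fun x hx g hg => OddLocal.tameSet_fusion hG hM hKU (hsub hx) (hsub hg), fun x hx h => ?_,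
    fun x hx h L hL hle => ?_, fun x hx h L hL hle y hy => ?_⟩
  · obtain ⟨hxσ, hx1, N, hN⟩ := OddLocal.tameSet_escape hG hM hKU (hsub hx) h
    exact ⟨⟨(typeCore_eq_sigmaCore hG hM).symm ▸ hxσ, hx1⟩, N, ⟨hN.hN, hN.hle⟩,
      fun L hL => hN.uniq L hL.1 hL.2⟩
  · obtain ⟨N, hN⟩ := key x hx h
    obtain rfl := hN.uniq L hL hle
    rw [hN.fittingHall_eq]
    obtain ⟨h1, h2, h3, h4⟩ := hN.centralizer_compl
    refine ⟨h2, h1, by rwa [inf_comm], fun w hw => ?_⟩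
    obtain ⟨a, ha, b, hb, he⟩ := h4 w⁻¹ (inv_mem hw)
    exact ⟨b⁻¹, inv_mem hb, a⁻¹, inv_mem ha, by rw [← mul_inv_rev, ← he, inv_inv]⟩
  · obtain ⟨N, hN⟩ := key x hx h
    obtain rfl := hN.uniq L hL hle
    rw [hN.fittingHall_eq]
    exact OddLocal.tameSet_coprime hG hM hKU hN (hsub hy)

theorem tame_typeA (hG : IsMinSimpleOddOrder G) (hM : IsCoatom M) : Tame M (typeA M) := by
  have h := tame_typeA0 hG hM
  have hs := typeA_subset_typeA0 M
  exact ⟨fun x hx g hg => h.fusion x (hs hx) g (hs hg), fun x hx => h.escape x (hs hx),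
    fun x hx => h.compl x (hs hx), fun x hx hC L hL hle y hy => h.coprime x (hs hx) hC L hL hle y (hs hy)⟩

theorem typeA1_subset_typeA' (hG : IsMinSimpleOddOrder G) (hM : IsCoatom M) : typeA1 M ⊆ typeA M := by
  obtain ⟨K, U, hKU⟩ := OddLocal.exists_sigmaDecomposition hG hM
  rintro x ⟨hx, hx1⟩
  have hx1' : x ≠ 1 := hx1
  by_cases hI : IsOfTypeI M
  · rw [typeA, if_pos hI]
    rw [typeCore_of_typeI hI] at hx
    exact ⟨fittingHallOf_le M hx, hx1', x, hx, hx1', rfl⟩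
  · rw [typeA, if_neg hI]
    exact ⟨OddLocal.sigmaCore_le_derived hG hM ((typeCore_eq_sigmaCore hG hM) ▸ hx), hx1', x, hx, hx1', rfl⟩

theorem typeA1_nonempty' (hG : IsMinSimpleOddOrder G) (hM : IsCoatom M) : (typeA1 M).Nonempty := by
  obtain ⟨⟨x, hx⟩, hx1⟩ := (Subgroup.ne_bot_iff_exists_ne_one).1 (OddLocal.sigmaCore_ne_bot hG hM)
  exact ⟨x, (typeCore_eq_sigmaCore hG hM).symm ▸ hx, fun e => hx1 (Subtype.ext e)⟩

end CfsgLib.Peterfalvi
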