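import Cfsg.Agent.Lib.Peterfalvi.WeakTypeI
import Cfsg.Agent.Lib.OddLocal.SupportFrobenius

/-!
BG, Theorems I and II, from the assumption that the maximal subgroups with `κ(M)` empty are
of type I.
-/

set_option autoImplicit false
set_option linter.style.haveILetI false
set_option linter.unusedSectionVars false

open scoped Pointwise

namespace CfsgLib.Peterfalvi

open Cfsg

universe u

variable {G : Type u} [Group G] [Finite G] {M K U L : Subgroup G} {x : G}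

/-- A complement acting freely makes `M` a Frobenius group with kernel `M_σ`. -/
theorem frobenius_of_free (hG : IsMinSimpleOddOrder G) (hM : IsCoatom M) {E : Subgroup G}
    (hE : IsComplIn E (sigmaCore M) M)
    (hfree : ∀ e ∈ E, e ≠ 1 → sigmaCore M ⊓ Subgroup.centralizer ({e} : Set G) = ⊥) :
    ∀ y ∈ sigmaCore M, y ≠ 1 → M ⊓ Subgroup.centralizer ({y} : Set G) ≤ sigmaCore M := by
  intro y hy hy1 w hw
  refine OddLocal.mem_sigmaCore_of_primary hG hM hw.1 fun r hr hd => ?_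
  by_contra hrσ
  obtain ⟨b, hb, hbo⟩ := OddLocal.exists_order_of_dvd hr (by rwa [Nat.card_zpowers] : r ∣ Nat.card (Subgroup.zpowers w))
  have hbM : b ∈ M := Subgroup.zpowers_le.2 hw.1 hb
  have hby : Commute b y := OddLocal.commute_zpowers
    (show Commute w y from Subgroup.mem_centralizer_singleton_iff.1 hw.2) hb (Subgroup.mem_zpowers y)
  obtain ⟨m, hm, hmE⟩ := OddLocal.exists_conj_le_compl hG hM hE (Subgroup.zpowers_le.2 hbM) fun l hl hd => by
    rw [Nat.card_zpowers, hbo] at hd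
    exact (Nat.prime_dvd_prime_iff_eq hl hr).1 hd ▸ hrσ
  have hbE : m * b * m⁻¹ ∈ E := hmE (OddLocal.mem_sigmaCore_conj_iff.2 (Subgroup.mem_zpowers b))
  have h1 : m * y * m⁻¹ ∈ sigmaCore M ⊓ Subgroup.centralizer ({m * b * m⁻¹} : Set G) :=
    ⟨CfsgLib.BG.FixedLine.conj_mem_of_le_normalizer (OddLocal.le_normalizer_piCoreOf _ M hm) y hy,
      Subgroup.mem_centralizer_singleton_iff.2 (by simp only [conj_mul, hby.eq])⟩
  rw [hfree _ hbE fun e => hr.ne_one (by rw [← hbo, conj_eq_one_iff.1 e, orderOf_one]), Subgroup.mem_bot] at h1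
  exact hy1 (conj_eq_one_iff.1 h1)

/-- A maximal subgroup supported by one of type P is of type I. -/
theorem typeI_of_kappa_support (hG : IsMinSimpleOddOrder G) (hM : IsCoatom M) (hx : x ∈ sigmaCore M)
    (hx1 : x ≠ 1) (hxM : ¬ Subgroup.centralizer ({x} : Set G) ≤ M) (hL : IsCoatom L)
    (hxL : Subgroup.centralizer ({x} : Set G) ≤ L) (hκ : (kappa L).Nonempty) : IsOfTypeI M := by
  obtain ⟨hκM, E, hE, -, -, hfree⟩ := OddLocal.frobenius_of_kappa_support hG hM hx hx1 hxM hL hxL hκ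
  refine typeI_of_weak_of_frobenius (weakTypeI_of_kappa hG hM hκM) ?_
  rw [fittingHallOf_eq_of_kappa hG hM hκM]
  exact frobenius_of_free hG hM hE hfree

theorem typeI_iff_of (hI : ∀ M : Subgroup G, IsCoatom M → kappa M = ∅ → IsOfTypeI M)
    (hG : IsMinSimpleOddOrder G) (hM : IsCoatom M) (hKU : IsSigmaDecomposition M K U) :
    IsOfTypeI M ↔ (K = ⊥ ∧ U ≠ ⊥) := by
  refine ⟨fun h => ?_, fun h => hI M hM (Set.eq_empty_iff_forall_notMem.2
    (OddLocal.kappa_empty_of_bot hG hM (h.1 ▸ hKU)))⟩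
  have hK : K = ⊥ := by_contra fun hK1 => not_typeI_of_kappa hG hM hKU hK1 h
  refine ⟨hK, fun hU => ?_⟩
  have hlt : sigmaCore M < M :=
    lt_of_le_of_lt (OddLocal.sigmaCore_le_derived hG hM) (OddLocal.derived_lt hG hM)
  refine hlt.ne (le_antisymm hlt.le fun m hm => ?_)
  have := OddLocal.mem_UM_of_primes hG hM hKU hm fun l _ _ hl =>
    OddLocal.kappa_empty_of_bot hG hM (hK ▸ hKU) l hl
  rwa [hU, bot_sup_eq] at this

/-- BG, Theorem I. -/
theorem structure_of (hI : ∀ M : Subgroup G, IsCoatom M → kappa M = ∅ → IsOfTypeI M)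
    (hG : IsMinSimpleOddOrder G) :
    (∀ M : Subgroup G, IsCoatom M → IsOfTypeI M) ∨
      ∃ W₁ W₂ S T : Subgroup G, IsSelfNormalizingCyclic W₁ W₂ ∧ IsCoatom S ∧ IsCoatom T ∧
        IsComplIn ⁅S, S⁆ W₁ S ∧ IsComplIn ⁅T, T⁆ W₂ T ∧ S ⊓ T = W₁ ⊔ W₂ ∧
        (IsOfTypeII S ∨ IsOfTypeII T) ∧
        (IsOfTypeII S ∨ IsOfTypeIII S ∨ IsOfTypeIV S ∨ IsOfTypeV S) ∧
        (IsOfTypeII T ∨ IsOfTypeIII T ∨ IsOfTypeIV T ∨ IsOfTypeV T) ∧
        ∀ M : Subgroup G, IsCoatom M → IsOfTypeI M ∨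
          ∃ g : G, M = S.map (MulAut.conj g).toMonoidHom ∨ M = T.map (MulAut.conj g).toMonoidHom := by
  by_cases hall : ∀ M : Subgroup G, IsCoatom M → kappa M = ∅
  · exact Or.inl fun M hM => hI M hM (hall M hM)
  push Not at hall
  obtain ⟨S, hS, hne⟩ := hall
  obtain ⟨K, U, hKU⟩ := OddLocal.exists_sigmaDecomposition hG hS
  obtain ⟨l, hl⟩ := hne
  have hK1 : K ≠ ⊥ := fun e => OddLocal.kappa_empty_of_bot hG hS (e ▸ hKU) l hl
  obtain ⟨T, Es, Us, hp⟩ := OddLocal.exists_kappa_partner hG hS hKU hK1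
  have hT := hp.pdata.hM
  obtain ⟨U', hTU⟩ := OddLocal.exists_decomposition hG hT hp.pdata.hall
  have hT1 := hp.data.fixed_ne
  have hcases : ∀ {A B C : Subgroup G}, IsCoatom A → IsSigmaDecomposition A B C → B ≠ ⊥ →
      (IsOfTypeII A ∨ IsOfTypeIII A ∨ IsOfTypeIV A ∨ IsOfTypeV A) := fun hA hd hB => by
    rcases OddLocal.type_cases hG hA hd hB with ⟨-, h⟩ | ⟨-, -, h⟩ | ⟨-, -, h⟩
    · exact Or.inl h
    · exact h.elim (fun h => Or.inr (Or.inl h)) fun h => Or.inr (Or.inr (Or.inl h))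
    · exact Or.inr (Or.inr (Or.inr h))
  refine Or.inr ⟨K, sigmaCore S ⊓ Subgroup.centralizer (K : Set G), S, T, OddLocal.selfNormalizing hG hS hKU hK1,
    hS, hT, (OddLocal.derived_compl hG hS hKU hK1).1, (OddLocal.derived_compl hG hT hTU hT1).1, hp.inf_eq, ?_,
    hcases hS hKU hK1, hcases hT hTU hT1, fun M hM => ?_⟩
  · refine hp.nonP1.imp (fun h => OddLocal.isTypeII_of hG hS hKU hK1 h) fun h =>
      OddLocal.isTypeII_of hG hT hTU hT1 fun e => h ?_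
    exact hp.pdata.U_eq_bot_iff.2 ((OddLocal.kappaData_of_decomposition hG hT hTU hT1).U_eq_bot_iff.1 e)
  · rcases (kappa M).eq_empty_or_nonempty with h | h
    · exact Or.inl (hI M hM h)
    · exact Or.inr (hp.classes hM h)

/-- BG, Theorem II. -/
theorem tame_embedding_of (hI : ∀ M : Subgroup G, IsCoatom M → kappa M = ∅ → IsOfTypeI M)
    (hG : IsMinSimpleOddOrder G) (hM : IsCoatom M) (X : Set G) (hX : X = typeA M ∨ X = typeA0 M) :
    (∀ x ∈ X, ∀ g : G, g * x * g⁻¹ ∈ X → ∃ m ∈ M, m * x * m⁻¹ = g * x * g⁻¹) ∧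
      (∀ x ∈ X, ¬ Subgroup.centralizer ({x} : Set G) ≤ M → x ∈ typeA1 M ∧
        ∃! L : Subgroup G, IsCoatom L ∧ Subgroup.centralizer ({x} : Set G) ≤ L) ∧
      ∀ x ∈ X, ¬ Subgroup.centralizer ({x} : Set G) ≤ M → ∀ L : Subgroup G, IsCoatom L →
        Subgroup.centralizer ({x} : Set G) ≤ L →
        IsComplIn (fittingHallOf L) (M ⊓ L) L ∧
        Subgroup.centralizer ({x} : Set G) ≤
          Subgroup.normalizer ((fittingHallOf L ⊓ Subgroup.centralizer ({x} : Set G) : Subgroup G) : Set G) ∧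
        IsComplIn (fittingHallOf L ⊓ Subgroup.centralizer ({x} : Set G)) (M ⊓ Subgroup.centralizer ({x} : Set G))
          (Subgroup.centralizer ({x} : Set G)) ∧
        (∀ y ∈ X, (Nat.card (fittingHallOf L)).Coprime (Nat.card ↥(M ⊓ Subgroup.centralizer ({y} : Set G)))) ∧
        (x ∈ typeA L ∧ x ∉ typeA1 L) ∧
        (IsOfTypeI L ∨ IsOfTypeII L) ∧
        (IsOfTypeII L → ∃ E : Subgroup ↥M, IsFrobeniusComplement E ∧
          frobeniusKernel E = ((fittingHall ↥M : Subgroup ↥M) : Set ↥M)) := by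
  have hT : Tame M X := hX.elim (fun h => h ▸ tame_typeA hG hM) fun h => h ▸ tame_typeA0 hG hM
  refine ⟨hT.fusion, hT.escape, fun x hx hC L hL hle => ?_⟩
  obtain ⟨hxA1, -⟩ := hT.escape x hx hC
  have hxσ : x ∈ sigmaCore M := typeCore_eq_sigmaCore hG hM ▸ hxA1.1
  have hx1 : x ≠ 1 := hxA1.2
  obtain ⟨N, hN⟩ := OddLocal.exists_support hG hM hxσ hx1 hC
  obtain rfl := hN.uniq L hL hle
  have hF := hN.fittingHall_eq
  obtain ⟨KL, UL, hLU⟩ := OddLocal.exists_sigmaDecomposition hG hL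
  have hxL : x ∉ sigmaCore L := fun h => hx1 (Subgroup.mem_bot.1
    (hN.inf_eq.le ⟨h, OddLocal.piCoreOf_le _ M hxσ⟩))
  have hxU : x ∈ UL ⊔ sigmaCore L := OddLocal.mem_UM_of_primes hG hL hLU hN.hxN fun l hl hd hκ =>
    (hN.tau2 l hl hd).2.2.2 (OddLocal.kappa_prankLE hκ)
  obtain ⟨⟨y, hy⟩, hy1⟩ := (Subgroup.ne_bot_iff_exists_ne_one).1 hN.fixed
  have hy1' : y ≠ 1 := fun e => hy1 (Subtype.ext e)
  have hxy : x * y = y * x := (Subgroup.mem_centralizer_singleton_iff.1 hy.2).symm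
  have hU1 : UL ≠ ⊥ := fun e => hxL (by rwa [e, bot_sup_eq] at hxU)
  have hII : KL ≠ ⊥ → IsOfTypeII L := fun h => OddLocal.isTypeII_of hG hL hLU h hU1
  have hIL : KL = ⊥ → IsOfTypeI L := fun h => (typeI_iff_of hI hG hL hLU).2 ⟨h, hU1⟩
  refine ⟨?_, by rw [hF]; exact hN.le_normalizer, hT.compl x hx hC L hL hle,
    hT.coprime x hx hC L hL hle, ⟨?_, fun h => hxL (typeCore_eq_sigmaCore hG hL ▸ h.1)⟩,
    (eq_or_ne KL ⊥).imp hIL hII, fun h => ?_⟩
  · obtain ⟨h1, h2, h3, h4⟩ := hN.compl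
    rw [hF]
    refine ⟨h2, h1, by rw [inf_comm]; exact h3, fun w hw => ?_⟩
    obtain ⟨a, ha, b, hb, he⟩ := h4 w⁻¹ (inv_mem hw)
    exact ⟨b⁻¹, inv_mem hb, a⁻¹, inv_mem ha, by rw [← mul_inv_rev, ← he, inv_inv]⟩
  · rcases eq_or_ne KL ⊥ with hK | hK
    · rw [typeA, if_pos (hIL hK)]
      exact ⟨hN.hxN, hx1, y, hF.ge hy.1, hy1', hxy⟩
    · rw [typeA, if_neg (not_typeI_of_kappa hG hL hLU hK), OddLocal.derived_eq hG hL hLU hK]
      exact ⟨hxU, hx1, y, (typeCore_eq_sigmaCore hG hL).ge hy.1, hy1', hxy⟩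
  · have hK1 := ((OddLocal.typeII_iff hG hL hLU).1 h).1
    have hne : (kappa L).Nonempty := by
      obtain ⟨l, hl, hd⟩ := Nat.exists_prime_and_dvd fun e : Nat.card KL = 1 => hK1 (Subgroup.card_eq_one.1 e)
      exact ⟨l, hLU.hall.2.1 l hl hd⟩
    obtain ⟨hκM, E, hE, hE1, -, hfree⟩ := OddLocal.frobenius_of_kappa_support hG hM hxσ hx1 hC hL hle hne
    exact ⟨_, OddLocal.frobeniusKernel_of_free hG hM hE hE1 (W := fittingHall M)
      (fittingHallOf_eq_of_kappa hG hM hκM) hfree⟩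

end CfsgLib.Peterfalvi
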