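import Cfsg.Agent.Lib.FrobCompl.Center
import Cfsg.Agent.Lib.Coprime.SchurZassenhaus
import Mathlib.GroupTheory.GroupAction.Quotient
import Mathlib.GroupTheory.PGroup

/-!
Small groups of odd order acting on a plane.
-/

set_option autoImplicit false
set_option linter.unusedSectionVars false
set_option linter.style.haveILetI false

namespace CfsgLib.Peterfalvi

open scoped Pointwise

variable {G : Type*} [Group G] [Finite G]

/-- Fixed points of an element of prime order on a subgroup it normalizes. -/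
theorem card_fixed_modEq {r : ℕ} (hr : r.Prime) {b : G} (hb : b ^ r = 1) {A : Subgroup G}
    (hA : b ∈ Subgroup.normalizer (A : Set G)) :
    Nat.card A ≡ Nat.card ↥(A ⊓ Subgroup.centralizer ({b} : Set G)) [MOD r] := by
  haveI := Fact.mk hr
  have hle : Subgroup.zpowers b ≤ Subgroup.normalizer (A : Set G) := Subgroup.zpowers_le.mpr hA
  letI : MulAction (Subgroup.zpowers b) A :=
    MulAction.compHom A ((Subgroup.normalizerMonoidHom A).comp (Subgroup.inclusion hle))
  have hP : IsPGroup r (Subgroup.zpowers b) := fun z => ⟨1, Subtype.ext (by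
    obtain ⟨i, hi⟩ := Subgroup.mem_zpowers_iff.mp z.2
    simp only [SubmonoidClass.coe_pow, pow_one, OneMemClass.coe_one, ← hi]
    rw [← zpow_natCast, ← zpow_mul, mul_comm, zpow_mul, zpow_natCast, hb, one_zpow])⟩
  have h := hP.card_modEq_card_fixedPoints A
  refine h.trans ?_
  rw [Nat.ModEq]
  refine congrArg (· % r) ?_
  have hsmul : ∀ (g : Subgroup.zpowers b) (a : A),
      ((g • a : A) : G) = (g : G) * a * (g : G)⁻¹ := fun g a => rfl
  refine Nat.card_congr
    { toFun := fun a => ⟨((a.1 : A) : G), (a.1 : A).2, ?_⟩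
      invFun := fun a => ⟨⟨(a : G), a.2.1⟩, fun g => Subtype.ext ?_⟩
      left_inv := fun a => rfl
      right_inv := fun a => rfl }
  · have := congrArg Subtype.val (a.2 ⟨b, Subgroup.mem_zpowers b⟩)
    rw [hsmul] at this
    exact Subgroup.mem_centralizer_singleton_iff.mpr (mul_inv_eq_iff_eq_mul.mp this).symm
  · obtain ⟨i, hi⟩ := Subgroup.mem_zpowers_iff.mp g.2
    have hc : Commute (a : G) b := Subgroup.mem_centralizer_singleton_iff.mp a.2.2
    rw [hsmul]
    show (g : G) * (a : G) * (g : G)⁻¹ = (a : G)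
    rw [← hi, ← (hc.zpow_right i).eq, mul_inv_cancel_right]

theorem card_ne_one_subtype {α : Type*} [One α] [Finite α] :
    Nat.card {a : α // a ≠ 1} = Nat.card α - 1 := by
  classical
  letI : Fintype α := Fintype.ofFinite α
  rw [Nat.card_eq_fintype_card, Nat.card_eq_fintype_card, Fintype.card_subtype_compl,
    Fintype.card_subtype_eq]

variable {p : ℕ} {A : Subgroup G}

theorem zpowers_card {z : G} (hp : p.Prime) (hzp : z ^ p = 1) (hz : z ≠ 1) :
    Nat.card (Subgroup.zpowers z) = p := by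
  haveI := Fact.mk hp
  rw [Nat.card_zpowers, orderOf_eq_prime hzp hz]

theorem zpowers_eq_of_mem {Z : Subgroup G} (hp : p.Prime) (hZ : Nat.card Z = p) {z : G}
    (hz : z ∈ Z) (hz1 : z ≠ 1) : Subgroup.zpowers z = Z := by
  refine Subgroup.eq_of_le_of_card_ge (Subgroup.zpowers_le.mpr hz) ?_
  have h1 : orderOf z ∣ p := hZ ▸ Subgroup.orderOf_dvd_natCard Z hz
  rcases (Nat.dvd_prime hp).mp h1 with h | h
  · exact absurd (orderOf_eq_one_iff.mp h) hz1
  · rw [hZ, Nat.card_zpowers, h]

/-- A group acting freely on the lines of a plane has order dividing `p + 1`. -/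
theorem card_dvd_of_free_lines (hp : p.Prime) (hcard : Nat.card A = p ^ 2)
    (hexp : ∀ a ∈ A, a ^ p = 1) {E : Subgroup G} (hEA : E ≤ Subgroup.normalizer (A : Set G))
    (hfree : ∀ g ∈ E, ∀ z ∈ A, z ≠ 1 → g * z * g⁻¹ ∈ Subgroup.zpowers z → g = 1) :
    Nat.card E ∣ p + 1 := by
  classical
  let Λ := {Z : Subgroup G // Z ≤ A ∧ Nat.card Z = p}
  have hΛ : Nat.card Λ = p + 1 := by
    let f : {a : A // a ≠ 1} → Λ := fun a =>
      ⟨Subgroup.zpowers ((a.1 : A) : G), Subgroup.zpowers_le.mpr (a.1 : A).2,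
        zpowers_card hp (hexp _ (a.1 : A).2) fun e => a.2 (Subtype.ext e)⟩
    have hfib : ∀ Z : Λ, Nat.card {a // f a = Z} = p - 1 := by
      intro Z
      rw [← Z.2.2, ← card_ne_one_subtype (α := (Z.1 : Subgroup G))]
      refine Nat.card_congr
        { toFun := fun a => ⟨⟨((a.1.1 : A) : G), ?_⟩, fun e => a.1.2 (Subtype.ext
            (show ((a.1.1 : A) : G) = 1 from congrArg Subtype.val e))⟩
          invFun := fun z => ⟨⟨⟨((z.1 : Z.1) : G), Z.2.1 z.1.2⟩, fun e => z.2 (Subtype.ext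
            (show ((z.1 : Z.1) : G) = 1 from congrArg Subtype.val e))⟩, Subtype.ext ?_⟩
          left_inv := fun a => rfl
          right_inv := fun z => rfl }
      · have := congrArg Subtype.val a.2
        simp only [f] at this
        rw [← this]; exact Subgroup.mem_zpowers _
      · exact zpowers_eq_of_mem hp Z.2.2 z.1.2 fun e => z.2 (Subtype.ext e)
    letI : Fintype Λ := Fintype.ofFinite Λ
    have h1 := Nat.card_congr (Equiv.sigmaFiberEquiv f)
    rw [Nat.card_sigma, Finset.sum_congr rfl fun Z _ => hfib Z, Finset.sum_const, smul_eq_mul,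
      card_ne_one_subtype, hcard, Finset.card_univ, ← Nat.card_eq_fintype_card] at h1
    have h2 : p ^ 2 - 1 = (p + 1) * (p - 1) := by
      have := Nat.sq_sub_sq p 1
      simpa using this
    rw [h2] at h1
    exact Nat.eq_of_mul_eq_mul_right (by have := hp.two_le; omega) h1
  letI : MulAction E Λ :=
    { smul := fun g Z => ⟨MulAut.conj (g : G) • Z.1, by
        intro x hx
        rw [Coprime.mem_conj_smul_iff] at hx
        have := (Subgroup.mem_normalizer_iff.mp (hEA g.2) _).mp (Z.2.1 hx)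
        simpa [mul_assoc] using this, by rw [Coprime.card_conj_smul, Z.2.2]⟩
      one_smul := fun Z => Subtype.ext (show MulAut.conj ((1 : E) : G) • Z.1 = Z.1 by simp)
      mul_smul := fun g h Z => Subtype.ext (show MulAut.conj ((g * h : E) : G) • Z.1 =
        MulAut.conj (g : G) • MulAut.conj (h : G) • Z.1 by rw [← mul_smul, ← map_mul]; rfl) }
  have hst : ∀ Z : Λ, MulAction.stabilizer E Z = ⊥ := by
    intro Z
    rw [Subgroup.eq_bot_iff_forall]
    intro g hg
    have h1 : MulAut.conj (g : G) • Z.1 = Z.1 := congrArg Subtype.val hg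
    obtain ⟨⟨z, hz⟩, hz1⟩ : ∃ z : Z.1, z ≠ 1 := by
      haveI : Nontrivial Z.1 := Finite.one_lt_card_iff_nontrivial.mp (Z.2.2.symm ▸ hp.one_lt)
      exact exists_ne 1
    have hz1' : z ≠ 1 := fun e => hz1 (Subtype.ext e)
    refine Subtype.ext (hfree g g.2 z (Z.2.1 hz) hz1' ?_)
    rw [zpowers_eq_of_mem hp Z.2.2 hz hz1', ← h1, Coprime.mem_conj_smul_iff]
    simpa [mul_assoc] using hz
  refine ⟨Nat.card (Quotient (MulAction.orbitRel E Λ)), ?_⟩
  rw [← hΛ, Nat.card_congr (MulAction.selfEquivOrbitsQuotientProd hst), Nat.card_prod, mul_comm]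

/-- A group of odd order acting without fixed points on a plane and normalizing no line through
some given point has order at most `(p + 1) / 2`. -/
theorem two_mul_card_le (hp : p.Prime) (hcard : Nat.card A = p ^ 2)
    (hexp : ∀ a ∈ A, a ^ p = 1) (hab : ∀ a ∈ A, ∀ b ∈ A, a * b = b * a) {E : Subgroup G}
    (hEA : E ≤ Subgroup.normalizer (A : Set G)) (hodd : Odd (Nat.card E))
    (hfpf : ∀ g ∈ E, g ≠ 1 → ∀ z ∈ A, g * z = z * g → z = 1) (hp2 : p ≠ 2) {x : G} (hx : x ∈ A)
    (hline : ∀ g ∈ E, g * x * g⁻¹ ∈ Subgroup.zpowers x → g = 1) :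
    2 * Nat.card E ≤ p + 1 := by
  classical
  have hpodd : Odd p := hp.odd_of_ne_two hp2
  suffices h : Nat.card E ∣ p + 1 ∨ Nat.card E ∣ p - 1 by
    obtain ⟨t, ht⟩ := hodd
    obtain ⟨s, hs⟩ := hpodd
    rcases h with ⟨k, hk⟩ | ⟨k, hk⟩
    · rcases k with _ | _ | k
      · omega
      · omega
      · have : Nat.card E * 2 ≤ Nat.card E * (k + 1 + 1) := Nat.mul_le_mul_left _ (by omega)
        omega
    · rcases k with _ | _ | k
      · have := hp.two_le; omega
      · omega
      · have : Nat.card E * 2 ≤ Nat.card E * (k + 1 + 1) := Nat.mul_le_mul_left _ (by omega)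
        omega
  rcases eq_or_ne (Nat.card E) 1 with he1 | he1
  · exact Or.inl (by rw [he1]; exact one_dvd _)
  by_cases hfree : ∀ g ∈ E, ∀ z ∈ A, z ≠ 1 → g * z * g⁻¹ ∈ Subgroup.zpowers z → g = 1
  · exact Or.inl (card_dvd_of_free_lines hp hcard hexp hEA hfree)
  refine Or.inr ?_
  push Not at hfree
  obtain ⟨y, hy, z, hz, hz1, hyz, hy1⟩ := hfree
  haveI : IsMulCommutative A := ⟨⟨fun a b => Subtype.ext (hab a a.2 b b.2)⟩⟩
  have hAne : A ≠ ⊥ := fun e => hz1 (Subgroup.mem_bot.mp (e ▸ hz))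
  have hEne : E ≠ ⊥ := fun e => he1 (e ▸ Subgroup.card_bot)
  have hcomm : ∀ {a b : G}, b ∈ Subgroup.centralizer ({a} : Set G) → a * b = b * a := fun h =>
    (Subgroup.mem_centralizer_singleton_iff.mp h).symm
  -- a central element of `E`
  obtain ⟨⟨c, hcC⟩, hc1⟩ := (Subgroup.ne_bot_iff_exists_ne_one).mp
    (FrobCompl.center_ne_bot (A := E) (V := A) hEne hAne hEA fun e he he1' =>
      (Subgroup.eq_bot_iff_forall _).mpr fun v hv => hfpf e he he1' v hv.1 (hcomm hv.2))
  have hc0 : (c : G) ≠ 1 := fun e => hc1 (Subtype.ext (Subtype.ext e))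
  have hcE : ∀ g ∈ E, (c : G) * g = g * c := fun g hg =>
    (congrArg Subtype.val (Subgroup.mem_center_iff.mp hcC ⟨g, hg⟩)).symm
  have hconj : ∀ {g v : G}, g ∈ E → v ∈ A → g * v * g⁻¹ ∈ A := fun hg hv =>
    (Subgroup.mem_normalizer_iff.mp (hEA hg) _).mp hv
  -- two independent eigenvectors with one eigenvalue make a scalar
  have key : ∀ {y g : G}, y ∈ E → y ≠ 1 → g ∈ E → y * g = g * y → ∀ {v : G}, v ∈ A → v ≠ 1 →
      y * v * y⁻¹ ∈ Subgroup.zpowers v → g * v * g⁻¹ ∈ Subgroup.zpowers v := by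
    intro y g hy hy1 hg hyg v hv hv1 hyv
    obtain ⟨i, hi⟩ := Subgroup.mem_zpowers_iff.mp hyv
    by_contra hnot
    set w := g * v * g⁻¹ with hw
    have hwA : w ∈ A := hconj hg hv
    have hyw : y * w * y⁻¹ = w ^ i := by
      rw [hw, conj_zpow, hi]
      calc y * (g * v * g⁻¹) * y⁻¹ = (y * g) * v * (y * g)⁻¹ := by group
        _ = (g * y) * v * (g * y)⁻¹ := by rw [hyg]
        _ = _ := by group
    set S : Subgroup G :=
      { carrier := {a | a ∈ A ∧ y * a * y⁻¹ = a ^ i}
        one_mem' := ⟨A.one_mem, by simp⟩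
        mul_mem' := fun {a b} ha hb => ⟨A.mul_mem ha.1 hb.1, by
          rw [(show Commute a b from hab a ha.1 b hb.1).mul_zpow, ← ha.2, ← hb.2]; group⟩
        inv_mem' := fun {a} ha => ⟨A.inv_mem ha.1, by rw [inv_zpow, ← ha.2]; group⟩ } with hS
    have hvS : v ∈ S := ⟨hv, hi.symm⟩
    have hwS : w ∈ S := ⟨hwA, hyw⟩
    have hSA : S ≤ A := fun a ha => ha.1
    have hd : Nat.card S ∣ p ^ 2 := hcard ▸ Subgroup.card_dvd_of_le hSA
    obtain ⟨k, hk, hSk⟩ := (Nat.dvd_prime_pow hp).mp hd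
    have hk2 : k = 2 := by
      by_contra hne
      rcases Nat.eq_zero_or_pos k with rfl | hk0
      · exact hv1 (Subgroup.mem_bot.mp ((Subgroup.eq_bot_of_card_eq S (by rw [hSk, pow_zero])) ▸ hvS))
      · obtain rfl : k = 1 := by omega
        exact hnot (zpowers_eq_of_mem hp (by rw [hSk, pow_one]) hvS hv1 ▸ hwS)
    have hx' : x ∈ S := Subgroup.eq_of_le_of_card_ge hSA (by rw [hSk, hk2, hcard]) ▸ hx
    exact hy1 (hline y hy (hx'.2 ▸ Subgroup.zpow_mem _ (Subgroup.mem_zpowers x) i))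
  -- `c` fixes the line of `z`, hence so does all of `E`
  have hcz := key hy hy1 (c : E).2 (hcE y hy).symm hz hz1 hyz
  have hall : ∀ g : E, (g : G) ∈ Subgroup.normalizer ((Subgroup.zpowers z : Subgroup G) : Set G) := by
    intro g
    have h1 := key (c : E).2 hc0 g.2 (hcE g g.2) hz hz1 hcz
    refine Subgroup.mem_normalizer_iff_map_conj_eq.mpr ?_
    rw [MonoidHom.map_zpowers]
    refine zpowers_eq_of_mem hp (zpowers_card hp (hexp z hz) hz1) h1 ?_
    exact fun e => hz1 (conj_eq_one_iff.mp e)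
  -- `E` embeds in the automorphisms of the line
  let φ : E →* MulAut (Subgroup.zpowers z) :=
    (Subgroup.normalizerMonoidHom (Subgroup.zpowers z)).comp
      (MonoidHom.codRestrict E.subtype _ hall)
  have hφ : Function.Injective φ := by
    rw [injective_iff_map_eq_one]
    intro g hg
    by_contra hg1
    refine hz1 (hfpf g g.2 (fun e => hg1 (Subtype.ext e)) z hz ?_)
    have h1 := congrArg Subtype.val (DFunLike.congr_fun hg ⟨z, Subgroup.mem_zpowers z⟩)
    have h2 : (g : G) * z * (g : G)⁻¹ = z := h1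
    rw [mul_inv_eq_iff_eq_mul] at h2
    exact h2
  have hdvd := Subgroup.card_dvd_of_injective φ hφ
  rwa [IsCyclic.card_mulAut, zpowers_card hp (hexp z hz) hz1, Nat.totient_prime hp] at hdvd

end CfsgLib.Peterfalvi
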