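import Cfsg.Agent.Lib.Peterfalvi.TypeSets
import Cfsg.Agent.Lib.OddLocal.Partition

/-!
The supports relation between non-conjugate maximal subgroups in the language of types.
-/

set_option autoImplicit false
set_option linter.style.haveILetI false
set_option linter.unusedSectionVars false

namespace CfsgLib.Peterfalvi

open Cfsg
open scoped Pointwise
open CfsgLib.OddLocal (not_sigma_of_not_conj sigma_of_orderOf sigma_dichotomy support_cases
  support_not_sigma eq_of_commute_decomp exists_sigma_part conj_mem_sigmaCore sigmaCore_conj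
  centralizer_conj exists_support)

variable {G : Type*} [Group G]

/-- What the local analysis supplies about types and tame embedding. -/
structure Local (G : Type*) [Group G] : Prop where
  cases : ∀ M : Subgroup G, IsCoatom M → TypeCases M
  core : ∀ M : Subgroup G, IsCoatom M → typeCore M = sigmaCore M
  kappa : ∀ M : Subgroup G, IsCoatom M → ∀ x ∈ typeA M, ∀ r : ℕ, r.Prime → r ∣ orderOf x →
    r ∉ kappa M
  escape : ∀ M : Subgroup G, IsCoatom M → ∀ x ∈ typeA0 M,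
    ¬ Subgroup.centralizer ({x} : Set G) ≤ M → x ∈ typeA1 M ∧
      ∀ L : Subgroup G, IsCoatom L → Subgroup.centralizer ({x} : Set G) ≤ L →
        x ∈ typeA L ∧ x ∉ typeA1 L ∧ ∀ y ∈ typeA0 M,
          (Nat.card (fittingHallOf L)).Coprime (Nat.card ↥(M ⊓ Subgroup.centralizer ({y} : Set G)))

variable [Finite G] (hG : IsMinSimpleOddOrder G) (hl : Local G)
include hG hl

theorem typeA1_mem_typeA0 {M : Subgroup G} (hM : IsCoatom M) {x : G} (hx : x ∈ typeA1 M) :
    x ∈ typeA0 M :=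
  typeA_subset_typeA0 M (typeA1_subset_typeA (hl.cases M hM) hx)

/-- An element of `A(M)` commutes with a non-identity element of `M_σ`. -/
theorem exists_commute_core {M : Subgroup G} (hM : IsCoatom M) {x : G} (hx : x ∈ typeA M) :
    x ∈ M ∧ x ≠ 1 ∧ ∃ y ∈ sigmaCore M, y ≠ 1 ∧ Commute x y := by
  rw [typeA] at hx
  split_ifs at hx with hI
  · obtain ⟨h1, h2, y, hy, hy1, hxy⟩ := hx
    rw [← typeCore_of_typeI hI, hl.core M hM] at hy
    exact ⟨h1, h2, y, hy, hy1, hxy⟩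
  · obtain ⟨h1, h2, y, hy, hy1, hxy⟩ := hx
    rw [hl.core M hM] at hy
    exact ⟨Subgroup.commutator_le_self M h1, h2, y, hy, hy1, hxy⟩

/-- A `σ(S)`-part lying in `A₁(S)` of an element of `A(T)` forces `T` to support `S`. -/
theorem centralizer_of_mem {S T : Subgroup G} (hS : IsCoatom S) (hT : IsCoatom T)
    (hne : ∀ g : G, T ≠ MulAut.conj g • S) {x : G} (hx : x ∈ typeA1 S) (hxT : x ∈ typeA T) :
    ¬ Subgroup.centralizer ({x} : Set G) ≤ S ∧ Subgroup.centralizer ({x} : Set G) ≤ T := by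
  obtain ⟨hxTm, hx1, y, hy, hy1, hxy⟩ := exists_commute_core hG hl hT hxT
  have hxS : x ∈ sigmaCore S := hl.core S hS ▸ hx.1
  have hσ : ∀ r : ℕ, r.Prime → r ∣ orderOf x → r ∉ sigma T := fun r hr hd h =>
    not_sigma_of_not_conj hG hS hT hne h (sigma_of_orderOf hxS hr hd)
  rcases sigma_dichotomy hG hT hy hy1 hxTm hxy hx1 hσ with ⟨hk, -⟩ | ⟨-, -, hle, hu⟩
  · obtain ⟨r, hr, hd⟩ := Nat.exists_prime_and_dvd fun e => hx1 (orderOf_eq_one_iff.1 e)
    exact absurd (hk r hr hd) (hl.kappa T hT x hxT r hr hd)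
  · exact ⟨fun h => hne 1 (by rw [map_one, one_smul, hu S hS h]), hle⟩

theorem conj_typeA1 {M : Subgroup G} (hM : IsCoatom M) {x : G} (g : G) (hx : x ∈ typeA1 M) :
    g * x * g⁻¹ ∈ typeA1 (MulAut.conj g • M) := by
  refine ⟨?_, conj_ne_one hx.2⟩
  show g * x * g⁻¹ ∈ typeCore (MulAut.conj g • M)
  rw [hl.core _ (OddLocal.isCoatom_conj hM g)]
  exact conj_mem_sigmaCore hG hM g (hl.core M hM ▸ hx.1)

theorem centralizer_le_conj {M : Subgroup G} {x : G} (g : G) :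
    Subgroup.centralizer ({g * x * g⁻¹} : Set G) ≤ MulAut.conj g • M ↔
      Subgroup.centralizer ({x} : Set G) ≤ M := by
  constructor
  · intro h c hc
    have h1 : g * c * g⁻¹ ∈ MulAut.conj g • M := h (by
      rw [Subgroup.mem_centralizer_singleton_iff] at hc ⊢
      simp only [conj_mul, hc])
    rw [Coprime.mem_conj_smul_iff] at h1
    rwa [show g⁻¹ * (g * c * g⁻¹) * g = c by group] at h1
  · intro h c hc
    rw [Coprime.mem_conj_smul_iff]
    refine h ?_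
    rw [Subgroup.mem_centralizer_singleton_iff] at hc ⊢
    calc g⁻¹ * c * g * x = g⁻¹ * (c * (g * x * g⁻¹)) * g := by group
      _ = g⁻¹ * ((g * x * g⁻¹) * c) * g := by rw [hc]
      _ = _ := by group

/-- A common element of `Ã₁(S)` and `Ã(T)` makes a conjugate of `T` support `S`. -/
theorem support_of_tilde {S T : Subgroup G} (hS : IsCoatom S) (hT : IsCoatom T)
    (hne : ∀ g : G, T ≠ MulAut.conj g • S) {z : G}
    (hzS : z ∈ tildeOf S (typeA1 S)) (hzT : z ∈ tildeOf T (typeA T)) :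
    ∃ g : G, ∃ a ∈ typeA1 S, ¬ Subgroup.centralizer ({a} : Set G) ≤ S ∧
      Subgroup.centralizer ({a} : Set G) ≤ MulAut.conj g • T := by
  obtain ⟨b, hb, s, hs, k, hzk⟩ := id hzT
  by_cases hb1 : b ∈ typeA1 T
  · exfalso
    refine Set.disjoint_left.1 (OddLocal.tilde_disjoint hG hS hT hne) ?_
      ⟨b, ⟨hl.core T hT ▸ hb1.1, hb1.2⟩, s, hs, k, hzk⟩
    obtain ⟨a, ha, r, hr, y, hy⟩ := hzS
    exact ⟨a, ⟨hl.core S hS ▸ ha.1, ha.2⟩, r, hr, y, hy⟩
  have hbC : Subgroup.centralizer ({b} : Set G) ≤ T := by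
    by_contra h
    exact hb1 (hl.escape T hT b (typeA_subset_typeA0 T hb) h).1
  rw [supportR_of_le hbC, Subgroup.mem_bot] at hs
  subst hs
  obtain ⟨a, ha, r, hr, y, hzy⟩ := hzS
  have hac : a ∈ sigmaCore S := hl.core S hS ▸ ha.1
  obtain ⟨har, -⟩ := support_cases hG hS hac ha.2 hr
  -- `b` is conjugate to `a * r`
  obtain ⟨g, hg⟩ : ∃ g : G, b = g * (a * r) * g⁻¹ := ⟨k⁻¹ * y, by
    have : b = k⁻¹ * z * k := by rw [hzk]; group
    rw [this, hzy]; group⟩
  have ha' : g * a * g⁻¹ ∈ Subgroup.zpowers b := by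
    obtain ⟨u, v, hu, -, huv, hcomm, huσ, hvσ⟩ := exists_sigma_part (sigma S) (a * r)
    obtain ⟨rfl, -⟩ := eq_of_commute_decomp (sigma S) har hcomm huv
      (fun t ht hd => sigma_of_orderOf hac ht hd)
      (fun t ht hd => support_not_sigma hG hS hac ha.2 hr ht hd) huσ hvσ
    obtain ⟨i, hi⟩ := Subgroup.mem_zpowers_iff.mp hu
    exact ⟨i, by simp only [hg, conj_zpow]; rw [hi]⟩
  have hpow : g * a * g⁻¹ ∈ typeA T := by
    obtain ⟨i, hi⟩ := Subgroup.mem_zpowers_iff.mp ha'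
    have hne1 : g * a * g⁻¹ ≠ 1 := conj_ne_one ha.2
    rw [typeA] at hb ⊢
    split_ifs at hb ⊢ with hI
    · obtain ⟨h1, -, w, hw, hw1, hbw⟩ := hb
      exact ⟨hi ▸ zpow_mem h1 i, hne1, w, hw, hw1, hi ▸ (Commute.zpow_left hbw i).eq⟩
    · obtain ⟨h1, -, w, hw, hw1, hbw⟩ := hb
      exact ⟨hi ▸ zpow_mem h1 i, hne1, w, hw, hw1, hi ▸ (Commute.zpow_left hbw i).eq⟩
  obtain ⟨h1, h2⟩ := centralizer_of_mem hG hl (OddLocal.isCoatom_conj hS g) hT
    (fun c e => hne (c * g) (by rw [e, map_mul, mul_smul])) (conj_typeA1 hG hl hS g ha) hpow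
  refine ⟨g⁻¹, a, ha, fun h => h1 ((centralizer_le_conj hG hl g).mpr h),
    (centralizer_le_conj hG hl g).mp ?_⟩
  rwa [← mul_smul, ← map_mul, mul_inv_cancel, map_one, one_smul]

/-- If a conjugate of `T` supports `S`, then `Ã₁(S)` meets `Ã(T)`. -/
theorem tilde_of_support {S T : Subgroup G} (hS : IsCoatom S) (hT : IsCoatom T) {g : G}
    (h : Supports (MulAut.conj g • T) S) :
    (tildeOf S (typeA1 S) ∩ tildeOf T (typeA T)).Nonempty := by
  obtain ⟨-, x, hx, hn, hle⟩ := h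
  obtain ⟨hx1, -⟩ := hl.escape S hS x hx hn
  have hx' := conj_typeA1 hG hl hS g⁻¹ hx1
  have hle' : Subgroup.centralizer ({g⁻¹ * x * g⁻¹⁻¹} : Set G) ≤ T := by
    have := (centralizer_le_conj hG hl g⁻¹).mpr hle
    rwa [← mul_smul, ← map_mul, inv_mul_cancel, map_one, one_smul] at this
  obtain ⟨-, hall⟩ := hl.escape _ (OddLocal.isCoatom_conj hS g⁻¹) _
    (typeA1_mem_typeA0 hG hl (OddLocal.isCoatom_conj hS g⁻¹) hx')
    fun e => hn ((centralizer_le_conj hG hl g⁻¹).mp e)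
  obtain ⟨hxA, -⟩ := hall T hT hle'
  exact ⟨x, ⟨x, hx1, 1, one_mem _, 1, by group⟩, ⟨_, hxA, 1, one_mem _, g, by group⟩⟩

theorem supports_iff_results {S T : Subgroup G} (hS : IsCoatom S) (hT : IsCoatom T)
    (hnc : ∀ g : G, T.map (MulAut.conj g).toMonoidHom ≠ S) :
    (Supports T S ↔ (typeA1 S ∩ typeA T).Nonempty) ∧
    (∀ x ∈ typeA1 S ∩ typeA T, ¬ Subgroup.centralizer ({x} : Set G) ≤ S ∧
      Subgroup.centralizer ({x} : Set G) ≤ T) ∧
    ((∃ g : G, Supports (T.map (MulAut.conj g).toMonoidHom) S) ↔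
      (tildeOf S (typeA1 S) ∩ tildeOf T (typeA T)).Nonempty) ∧
    (tildeOf S (typeA1 S) ∩ tildeOf T (typeA T) = ∅ ∨
      tildeOf T (typeA1 T) ∩ tildeOf S (typeA S) = ∅) := by
  have hnc' : ∀ g : G, MulAut.conj g • T ≠ S := fun g e => hnc g (by
    rw [← Coprime.conj_smul_eq_map]; exact e)
  have hne : ∀ g : G, T ≠ MulAut.conj g • S := fun g e => hnc' g⁻¹ (by
    rw [e, ← mul_smul, ← map_mul, inv_mul_cancel, map_one, one_smul])
  refine ⟨⟨?_, ?_⟩, fun x hx => centralizer_of_mem hG hl hS hT hne hx.1 hx.2, ⟨?_, ?_⟩, ?_⟩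
  · rintro ⟨-, x, hx, hn, hle⟩
    obtain ⟨h1, hall⟩ := hl.escape S hS x hx hn
    exact ⟨x, h1, (hall T hT hle).1⟩
  · rintro ⟨x, hx, hxT⟩
    obtain ⟨h1, h2⟩ := centralizer_of_mem hG hl hS hT hne hx hxT
    exact ⟨hT, x, typeA1_mem_typeA0 hG hl hS hx, h1, h2⟩
  · rintro ⟨g, hg⟩
    rw [← Coprime.conj_smul_eq_map] at hg
    exact tilde_of_support hG hl hS hT hg
  · rintro ⟨z, hzS, hzT⟩
    obtain ⟨g, a, ha, h1, h2⟩ := support_of_tilde hG hl hS hT hne hzS hzT
    refine ⟨g, ?_⟩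
    rw [← Coprime.conj_smul_eq_map]
    exact ⟨OddLocal.isCoatom_conj hT g, a, typeA1_mem_typeA0 hG hl hS ha, h1, h2⟩
  · by_contra hc
    rw [not_or] at hc
    obtain ⟨z, hzS, hzT⟩ := Set.nonempty_iff_ne_empty.mpr hc.1
    obtain ⟨w, hwT, hwS⟩ := Set.nonempty_iff_ne_empty.mpr hc.2
    obtain ⟨g, x, hx, hxn, hxle⟩ := support_of_tilde hG hl hS hT hne hzS hzT
    obtain ⟨k, x', hx', hx'n, hx'le⟩ := support_of_tilde hG hl hT hS (fun c e => hnc' c e.symm) hwT hwS
    obtain ⟨-, hall⟩ := hl.escape T hT x' (typeA1_mem_typeA0 hG hl hT hx') hx'n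
    obtain ⟨hx'A, -, -⟩ := hall _ (OddLocal.isCoatom_conj hS k) hx'le
    -- move `x` next to `x'`
    have hS' := OddLocal.isCoatom_conj hS k
    have hT' := OddLocal.isCoatom_conj hT (k * g)
    have hx1 := conj_typeA1 hG hl hS k hx
    have hxn' : ¬ Subgroup.centralizer ({k * x * k⁻¹} : Set G) ≤ MulAut.conj k • S :=
      fun e => hxn ((centralizer_le_conj hG hl k).mp e)
    have hxle' : Subgroup.centralizer ({k * x * k⁻¹} : Set G) ≤ MulAut.conj (k * g) • T := by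
      rw [map_mul, mul_smul]
      exact (centralizer_le_conj hG hl k).mpr hxle
    obtain ⟨-, hall'⟩ := hl.escape _ hS' _ (typeA1_mem_typeA0 hG hl hS' hx1) hxn'
    have hcop := (hall' _ hT' hxle').2.2 x' (typeA_subset_typeA0 _ hx'A)
    obtain ⟨N, hN⟩ := exists_support hG hS' (hl.core _ hS' ▸ hx1.1) hx1.2 hxn'
    have hNT : MulAut.conj (k * g) • T = N := hN.uniq _ hT' hxle'
    have hx'σ : x' ∈ sigmaCore T := hl.core T hT ▸ hx'.1
    have hd1 : orderOf x' ∣ Nat.card (fittingHallOf (MulAut.conj (k * g) • T)) := by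
      rw [hNT, hN.fittingHall_eq, ← hNT, sigmaCore_conj hG hT, Coprime.card_conj_smul]
      exact Subgroup.orderOf_dvd_natCard _ hx'σ
    have hd2 : orderOf x' ∣ Nat.card ↥(MulAut.conj k • S ⊓ Subgroup.centralizer ({x'} : Set G)) :=
      Subgroup.orderOf_dvd_natCard _
        ⟨(exists_commute_core hG hl hS' hx'A).1, Subgroup.mem_centralizer_singleton_iff.mpr rfl⟩
    exact hx'.2 (orderOf_eq_one_iff.1 (Nat.eq_one_of_dvd_coprimes hcop hd1 hd2))

end CfsgLib.Peterfalvi
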