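import Cfsg.Agent.Lib.Peterfalvi.AllI
import Cfsg.Agent.Lib.Peterfalvi.PlaneAction
import Cfsg.Agent.Lib.OddLocal.SigmaSupport
import Cfsg.Agent.Lib.OddLocal.TauTwoHall
import Cfsg.Agent.Lib.OddLocal.TildeCount
import Cfsg.Agent.Lib.RootSub.RankOne
import Mathlib.GroupTheory.SpecificGroups.ZGroup

/-!
A pair of maximal subgroups attached to a maximal subgroup of type I which is not a Frobenius
group.
-/

set_option autoImplicit false
set_option linter.style.haveILetI false
set_option linter.unusedSectionVars false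

namespace CfsgLib.Peterfalvi

open Cfsg
open CfsgLib.OddLocal
open scoped Pointwise

variable {G : Type*} [Group G] [Finite G]

/-- `L` is not Frobenius, `M` is Frobenius and is supported by `L` at the element `x` of order `p`. -/
structure Witness (G : Type*) [Group G] [Finite G] (L M : Subgroup G) (p : ℕ) (x : G) : Prop where
  hL : IsCoatom L
  hM : IsCoatom M
  hp : p.Prime
  hp2 : p ≠ 2
  hxo : orderOf x = p
  pL : p ∉ sigma L
  xK : x ∈ sigmaCore M
  xM : ¬ Subgroup.centralizer ({x} : Set G) ≤ M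
  xCL : Subgroup.centralizer ({x} : Set G) ≤ L
  uniq : ∀ N : Subgroup G, IsCoatom N → Subgroup.centralizer ({x} : Set G) ≤ N → N = L
  fixed : ∃ h ∈ sigmaCore L, h ∉ ⁅sigmaCore L, sigmaCore L⁆ ∧ Commute x h
  compl : IsComplIn (M ⊓ L) (sigmaCore L) L
  inter : M ⊓ L ≤ sigmaCore M
  frob : ∀ y ∈ sigmaCore M, y ≠ 1 → M ⊓ Subgroup.centralizer ({y} : Set G) ≤ sigmaCore M
  three : 3 ≤ (sigmaCore M).relIndex M
  bound : 2 * (sigmaCore M).relIndex M ≤ p + 1
  sq : p ^ 2 ≤ Nat.card (sigmaCore M)
  five : 5 ≤ ⁅sigmaCore L, sigmaCore L⁆.relIndex (sigmaCore L)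

theorem le_normalizer_sigmaCore (M : Subgroup G) :
    M ≤ Subgroup.normalizer (sigmaCore M : Set G) := le_normalizer_piCoreOf (sigma M) M

theorem not_dvd_two (hG : IsMinSimpleOddOrder G) (H : Subgroup G) : ¬ 2 ∣ Nat.card H := fun h =>
  Nat.not_even_iff_odd.mpr hG.1 (even_iff_two_dvd.mpr (h.trans (Subgroup.card_subgroup_dvd_card H)))

theorem ne_two_of_dvd (hG : IsMinSimpleOddOrder G) {H : Subgroup G} {q : ℕ} (h : q ∣ Nat.card H) :
    q ≠ 2 := fun e => not_dvd_two hG H (e ▸ h)

namespace AllI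

variable (h : AllI G) {L M : Subgroup G}
include h

theorem core_ne_bot (hM : IsCoatom M) : sigmaCore M ≠ ⊥ := sigmaCore_ne_bot h.hG hM

theorem derived_core_lt (hM : IsCoatom M) : ⁅sigmaCore M, sigmaCore M⁆ < sigmaCore M := by
  haveI := h.sigmaCore_nilpotent hM
  haveI : Nontrivial (sigmaCore M) := (Subgroup.nontrivial_iff_ne_bot _).mpr (h.core_ne_bot hM)
  have h1 := Subgroup.map_lt_map_iff_of_injective (sigmaCore M).subtype_injective |>.mpr
    (Group.IsSolvable.commutator_lt_top_of_nontrivial (sigmaCore M))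
  rwa [Subgroup.map_subtype_commutator, ← MonoidHom.range_eq_map, Subgroup.range_subtype] at h1

/-- A plane outside `M_σ` has an element fixing an element outside the derived group of `M_σ`. -/
theorem exists_fixed_outside (hM : IsCoatom M) {p : ℕ} {A A₀ : Subgroup G} (hA : Exc p M A A₀) :
    ∃ a ∈ A, a ≠ 1 ∧ ∃ y ∈ sigmaCore M, y ∉ ⁅sigmaCore M, sigmaCore M⁆ ∧ Commute a y := by
  haveI := hA.hAe.1
  by_contra hc
  refine (h.derived_core_lt hM).not_ge (Coprime.le_of_centralizer_le hA.maxElem.not_isCyclic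
    (hA.hAM.trans (le_normalizer_piCoreOf _ M)) ?_ fun g hg hg1 y hy => ?_)
  · rw [hA.hA2]
    exact (hA.hp.coprime_iff_not_dvd.mpr fun hd =>
      hA.hσ (isPi_piCoreOf _ M p hA.hp hd)).pow_left 2
  · by_contra hy'
    exact hc ⟨g, hg, hg1, y, hy.1, hy', (Subgroup.mem_centralizer_singleton_iff.mp hy.2).symm⟩

theorem normalizer_core (hM : IsCoatom M) : Subgroup.normalizer (sigmaCore M : Set G) = M := by
  rcases eq_or_lt_of_le (le_normalizer_piCoreOf (sigma M) M) with e | e
  · exact e.symm
  · exact absurd (hM.2 _ e) (normalizer_ne_top h.hG (h.core_ne_bot hM)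
      fun e' => hM.1 (eq_top_iff.mpr (e'.ge.trans (piCoreOf_le _ M))))

theorem centralizer_le_of_ti (hM : IsCoatom M) (hTI : IsTISubset (sigmaCore M : Set G)) {x : G}
    (hx : x ∈ sigmaCore M) (hx1 : x ≠ 1) : Subgroup.centralizer ({x} : Set G) ≤ M := by
  intro c hc
  by_contra hcM
  refine hx1 (hTI c ((h.normalizer_core hM).symm ▸ hcM) x hx ?_)
  rw [Subgroup.mem_centralizer_singleton_iff.mp hc, mul_inv_cancel_right]
  exact hx

theorem exponent_quot_dvd (hM : IsCoatom M) {b : G} (hb : b ∈ M) :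
    orderOf (QuotientGroup.mk' (fittingHall M) ⟨b, hb⟩) ∣ Monoid.exponent (M ⧸ fittingHall M) ∧
      (QuotientGroup.mk' (fittingHall M) ⟨b, hb⟩ = 1 → b ∈ sigmaCore M) := by
  refine ⟨Monoid.order_dvd_exponent _, fun e => ?_⟩
  rw [← h.core M hM]
  exact ⟨⟨b, hb⟩, (QuotientGroup.eq_one_iff _).mp e, rfl⟩

/-- In the rank two case the plane is the set of elements of order dividing `p` of `M_σ`. -/
theorem plane_eq {p : ℕ} (hp : p.Prime) {A : Subgroup G} (hA2 : Nat.card A = p ^ 2)
    (hAe : IsElementaryAbelian p A) (hAK : A ≤ sigmaCore M) [IsMulCommutative (sigmaCore M)]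
    (hrank : RankLE 2 (sigmaCore M)) {y : G} (hy : y ∈ sigmaCore M) (hyp : y ^ p = 1) : y ∈ A := by
  have hK : ∀ a ∈ sigmaCore M, ∀ b ∈ sigmaCore M, a * b = b * a := fun a ha b hb =>
    congrArg Subtype.val (mul_comm' (⟨a, ha⟩ : sigmaCore M) ⟨b, hb⟩)
  let B : Subgroup (sigmaCore M) :=
    { carrier := {z | z ^ p = 1}
      one_mem' := one_pow _
      mul_mem' := fun {a b} ha hb => by
        show (a * b) ^ p = 1
        rw [(show Commute a b from mul_comm' a b).mul_pow, ha, hb, one_mul]
      inv_mem' := fun {a} ha => by show a⁻¹ ^ p = 1; rw [inv_pow, ha, inv_one] }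
  have h1 : Nat.card B ≤ p ^ 2 := hrank p hp B inferInstance fun a ha => ha
  have h2 : A.subgroupOf (sigmaCore M) ≤ B := fun a ha => Subtype.ext (by
    rw [SubmonoidClass.coe_pow]; exact hAe.2 _ ha)
  have h3 : A.subgroupOf (sigmaCore M) = B := Subgroup.eq_of_le_of_card_ge h2 (by
    rw [Nat.card_congr (Subgroup.subgroupOfEquivOfLe hAK).toEquiv, hA2]; exact h1)
  have h4 : (⟨y, hy⟩ : sigmaCore M) ∈ A.subgroupOf (sigmaCore M) := by
    rw [h3]; exact Subtype.ext (by simpa using hyp)
  exact h4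

/-- The minimal bad prime gives a witness. -/
theorem exists_witness (hb : ∃ (L : Subgroup G) (p : ℕ), IsCoatom L ∧ Bad L p) :
    ∃ (L M : Subgroup G) (p : ℕ) (x : G), Witness G L M p x := by
  classical
  have hG := h.hG
  have hex : ∃ p, ∃ L : Subgroup G, IsCoatom L ∧ Bad L p :=
    let ⟨L, p, hL, hp⟩ := hb; ⟨p, L, hL, hp⟩
  obtain ⟨L, hL, hbad⟩ := Nat.find_spec hex
  have hmin : ∀ q (N : Subgroup G), IsCoatom N → Bad N q → Nat.find hex ≤ q := fun q N hN hq =>
    Nat.find_min' hex ⟨N, hN, hq⟩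
  set p := Nat.find hex
  obtain ⟨hσ, hτ⟩ := h.bad_tau2 hL hbad
  have hp : p.Prime := hbad.1
  haveI := Fact.mk hp
  obtain ⟨F, hF⟩ := exists_compl hG hL
  obtain ⟨A, A₀, -, hA⟩ := exists_elem_compl hG hL hF hτ
  obtain ⟨x, hxA, hx1, y, hy, hyD, hxy⟩ := h.exists_fixed_outside hL hA
  have hxo : orderOf x = p := orderOf_eq_prime (hA.hAe.2 x hxA) hx1
  have hy1 : y ≠ 1 := fun e => hyD (e ▸ Subgroup.one_mem _)
  obtain ⟨-, hCL, huniq⟩ := h.uniq_of_fixed hL (hA.hAM hxA) hxo hp hσ hy hy1 hxy
  -- the supported subgroup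
  obtain ⟨M₀, hM₀, hτσ⟩ := exists_sigma_tau2 hG hL hτ
  obtain ⟨c, hc⟩ := exists_conj_le_sigmaCore hG hM₀ hA.maxElem.ne_bot fun r hr hd => by
    rw [hA.hA2] at hd
    exact (Nat.prime_dvd_prime_iff_eq hr hp).1 (hr.dvd_of_dvd_pow hd) ▸ hτσ p hτ
  obtain ⟨M, hMdef⟩ : ∃ M, M = MulAut.conj c⁻¹ • M₀ := ⟨_, rfl⟩
  have hM : IsCoatom M := hMdef ▸ OddLocal.isCoatom_conj hM₀ c⁻¹
  have hpM : p ∈ sigma M := hMdef ▸ sigma_conj_iff.2 (hτσ p hτ)
  have hAK : A ≤ sigmaCore M := by
    rw [hMdef, sigmaCore_conj hG hM₀]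
    intro a ha
    rw [Coprime.mem_conj_smul_iff]
    have := hc (show c * a * c⁻¹ ∈ MulAut.conj c • A by
      rw [Coprime.mem_conj_smul_iff]; simpa [mul_assoc] using ha)
    simpa using this
  have hne : M ≠ L := fun e => hσ (e ▸ hpM)
  have hxM : ¬ Subgroup.centralizer ({x} : Set G) ≤ M := fun e => hne (huniq M hM e)
  obtain ⟨N, hN⟩ := exists_support hG hM (hAK hxA) hx1 hxM
  have hNL : N = L := huniq N hN.hN hN.hle
  subst hNL
  have hAM : A ≤ M := hAK.trans (piCoreOf_le _ M)
  have hAU : A ≤ M ⊓ N := le_inf hAM hA.hAM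
  have hU := hN.compl
  have hxU : x ∈ M ⊓ N := hAU hxA
  -- `M` is a Frobenius group
  have hnot : ∀ r, ¬ Bad M r := by
    intro r hr
    obtain ⟨hrσ, hrτ⟩ := h.bad_tau2 hM hr
    have hrp : r ≠ p := fun e => hrσ (e ▸ hpM)
    have hlt : p < r := lt_of_le_of_ne (hmin r M hM hr) (Ne.symm hrp)
    obtain ⟨hrP, b, hb, hbo, hbK, -, -, -, -⟩ := id hr
    have hr2 : r ≠ 2 := ne_two_of_dvd hG (H := M) (hbo ▸ Subgroup.orderOf_dvd_natCard M hb)
    rcases (h.weakTypeI M hM).2 with hTI | ⟨hab, hrank, -⟩ | ⟨hexp, -⟩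
    · rw [h.core M hM] at hTI
      exact hxM (h.centralizer_le_of_ti hM hTI (hAK hxA) hx1)
    · rw [h.core M hM] at hab hrank
      haveI := hab
      obtain ⟨E, hE⟩ := exists_compl hG hM
      obtain ⟨R, R₀, -, hR⟩ := exists_elem_compl hG hM hE hrτ
      have hRC : ∀ b ∈ R, b ∈ Subgroup.centralizer (A : Set G) := by
        intro b hb
        have hbn : b ∈ Subgroup.normalizer (A : Set G) := by
          refine (Coprime.mem_normalizer_iff_conj_smul).mpr (Subgroup.eq_of_le_of_card_ge ?_
            (by rw [Coprime.card_conj_smul]))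
          intro a ha
          rw [Coprime.mem_conj_smul_iff] at ha
          refine h.plane_eq hp hA.hA2 hA.hAe hAK hrank ?_ ?_
          · have := Subgroup.le_normalizer_iff.mp (le_normalizer_sigmaCore M) b
              (hR.hAM hb) _ (hAK ha)
            simpa [mul_assoc] using this
          · have := hA.hAe.2 _ ha
            rw [show a = b * (b⁻¹ * a * b) * b⁻¹ by group, conj_pow, this]; group
        have h1 := card_fixed_modEq hrP (hR.hAe.2 b hb) hbn
        have hd := Subgroup.card_dvd_of_le (inf_le_left : A ⊓ Subgroup.centralizer ({b} : Set G) ≤ A)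
        rw [hA.hA2] at hd h1
        obtain ⟨k, hk, hck⟩ := (Nat.dvd_prime_pow hp).mp hd
        rw [hck] at h1
        have hk2 : k = 2 := by
          by_contra hne2
          have hdvd : r ∣ p ^ 2 - p ^ k :=
            (Nat.modEq_iff_dvd' (Nat.pow_le_pow_right hp.pos hk)).mp h1.symm
          interval_cases k
          · rw [pow_zero, show p ^ 2 - 1 = (p + 1) * (p - 1) by simpa using Nat.sq_sub_sq p 1] at hdvd
            rcases hrP.dvd_mul.mp hdvd with hd | hd
            · have hle := Nat.le_of_dvd (by omega) hd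
              have h5 : r = p + 1 := by omega
              have hpo := hp.odd_of_ne_two (ne_two_of_dvd hG hA.maxElem.dvd_card)
              have hro := hrP.odd_of_ne_two hr2
              rw [h5] at hro
              exact absurd hro (by simpa [Nat.odd_add_one] using hpo)
            · have hle := Nat.le_of_dvd (by have := hp.two_le; omega) hd
              omega
          · rw [pow_one, show p ^ 2 - p = p * (p - 1) by rw [sq, Nat.mul_sub, mul_one]] at hdvd
            rcases hrP.dvd_mul.mp hdvd with hd | hd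
            · exact hrp ((Nat.prime_dvd_prime_iff_eq hrP hp).mp hd)
            · have hle := Nat.le_of_dvd (by have := hp.two_le; omega) hd
              omega
          · exact hne2 rfl
        have hfull : A ⊓ Subgroup.centralizer ({b} : Set G) = A :=
          Subgroup.eq_of_le_of_card_ge inf_le_left (by rw [hA.hA2, hck, hk2])
        intro a ha
        exact Subgroup.mem_centralizer_singleton_iff.mp (hfull.ge ha).2
      have hRL : R ≤ M ⊓ N := fun b hb => ⟨hR.hAM hb, hN.hle
        (Subgroup.mem_centralizer_singleton_iff.mpr (hRC b hb x hxA).symm)⟩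
      have hrN : r ∉ sigma N := not_sigma_of_dvd_compl hG hN.hN hU hrP
        (hR.maxElem.dvd_card.trans (Subgroup.card_dvd_of_le hRL))
      haveI := hR.hAe.1
      refine h.core_ne_bot hN.hN (le_bot_iff.mp (Coprime.le_of_centralizer_le hR.maxElem.not_isCyclic
        ((hRL.trans inf_le_right).trans (le_normalizer_piCoreOf _ N)) ?_ fun g hg hg1 z hz => ?_))
      · rw [hR.hA2]
        exact (hrP.coprime_iff_not_dvd.mpr fun hd => hrN (isPi_piCoreOf _ N r hrP hd)).pow_left 2
      · rw [Subgroup.mem_bot]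
        by_contra hz1
        have hgo : orderOf g = r := by
          haveI := Fact.mk hrP
          exact orderOf_eq_prime (hR.hAe.2 g hg) hg1
        obtain ⟨-, hgC, hgu⟩ := h.uniq_of_fixed hN.hN (hRL hg).2 hgo hrP hrN hz.1 hz1
          (Subgroup.mem_centralizer_singleton_iff.mp hz.2).symm
        obtain ⟨-, hgM, -⟩ := h.uniq_of_fixed hM (hRL hg).1 hgo hrP hrσ (hAK hxA) hx1
          (hRC g hg x hxA).symm
        exact hne (hgu M hM hgM)
    · have hpK : p ∣ Nat.card (fittingHallOf M) := by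
        rw [h.core M hM, ← hxo]; exact Subgroup.orderOf_dvd_natCard _ (hAK hxA)
      obtain ⟨hd, hone⟩ := h.exponent_quot_dvd hM hb
      have ho : orderOf (QuotientGroup.mk' (fittingHall M) ⟨b, hb⟩) = r := by
        have h1 := orderOf_map_dvd (QuotientGroup.mk' (fittingHall M)) (⟨b, hb⟩ : M)
        rw [Subgroup.orderOf_mk, hbo] at h1
        exact ((Nat.dvd_prime hrP).mp h1).resolve_left fun e => hbK (hone (orderOf_eq_one_iff.mp e))
      have := Nat.le_of_dvd (by have := hp.two_le; omega) ((ho ▸ hd).trans (hexp p hp hpK))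
      omega
  have hfrob := frobenius_of_not_bad hG hM hnot
  -- the free subgroup of the complement
  obtain ⟨U₀, hU₀, hU₀exp, hfree⟩ := h.exists_free hN.hN hU
  have hel : ∀ {r : ℕ}, r.Prime → ∀ {b : G}, b ∈ M ⊓ N → orderOf b = r →
      ∃ z ∈ U₀, orderOf z = r := fun {r} hr {b} hb hbo => by
    refine exists_order_of_dvd hr (dvd_trans ?_ Group.exponent_dvd_nat_card)
    rw [hU₀exp, ← hbo, ← Subgroup.orderOf_mk b hb]
    exact Monoid.order_dvd_exponent _
  obtain ⟨z, hz, hzo⟩ := hel hp hxU hxo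
  have hzA : z ∈ A := hA.mem_of_compl hU hAU (hU₀ hz) (by rw [← hzo, pow_orderOf_eq_one])
  have hz1 : z ≠ 1 := fun e => hp.ne_one (by rw [← hzo, e, orderOf_one])
  have hinter : M ⊓ N ≤ sigmaCore M := by
    intro w hw
    by_contra hwK
    obtain ⟨r, hr, hrσ, -, hro, -⟩ := exists_pow_not_core hG hM hw.1 hwK
    obtain ⟨b, hb, hbo⟩ := hel hr ((M ⊓ N).pow_mem hw _) hro
    have hbK : b ∉ sigmaCore M := fun e => hrσ (sigma_of_orderOf e hr (dvd_of_eq hbo.symm))
    haveI := h.sigmaCore_nilpotent hN.hN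
    haveI : Nontrivial (sigmaCore N) := (Subgroup.nontrivial_iff_ne_bot _).mpr (h.core_ne_bot hN.hN)
    set V := (Subgroup.center (sigmaCore N)).map (sigmaCore N).subtype with hV
    haveI : IsMulCommutative V := Subgroup.map_isMulCommutative _ _
    have hVne : V ≠ ⊥ := by
      rw [hV, ne_eq, Subgroup.map_eq_bot_iff_of_injective _ (sigmaCore N).subtype_injective]
      exact Group.IsNilpotent.center_ne_bot _
    have hUV : U₀ ≤ Subgroup.normalizer (V : Set G) := by
      intro u hu
      refine Subgroup.le_normalizer_iff.mpr ?_ (show u ∈ M ⊓ N ⊓ N from ⟨hU₀ hu, (hU₀ hu).2⟩)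
      rintro g ⟨-, hg⟩ _ ⟨v, hv, rfl⟩
      have hgK : ∀ k : sigmaCore N, g * (k : G) * g⁻¹ ∈ sigmaCore N := fun k =>
        Subgroup.le_normalizer_iff.mp (le_normalizer_sigmaCore N) g hg k k.2
      refine ⟨⟨g * (v : G) * g⁻¹, hgK v⟩, Subgroup.mem_center_iff.mpr fun k => Subtype.ext ?_, rfl⟩
      have hk : g⁻¹ * (k : G) * g ∈ sigmaCore N := by
        simpa using Subgroup.le_normalizer_iff.mp (le_normalizer_sigmaCore N) g⁻¹
          (inv_mem hg) k k.2
      have e := congrArg Subtype.val (Subgroup.mem_center_iff.mp hv ⟨_, hk⟩)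
      simp only [Subgroup.coe_mul] at e ⊢
      calc (k : G) * (g * (v : G) * g⁻¹) = g * ((g⁻¹ * k * g) * v) * g⁻¹ := by group
        _ = g * ((v : G) * (g⁻¹ * k * g)) * g⁻¹ := by rw [e]
        _ = _ := by group
    have hU₀ne : U₀ ≠ ⊥ := fun e => hz1 (Subgroup.mem_bot.mp (e ▸ hz))
    obtain ⟨⟨v, hvC⟩, hv1⟩ := Subgroup.ne_bot_iff_exists_ne_one.mp
      (FrobCompl.center_ne_bot hU₀ne hVne hUV fun e he he1 => le_bot_iff.mp
        ((inf_le_inf_right _ (Subgroup.map_subtype_le _)).trans (hfree e he he1).le))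
    have hvc : ∀ g ∈ U₀, g * (v : G) = v * g := fun g hg =>
      congrArg Subtype.val (Subgroup.mem_center_iff.mp hvC ⟨g, hg⟩)
    have hv0 : (v : G) ≠ 1 := fun e => hv1 (Subtype.ext (Subtype.ext e))
    by_cases hvK : (v : G) ∈ sigmaCore M
    · exact hbK (hfrob v hvK hv0 ⟨(hU₀ hb).1, Subgroup.mem_centralizer_singleton_iff.mpr (hvc b hb)⟩)
    · exact hvK (hfrob z (hAK hzA) hz1 ⟨(hU₀ v.2).1,
        Subgroup.mem_centralizer_singleton_iff.mpr (hvc z hz).symm⟩)
  -- the bound on `|M : M_σ|`
  obtain ⟨E, hE⟩ := exists_compl hG hM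
  have he : (sigmaCore M).relIndex M = Nat.card E := by
    rw [card_compl hE, sigmaCore, Subgroup.relIndex, Subgroup.subgroupOf,
      Subgroup.comap_map_eq_self_of_injective M.subtype_injective]
  have hEK : ∀ g ∈ E, g ∈ sigmaCore M → g = 1 := fun g hg hgK =>
    Subgroup.mem_bot.mp (hE.2.2.1.le ⟨hg, hgK⟩)
  have heven : Odd (Nat.card E) := Nat.not_even_iff_odd.mp fun e =>
    not_dvd_two hG E (even_iff_two_dvd.mp e)
  have hfix : ∀ g ∈ E, g * x * g⁻¹ ∈ Subgroup.zpowers x → g = 1 := by
    intro g hg hgx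
    refine hEK g hg (hinter ⟨hE.1 hg, ?_⟩)
    have hz : Subgroup.zpowers (g * x * g⁻¹) = Subgroup.zpowers x :=
      zpowers_eq_of_mem hp (by rw [Nat.card_zpowers, hxo]) hgx (conj_ne_one hx1)
    refine mem_of_conj_eq hG hN.hN (coatom_ne_bot hG hN.hN)
      (huniq _ (OddLocal.isCoatom_conj hN.hN g) fun w hw => ?_)
    rw [Coprime.mem_conj_smul_iff]
    refine hN.hle ?_
    rw [← centralizer_zpowers_eq, ← hz, centralizer_zpowers_eq] at hw
    rw [Subgroup.mem_centralizer_singleton_iff] at hw ⊢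
    calc g⁻¹ * w * g * x = g⁻¹ * (w * (g * x * g⁻¹)) * g := by group
      _ = g⁻¹ * ((g * x * g⁻¹) * w) * g := by rw [hw]
      _ = _ := by group
  have hbound : 2 * Nat.card E ≤ p + 1 := by
    rcases (h.weakTypeI M hM).2 with hTI | ⟨hab, hrank, -⟩ | ⟨hexp, -⟩
    · rw [h.core M hM] at hTI
      exact absurd (h.centralizer_le_of_ti hM hTI (hAK hxA) hx1) hxM
    · rw [h.core M hM] at hab hrank
      haveI := hab
      refine two_mul_card_le hp hA.hA2 hA.hAe.2 (fun a ha b hb => hA.maxElem.comm ha hb) ?_ heven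
        ?_ (ne_two_of_dvd hG hA.maxElem.dvd_card) hxA hfix
      · intro g hg
        refine (Coprime.mem_normalizer_iff_conj_smul).mpr (Subgroup.eq_of_le_of_card_ge ?_
          (by rw [Coprime.card_conj_smul]))
        intro a ha
        rw [Coprime.mem_conj_smul_iff] at ha
        refine h.plane_eq hp hA.hA2 hA.hAe hAK hrank ?_ ?_
        · have := Subgroup.le_normalizer_iff.mp (le_normalizer_sigmaCore M) g
            (hE.1 hg) _ (hAK ha)
          simpa [mul_assoc] using this
        · have := hA.hAe.2 _ ha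
          rw [show a = g * (g⁻¹ * a * g) * g⁻¹ by group, conj_pow, this]; group
      · intro g hg hg1 a ha hga
        by_contra ha1
        exact hg1 (hEK g hg (hfrob a (hAK ha) ha1
          ⟨hE.1 hg, Subgroup.mem_centralizer_singleton_iff.mpr hga⟩))
    · have hpK : p ∣ Nat.card (fittingHallOf M) := by
        rw [h.core M hM, ← hxo]; exact Subgroup.orderOf_dvd_natCard _ (hAK hxA)
      haveI hZ : IsZGroup E := by
        refine ⟨fun r hr T => ?_⟩
        haveI := Fact.mk hr
        have hcyc : IsCyclic ((T : Subgroup E).map E.subtype) := by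
          by_cases hd : r ∣ Nat.card E
          · refine cyclic_of_prankLE_one hG hr ?_ (T.2.map _) ((Subgroup.map_subtype_le _).trans hE.1)
            have hrσ := not_sigma_of_dvd_compl hG hM hE hr hd
            rcases tau_cases hG hM hr hrσ (hd.trans (Subgroup.card_dvd_of_le hE.1)) with (h13 | h13) | h2
            · exact h13.2.2.2.2
            · exact h13.2.2.2
            · exfalso
              obtain ⟨B, B₀, -, hB⟩ := exists_elem_compl hG hM hE h2
              obtain ⟨b, hbB, hb1, w, hw, hwD, hbw⟩ := h.exists_fixed_outside hM hB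
              refine hnot r ⟨hr, b, hB.hAM hbB, orderOf_eq_prime (hB.hAe.2 b hbB) hb1, fun e => ?_,
                w, hw, fun e => hwD (e ▸ Subgroup.one_mem _), hbw⟩
              exact hrσ (sigma_of_orderOf e hr (dvd_of_eq (orderOf_eq_prime (hB.hAe.2 b hbB) hb1).symm))
          · have hT : (T : Subgroup E) = ⊥ := by
              obtain ⟨n, hn⟩ := IsPGroup.iff_card.1 T.2
              rcases Nat.eq_zero_or_pos n with rfl | hn0
              · exact Subgroup.eq_bot_of_card_eq _ (by rw [hn, pow_zero])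
              · exact absurd ((dvd_pow_self r hn0.ne').trans (hn ▸ Subgroup.card_subgroup_dvd_card _)) hd
            rw [hT, Subgroup.map_bot]
            exact Bot.isCyclic
        haveI := hcyc
        exact isCyclic_of_surjective _
          ((T : Subgroup E).equivMapOfInjective E.subtype E.subtype_injective).symm.surjective
      have hdvd : Nat.card E ∣ p - 1 := by
        rw [← IsZGroup.exponent_eq_card]
        refine dvd_trans ?_ (hexp p hp hpK)
        let ψ : E →* M ⧸ fittingHall M :=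
          (QuotientGroup.mk' (fittingHall M)).comp (Subgroup.inclusion hE.1)
        refine Monoid.exponent_dvd.mpr fun g => ?_
        have hψ : orderOf (ψ g) = orderOf g := by
          refine orderOf_injective ψ ((injective_iff_map_eq_one ψ).mpr fun g hg => Subtype.ext ?_) g
          exact hEK g g.2 ((h.exponent_quot_dvd hM (hE.1 g.2)).2 hg)
        exact hψ ▸ Monoid.order_dvd_exponent _
      have hp1 : 0 < p - 1 := by have := hp.two_le; omega
      obtain ⟨k, hk⟩ := hdvd
      obtain ⟨t, ht⟩ := heven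
      have hpo : p % 2 = 1 := Nat.odd_iff.mp (hp.odd_of_ne_two (ne_two_of_dvd hG hA.maxElem.dvd_card))
      rcases k with _ | _ | k
      · omega
      · omega
      · have : Nat.card E * 2 ≤ Nat.card E * (k + 1 + 1) := Nat.mul_le_mul_left _ (by omega)
        omega
  have hthree : 3 ≤ Nat.card E := by
    have h1 : Nat.card E ≠ 1 := fun e => by
      refine (h.weakTypeI M hM).1.2.2.2.1 (eq_top_iff.mpr fun m _ => ?_)
      obtain ⟨a, ha, b, hb, hab⟩ := hE.2.2.2 m m.2
      have ha1 : a = 1 := by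
        rw [Subgroup.eq_bot_of_card_eq E e, Subgroup.mem_bot] at ha; exact ha
      rw [ha1, one_mul] at hab
      rw [← h.core M hM] at hb
      obtain ⟨b', hb', rfl⟩ := hb
      exact (show m = b' from Subtype.ext hab) ▸ hb'
    obtain ⟨t, ht⟩ := heven
    omega
  -- the derived group of `N_σ`
  have hfive : 5 ≤ ⁅sigmaCore N, sigmaCore N⁆.relIndex (sigmaCore N) := by
    set K := sigmaCore N
    haveI := h.sigmaCore_nilpotent hN.hN
    have hsub : ⁅K, K⁆.subgroupOf K = commutator K := by
      rw [← Subgroup.map_subtype_commutator, Subgroup.subgroupOf,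
        Subgroup.comap_map_eq_self_of_injective K.subtype_injective]
    rw [Subgroup.relIndex, hsub]
    have h1 : (commutator K).index ≠ 1 := fun e => by
      have := h.derived_core_lt hN.hN
      rw [← Subgroup.map_subtype_commutator, Subgroup.index_eq_one.mp e, ← MonoidHom.range_eq_map,
        Subgroup.range_subtype] at this
      exact lt_irrefl _ this
    have h2 : ¬ 2 ∣ (commutator K).index := fun e =>
      not_dvd_two hG K (e.trans (commutator K).index_dvd_card)
    have h3 : (commutator K).index ≠ 3 := by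
      intro e
      have hyK : (⟨y, hy⟩ : K) ∉ commutator K := by rw [← hsub]; exact hyD
      have hsup : Subgroup.zpowers (⟨y, hy⟩ : K) ⊔ commutator K = ⊤ := by
        rw [← Subgroup.index_eq_one]
        have hd := Subgroup.index_dvd_of_le (le_sup_right :
          commutator K ≤ Subgroup.zpowers (⟨y, hy⟩ : K) ⊔ commutator K)
        rw [e] at hd
        refine ((Nat.dvd_prime Nat.prime_three).mp hd).resolve_right fun e' => hyK ?_
        have heq := Subgroup.eq_of_le_of_card_ge (le_sup_right :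
          commutator K ≤ Subgroup.zpowers (⟨y, hy⟩ : K) ⊔ commutator K) (le_of_eq ?_)
        · exact heq ▸ Subgroup.mem_sup_left (Subgroup.mem_zpowers _)
        · have a1 := (commutator K).card_mul_index
          have a2 := (Subgroup.zpowers (⟨y, hy⟩ : K) ⊔ commutator K).card_mul_index
          rw [e] at a1; rw [e'] at a2; omega
      have htop := CfsgLib.RootSub.eq_top_of_sup_commutator _ hsup
      have hbot : commutator K = ⊥ := by
        rw [commutator_def, eq_bot_iff, Subgroup.commutator_le]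
        intro a _ b _
        obtain ⟨i, rfl⟩ := Subgroup.mem_zpowers_iff.mp (htop.ge (Subgroup.mem_top a))
        obtain ⟨j, rfl⟩ := Subgroup.mem_zpowers_iff.mp (htop.ge (Subgroup.mem_top b))
        rw [Subgroup.mem_bot, commutatorElement_eq_one_iff_mul_comm]
        exact (Commute.zpow_zpow_self _ i j).eq
      have hcard : Nat.card K = 3 := by
        have := (commutator K).card_mul_index
        rw [e, hbot, Subgroup.card_bot, one_mul] at this
        exact this.symm
      have hmod := card_fixed_modEq hp (b := z) (by rw [← hzo, pow_orderOf_eq_one]) (A := K)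
        (le_normalizer_piCoreOf (sigma N) N (hU₀ hz).2)
      rw [hfree z hz hz1, Subgroup.card_bot, hcard] at hmod
      have hd := (Nat.modEq_iff_dvd' (by omega : 1 ≤ 3)).mp hmod.symm
      exact ne_two_of_dvd hG hA.maxElem.dvd_card ((Nat.prime_dvd_prime_iff_eq hp Nat.prime_two).mp hd)
    have h0 : (commutator K).index ≠ 0 := Subgroup.index_ne_zero_of_finite
    omega
  refine ⟨N, M, p, x,
    { hL := hN.hN, hM := hM, hp := hp, hp2 := ne_two_of_dvd hG hA.maxElem.dvd_card, hxo := hxo,
      pL := hσ, xK := hAK hxA, xM := hxM, xCL := hN.hle, uniq := huniq,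
      fixed := ⟨y, hy, hyD, hxy⟩, compl := hU, inter := hinter, frob := hfrob,
      three := he.symm ▸ hthree, bound := he.symm ▸ hbound,
      sq := hA.hA2 ▸ Nat.le_of_dvd Nat.card_pos (Subgroup.card_dvd_of_le hAK),
      five := hfive }⟩

end AllI

end CfsgLib.Peterfalvi
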