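import Cfsg.Agent.Lib.Peterfalvi.TameAll

/-!
The maximal subgroups with `κ(M)` empty: a weak form of type I, and type I proper for those
which are Frobenius groups.
-/

set_option autoImplicit false
set_option linter.style.haveILetI false
set_option linter.unusedSectionVars false

open scoped Pointwise
open scoped commutatorElement

namespace CfsgLib.Peterfalvi

open Cfsg
open CfsgLib.BG.FixedLine (conj_mem_of_le_normalizer)

universe u

variable {G : Type u} [Group G] [Finite G] {M : Subgroup G}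

/-- Type I with `O_{p'}(M_F)` in place of `O_{p'}(M)`, as in BG. -/
def IsWeakTypeI (M : Subgroup G) : Prop :=
  IsOfTypeF M ∧
  (IsTISubset (fittingHallOf M : Set G) ∨
    (IsMulCommutative (fittingHallOf M) ∧ RankLE 2 (fittingHallOf M) ∧ ¬ RankLE 1 (fittingHallOf M)) ∨
    ((∀ p : ℕ, p.Prime → p ∣ Nat.card (fittingHallOf M) → Monoid.exponent (M ⧸ fittingHall M) ∣ p - 1) ∧
      ∃ p : ℕ, p.Prime ∧ p ∣ Nat.card (fittingHallOf M) ∧ IsCyclic (pPrimeCore p ↥(fittingHallOf M))))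

theorem fittingHallOf_eq_of_kappa (hG : IsMinSimpleOddOrder G) (hM : IsCoatom M) (hκ : kappa M = ∅) :
    fittingHallOf M = sigmaCore M :=
  OddLocal.fittingHallOf_eq_sigmaCore hG hM (OddLocal.nilpotent_of_kappa_empty hG hM hκ)

theorem typeF_of_kappa (hG : IsMinSimpleOddOrder G) (hM : IsCoatom M) (hκ : kappa M = ∅) : IsOfTypeF M := by
  classical
  have hF := fittingHallOf_eq_of_kappa hG hM hκ
  obtain ⟨E, hE⟩ := OddLocal.exists_compl hG hM
  obtain ⟨⟨A₁, hA₁, hEA₁, hA₁c, hcent⟩, E₀, hE₀, hexp, hfree⟩ := OddLocal.frobenius_type hG hM hE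
    (OddLocal.frobenius_hreg hG hM (fun l hl => (hκ ▸ hl : l ∈ (∅ : Set ℕ))) hE.1)
  have hmem : ∀ v : M, v ∈ fittingHall M ↔ (v : G) ∈ sigmaCore M := fun v => by
    rw [← hF]
    exact ⟨fun h => ⟨v, h, rfl⟩, fun ⟨w, hw, e⟩ => M.subtype_injective e ▸ hw⟩
  have hlt : sigmaCore M < M :=
    lt_of_le_of_lt (OddLocal.sigmaCore_le_derived hG hM) (OddLocal.derived_lt hG hM)
  refine ⟨OddLocal.isSolvable_of_ne_top hG hM.1, hG.1.of_dvd_nat (Subgroup.card_subgroup_dvd_card M),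
    fun e => OddLocal.fittingHallOf_ne_bot hG hM (by rw [fittingHallOf, e, Subgroup.map_bot]),
    fun e => hlt.ne (by rw [← hF, fittingHallOf, e, ← MonoidHom.range_eq_map, Subgroup.range_subtype]),
    E.subgroupOf M, fun e => hlt.ne (le_antisymm hlt.le fun m hm => ?_), ?_,
    ⟨A₁.subgroupOf M, fun v hv => hA₁ hv, fun v hv => ?_, ?_, fun x hx hx1 v hv => ?_⟩,
    E₀.subgroupOf M, fun v hv => hE₀ hv, ?_, fun v hv hv1 x hx hcomm => by_contra fun hx1 => hx1 ?_⟩
  · obtain ⟨a, ha, b, hb, rfl⟩ := hE.2.2.2 m hm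
    have h1 : (⟨a, hE.1 ha⟩ : M) ∈ E.subgroupOf M := ha
    rw [e, Subgroup.mem_bot] at h1
    rw [show a = 1 from congrArg Subtype.val h1, one_mul]
    exact hb
  · refine Subgroup.isComplement'_of_disjoint_and_mul_eq_univ (disjoint_iff.2 ?_)
      (Set.eq_univ_of_forall fun v => ?_)
    · refine (Subgroup.eq_bot_iff_forall _).2 fun v hv => Subtype.ext ?_
      have h1 : (v : G) ∈ E ⊓ sigmaCore M := ⟨hv.2, (hmem v).1 hv.1⟩
      rwa [hE.2.2.1, Subgroup.mem_bot] at h1
    · obtain ⟨a, ha, b, hb, he⟩ := hE.2.2.2 (v⁻¹ : M) (v⁻¹ : M).2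
      refine ⟨⟨b, hE.2.1 hb⟩⁻¹, inv_mem ((hmem _).2 hb), ⟨a, hE.1 ha⟩⁻¹, inv_mem ha, Subtype.ext ?_⟩
      show b⁻¹ * a⁻¹ = v
      rw [← mul_inv_rev, ← he]; simp
  · have := hEA₁ hv
    refine Subgroup.mem_normalizer_iff.2 fun w => ?_
    exact Subgroup.mem_normalizer_iff.1 this w
  · haveI := hA₁c
    exact ⟨⟨fun a b => Subtype.ext (Subtype.ext (by
      have := congrArg Subtype.val (mul_comm' (⟨((a : M) : G), a.2⟩ : A₁) ⟨((b : M) : G), b.2⟩)
      exact this))⟩⟩
  · refine hcent x ((hmem x).1 hx) (fun e => hx1 (Subtype.ext e)) ⟨hv.1,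
      Subgroup.mem_centralizer_singleton_iff.2 ?_⟩
    exact congrArg Subtype.val (Subgroup.mem_centralizer_singleton_iff.1 hv.2)
  · rw [Monoid.exponent_eq_of_mulEquiv (Subgroup.subgroupOfEquivOfLe (hE₀.trans hE.1)),
      Monoid.exponent_eq_of_mulEquiv (Subgroup.subgroupOfEquivOfLe hE.1), hexp]
  · refine Subtype.ext (Subgroup.mem_bot.1 ((hfree v hv fun e => hv1 (Subtype.ext e)).le
      ⟨(hmem x).1 hx, Subgroup.mem_centralizer_singleton_iff.2 ?_⟩))
    exact (congrArg Subtype.val hcomm).symm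

/-- BG 16: a maximal subgroup with `κ(M)` empty is weakly of type I, and of type I unless its
`M_F` is nonabelian and not TI. -/
theorem weakTypeI_of_kappa (hG : IsMinSimpleOddOrder G) (hM : IsCoatom M) (hκ : kappa M = ∅) :
    IsWeakTypeI M := by
  classical
  refine ⟨typeF_of_kappa hG hM hκ, ?_⟩
  by_cases hti : IsTISubset (fittingHallOf M : Set G)
  · exact Or.inl hti
  obtain ⟨K, U, hKU⟩ := OddLocal.exists_sigmaDecomposition hG hM
  have hK : K = ⊥ := by
    by_contra hK1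
    obtain ⟨l, hl, hd⟩ := Nat.exists_prime_and_dvd fun e : Nat.card K = 1 => hK1 (Subgroup.card_eq_one.1 e)
    have := hKU.hall.2.1 l hl hd
    rw [hκ] at this
    exact this
  rw [IsTISubset] at hti
  push Not at hti
  obtain ⟨g, hg, x, hx, hgx, hx1⟩ := hti
  have hgM : g ∉ M := fun hgM => hg (le_normalizer_fittingHallOf M hgM)
  have hFF : fittingHallOf M ≤ fittingOf M :=
    (le_sup_right.trans (OddLocal.fittingOf_eq_centralizer_sup hG hM).ge)
  have hX : fittingOf M ⊓ (fittingOf M).map (MulAut.conj g).toMonoidHom ≠ ⊥ := fun e =>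
    hx1 (conj_eq_one_iff.1 (Subgroup.mem_bot.1 (e.le ⟨hFF hgx, x, hFF hx, rfl⟩)))
  obtain ⟨⟨hXF, -⟩, -, hcases⟩ := OddLocal.fitting_not_ti_structure hG hM hKU hgM hX
  rcases hcases with ⟨-, h1⟩ | ⟨p, hp, hpX, -, -, -, hcyc, hexp⟩ | ⟨p, hp, -, -, -, -, -, -, hK1, -⟩
  · exact Or.inr (Or.inl h1)
  · exact Or.inr (Or.inr ⟨hexp, p, hp, hpX ▸ Subgroup.card_dvd_of_le hXF, hcyc⟩)
  · exact absurd hK hK1

/-- `O_{p'}(M)` for a Frobenius group with kernel `M_F`. -/
theorem pPrimeCore_cyclic_of_frobenius {p : ℕ} (hp : p.Prime) (hd : p ∣ Nat.card (fittingHallOf M))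
    (hfrob : ∀ x ∈ fittingHallOf M, x ≠ 1 → M ⊓ Subgroup.centralizer ({x} : Set G) ≤ fittingHallOf M)
    (hc : IsCyclic (pPrimeCore p ↥(fittingHallOf M))) : IsCyclic (pPrimeCore p M) := by
  haveI := Fact.mk hp
  set F := fittingHallOf M with hFdef
  have hFM : F ≤ M := fittingHallOf_le M
  obtain ⟨z, hz, hzo⟩ := OddLocal.exists_order_of_dvd hp hd
  have hz1 : z ≠ 1 := fun e => hp.ne_one (by rw [← hzo, e, orderOf_one])
  haveI hOn : (pPrimeCore p M).Normal := inferInstance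
  haveI hFn : (fittingHall M).Normal := fittingHall_normal M
  have hle : (pPrimeCore p M).map M.subtype ≤ F := by
    rintro _ ⟨w, hw, rfl⟩
    -- a `p`-element of `F` commutes with `w`
    obtain ⟨v, hv, hvz⟩ : ∃ v ∈ fittingHall M, (v : G) = z := by
      obtain ⟨v, hv, e⟩ := hz
      exact ⟨v, hv, e⟩
    by_cases hwv : w * v = v * w
    · exact hfrob z hz hz1 ⟨w.2, Subgroup.mem_centralizer_singleton_iff.2 (by
        rw [← hvz]; exact congrArg Subtype.val hwv)⟩
    exfalso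
    -- the commutator lies in both normal subgroups
    have h1 : ⁅w, v⁆ ∈ pPrimeCore p M ⊓ fittingHall M := by
      rw [commutatorElement_def]
      refine ⟨?_, Subgroup.mul_mem _ (hFn.conj_mem v hv w) (Subgroup.inv_mem _ hv)⟩
      rw [mul_assoc, mul_assoc]
      refine Subgroup.mul_mem _ hw ?_
      rw [← mul_assoc]
      exact hOn.conj_mem _ (Subgroup.inv_mem _ hw) v
    have h2 : ⁅⁅w, v⁆, v⁆ = 1 := by
      haveI := Peterfalvi.fittingHall_isNilpotent (G := M)
      rw [commutatorElement_eq_one_iff_mul_comm]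
      refine congrArg Subtype.val ((CfsgLib.Hall.commute_of_coprime_orderOf (G := fittingHall M) (p := p) (j := 1)
        (x := ⟨v, hv⟩) (y := ⟨⁅w, v⁆, h1.2⟩) ?_ ?_).symm)
      · rw [Subgroup.orderOf_mk, pow_one, ← Subgroup.orderOf_coe, hvz, hzo]
      · rw [Subgroup.orderOf_mk]
        refine Nat.Coprime.coprime_dvd_left (Subgroup.orderOf_dvd_natCard _ h1.1) ?_
        exact CfsgLib.Transfer.pPrimeCore_coprime (G := M) p
    -- so `w` moves `v` by an element commuting with it, of order prime to `p`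
    have h3 : Commute ⁅w, v⁆ v := commutatorElement_eq_one_iff_mul_comm.1 h2
    have hvo : orderOf v = p := by rw [← Subgroup.orderOf_coe, hvz, hzo]
    have h4 : orderOf ⁅w, v⁆ ∣ p := by
      refine orderOf_dvd_of_pow_eq_one ?_
      have e1 : (⁅w, v⁆ * v) ^ p = 1 := by
        rw [show ⁅w, v⁆ * v = w * v * w⁻¹ by rw [commutatorElement_def]; group, conj_pow, ← hvo,
          pow_orderOf_eq_one, mul_one, mul_inv_cancel]
      rwa [h3.mul_pow, ← hvo, pow_orderOf_eq_one, mul_one, hvo] at e1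
    have hco : (orderOf ⁅w, v⁆).Coprime p := Nat.Coprime.coprime_dvd_left
      (Subgroup.orderOf_dvd_natCard _ h1.1) (CfsgLib.Transfer.pPrimeCore_coprime (G := M) p)
    have h5 : ⁅w, v⁆ = 1 := orderOf_eq_one_iff.1 (Nat.eq_one_of_dvd_coprimes hco dvd_rfl h4)
    exact hwv (commutatorElement_eq_one_iff_mul_comm.1 h5)
  set N := ((pPrimeCore p M).map M.subtype).subgroupOf F with hN
  haveI : N.Normal := by
    refine (Subgroup.normal_subgroupOf_iff_le_normalizer hle).2 (hFM.trans fun m hm => ?_)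
    exact OddLocal.map_normalizes M.subtype (fun g _ => (Subgroup.normalizer_eq_top_iff.2 hOn).ge trivial)
      ⟨⟨m, hm⟩, Subgroup.mem_top _, rfl⟩
  have hNle : N ≤ pPrimeCore p F := CfsgLib.Transfer.le_pPrimeCore inferInstance (by
    rw [hN, Nat.card_congr (Subgroup.subgroupOfEquivOfLe hle).toEquiv, Subgroup.card_subtype]
    exact CfsgLib.Transfer.pPrimeCore_coprime (G := M) p)
  haveI := Subgroup.isCyclic_of_le hNle
  haveI : IsCyclic ↥((pPrimeCore p M).map M.subtype) :=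
    isCyclic_of_surjective _ (Subgroup.subgroupOfEquivOfLe hle).surjective
  exact isCyclic_of_surjective _
    ((pPrimeCore p M).equivMapOfInjective M.subtype M.subtype_injective).symm.surjective

/-- A weakly type I Frobenius group is of type I. -/
theorem typeI_of_weak_of_frobenius (hW : IsWeakTypeI M)
    (hfrob : ∀ x ∈ fittingHallOf M, x ≠ 1 → M ⊓ Subgroup.centralizer ({x} : Set G) ≤ fittingHallOf M) :
    IsOfTypeI M := by
  obtain ⟨hF, h | h | ⟨hexp, p, hp, hd, hc⟩⟩ := hW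
  · exact ⟨hF, Or.inl h⟩
  · exact ⟨hF, Or.inr (Or.inl h)⟩
  · exact ⟨hF, Or.inr (Or.inr ⟨hexp, p, hp, hd, pPrimeCore_cyclic_of_frobenius hp hd hfrob hc⟩)⟩

/-- `M' = F(M) = M_σ` for a Frobenius group with kernel `M_F`, if `M' ≤ F(M)`. -/
theorem derived_eq_fitting_of_frobenius (hG : IsMinSimpleOddOrder G) (hM : IsCoatom M) (hκ : kappa M = ∅)
    (hfrob : ∀ x ∈ fittingHallOf M, x ≠ 1 → M ⊓ Subgroup.centralizer ({x} : Set G) ≤ fittingHallOf M)
    (hle : ⁅M, M⁆ ≤ fittingOf M) : ⁅M, M⁆ = fittingOf M ∧ fittingOf M = sigmaCore M := by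
  have hF := fittingHallOf_eq_of_kappa hG hM hκ
  have h1 : fittingOf M = sigmaCore M := by
    rw [OddLocal.fittingOf_eq_centralizer_sup hG hM]
    refine le_antisymm (sup_le (fun c hc => hF ▸ ?_) hF.le) (hF ▸ le_sup_right)
    obtain ⟨⟨y, hy⟩, hy1⟩ := (Subgroup.ne_bot_iff_exists_ne_one).1 (OddLocal.fittingHallOf_ne_bot hG hM)
    exact hfrob y hy (fun e => hy1 (Subtype.ext e))
      ⟨hc.1, Subgroup.mem_centralizer_singleton_iff.2 (hc.2 y hy).symm⟩
  exact ⟨le_antisymm hle (h1.le.trans (OddLocal.sigmaCore_le_derived hG hM)), h1⟩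

end CfsgLib.Peterfalvi
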